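import Cfsg.Agent.Lib.CharP.PushOne.Final
import Cfsg.Agent.Lib.Classical.SmallIso
import Cfsg.Agent.Lib.Transfer.NormalPComplement
import Cfsg.Agent.Lib.Cores.Basic
import Cfsg.Agent.Lib.Classical.Linear
import Cfsg.Prelude.Def_EvenTechniques
import Cfsg.Prelude.Def_CaseTheorems

/-!
Pushing up over `L₂(2ⁿ)`: the residual is a near component.
-/

set_option autoImplicit false
set_option linter.unusedSectionVars false
set_option linter.style.haveILetI false

namespace Cfsg.Agent.CharP.PushOne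

open Subgroup Cfsg.Agent.Classical.GL2 Matrix
open scoped MatrixGroups commutatorElement

variable {F : Type} [Field F] [Fintype F]

theorem upper_of_normalizer {A : SL(2, F)}
    (hA : pr A ∈ normalizer (upperP F : Set PSL(2, F))) : (A : Matrix (Fin 2) (Fin 2) F) 1 0 = 0 := by
  obtain ⟨c, hc⟩ : ∃ c, (A : Matrix (Fin 2) (Fin 2) F) 1 0 = c := ⟨_, rfl⟩
  obtain ⟨a, ha⟩ : ∃ a, (A : Matrix (Fin 2) (Fin 2) F) 0 0 = a := ⟨_, rfl⟩
  by_contra h0
  rw [hc] at h0
  have h1 := (mem_normalizer_iff.1 hA (pr (uniSL 1))).1 (mem_upperP.2 ⟨1, rfl⟩)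
  have h2 : pr (uniSL (-(a / c))) * (pr A * pr (uniSL 1) * (pr A)⁻¹) * pr (uniSL (a / c)) ∈ upperP F :=
    mul_mem (mul_mem (mem_upperP.2 ⟨_, rfl⟩) h1) (mem_upperP.2 ⟨_, rfl⟩)
  rw [← map_inv, ← map_mul, ← map_mul, ← map_mul, ← map_mul, conj_uni_lower A hc ha h0, mul_one] at h2
  obtain ⟨x, hx⟩ := mem_upperP.1 h2
  have := (pr_uni_eq_low hx).2
  simp [h0] at this

/-- A subgroup containing the upper group and an element outside its normaliser is everything. -/
theorem top_of_upper {H : Subgroup PSL(2, F)} (hu : upperP F ≤ H) (hH : ¬ H ≤ normalizer (upperP F : Set PSL(2, F))) :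
    H = ⊤ := by
  obtain ⟨y, hy, hyn⟩ := Set.not_subset.1 hH
  obtain ⟨A, rfl⟩ := QuotientGroup.mk'_surjective (Subgroup.center SL(2, F)) y
  obtain ⟨c, hc⟩ : ∃ c, (A : Matrix (Fin 2) (Fin 2) F) 1 0 = c := ⟨_, rfl⟩
  have hc0 : c ≠ 0 := fun h0 => hyn (mem_normalizer_fintype fun z hz => by
    obtain ⟨x, rfl⟩ := mem_upperP.1 hz
    show pr A * pr (uniSL x) * (pr A)⁻¹ ∈ upperP F
    rw [← map_inv, ← map_mul, ← map_mul, conj_uni_upper A (hc.trans h0)]
    exact mem_upperP.2 ⟨_, rfl⟩)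
  have htop : H.comap (QuotientGroup.mk' (Subgroup.center SL(2, F))) = ⊤ := by
    refine eq_top_of_uni_low (fun x => hu (mem_upperP.2 ⟨x, rfl⟩)) fun y => ?_
    rw [show lowSL y = lowSL (-(c * c * (-(y / (c * c))))) by congr 1; field_simp,
      ← conj_uni_lower A hc rfl hc0, mem_comap, map_mul, map_mul, map_mul, map_mul, map_inv]
    exact mul_mem (mul_mem (hu (mem_upperP.2 ⟨_, rfl⟩))
      (mul_mem (mul_mem hy (hu (mem_upperP.2 ⟨_, rfl⟩))) (inv_mem hy))) (hu (mem_upperP.2 ⟨_, rfl⟩))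
  rw [eq_top_iff]
  intro z _
  obtain ⟨B, rfl⟩ := QuotientGroup.mk'_surjective (Subgroup.center SL(2, F)) z
  exact htop.ge (mem_top B)

variable {G : Type*} [Group G] [Finite G] {p : ℕ} [hp : Fact p.Prime]

/-- Over `PSL(2, F)` modulo the core a Sylow group lies in a single maximal subgroup. -/
theorem existsUnique_max {n : ℕ} (hn : 1 ≤ n) (hF : Fintype.card F = p ^ n)
    (e : G ⧸ Cfsg.pCore p G ≃* PSL(2, F)) (T : Sylow p G) :
    ∃! M : Subgroup G, IsCoatom M ∧ (T : Subgroup G) ≤ M := by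
  set φ0 : G →* PSL(2, F) := e.toMonoidHom.comp (QuotientGroup.mk' (Cfsg.pCore p G)) with hφ0
  have hs : Function.Surjective φ0 := e.surjective.comp (QuotientGroup.mk'_surjective _)
  have hU : IsPGroup p (upperP F) :=
    IsPGroup.of_card (n := n) (by rw [natCard_upperP, Nat.card_eq_fintype_card, hF])
  obtain ⟨P, hP⟩ := hU.exists_le_sylow
  have hPU : (P : Subgroup PSL(2, F)) = upperP F :=
    (eq_of_le_of_card_ge hP ((card_le_field P.isPGroup' hn hF).trans natCard_upperP.ge)).symm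
  obtain ⟨y, hy⟩ := MulAction.exists_smul_eq PSL(2, F) (T.mapSurjective hs) P
  set φ := (MulAut.conj y).toMonoidHom.comp φ0 with hφ
  have hφs : Function.Surjective φ := (MulAut.conj y).surjective.comp hs
  have hup : (T : Subgroup G).map φ = upperP F := by
    rw [← hPU, ← hy, Sylow.coe_subgroup_smul, Sylow.coe_mapSurjective, hφ, ← Subgroup.map_map]
    rfl
  have hker : φ.ker ≤ (T : Subgroup G) := fun x hx => by
    rw [MonoidHom.mem_ker, hφ, MonoidHom.comp_apply, MulEquiv.toMonoidHom_eq_coe, MonoidHom.coe_coe,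
      MulEquiv.map_eq_one_iff, hφ0, MonoidHom.comp_apply, MulEquiv.toMonoidHom_eq_coe,
      MonoidHom.coe_coe, MulEquiv.map_eq_one_iff] at hx
    exact Cores.pCore_le_sylow T ((QuotientGroup.eq_one_iff x).1 hx)
  set M := (normalizer (upperP F : Set PSL(2, F))).comap φ with hM
  have hTM : (T : Subgroup G) ≤ M := map_le_iff_le_comap.1 (hup.le.trans le_normalizer)
  have hle : ∀ H : Subgroup G, (T : Subgroup G) ≤ H → H ≠ ⊤ → H ≤ M := fun H hTH hne => by
    by_contra hnot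
    refine hne ?_
    have h1 := top_of_upper (H := H.map φ) (hup ▸ map_mono hTH) fun hc => hnot (map_le_iff_le_comap.1 hc)
    have h2 : (H.map φ).comap φ = H := comap_map_eq_self (hker.trans hTH)
    rw [← h2, h1, comap_top]
  have hMne : M ≠ ⊤ := fun htop => by
    obtain ⟨w, hw⟩ := hφs (pr (wSL : SL(2, F)))
    have h1 : φ w ∈ normalizer (upperP F : Set PSL(2, F)) := htop.ge (mem_top w)
    rw [hw] at h1
    have := upper_of_normalizer h1
    simp [coe_wSL] at this
  obtain ⟨M', hM', hMM'⟩ := (eq_top_or_exists_le_coatom M).resolve_left hMne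
  have e1 : M' = M := le_antisymm (hle M' (hTM.trans hMM') hM'.1) hMM'
  subst e1
  exact ⟨M, ⟨hM', hTM⟩, fun N hN =>
    ((le_antisymm (hle N hN.2 hN.1.1) ((hN.1.le_iff.1 (hle N hN.2 hN.1.1)).resolve_left hMne).le))⟩

theorem fixed_sq {A : SL(2, F)} (h2 : (2 : F) = 0) {v : Fin 2 → F} (hv : v ≠ 0) (h : A.1.mulVec v = v) :
    A * A = 1 := by
  obtain ⟨a, ha⟩ : ∃ a, A.1 0 0 = a := ⟨_, rfl⟩
  obtain ⟨b, hb⟩ : ∃ b, A.1 0 1 = b := ⟨_, rfl⟩
  obtain ⟨c, hc⟩ : ∃ c, A.1 1 0 = c := ⟨_, rfl⟩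
  obtain ⟨d, hd⟩ : ∃ d, A.1 1 1 = d := ⟨_, rfl⟩
  have hdet : a * d - b * c = 1 := by
    have := A.2; rw [det_fin_two, ha, hb, hc, hd] at this; exact this
  have e0 : a * v 0 + b * v 1 = v 0 := by
    simpa [Matrix.mulVec, dotProduct, Fin.sum_univ_two, ha, hb] using congrFun h 0
  have e1 : c * v 0 + d * v 1 = v 1 := by
    simpa [Matrix.mulVec, dotProduct, Fin.sum_univ_two, hc, hd] using congrFun h 1
  have htr : a + d = 0 := by
    have k0 : ((a - 1) * (d - 1) - b * c) * v 0 = 0 := by linear_combination (d - 1) * e0 - b * e1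
    have k1 : ((a - 1) * (d - 1) - b * c) * v 1 = 0 := by linear_combination (a - 1) * e1 - c * e0
    rcases mul_eq_zero.1 k0 with k | k
    · linear_combination hdet - k + h2
    rcases mul_eq_zero.1 k1 with k' | k'
    · linear_combination hdet - k' + h2
    exact absurd (funext fun i => by fin_cases i <;> simp [k, k']) hv
  refine sl_ext ?_
  ext i j
  fin_cases i <;> fin_cases j <;>
    simp [Matrix.SpecialLinearGroup.coe_mul, Matrix.mul_apply, Fin.sum_univ_two, ha, hb, hc, hd]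
  · linear_combination a * htr - hdet - h2
  · linear_combination b * htr
  · linear_combination c * htr
  · linear_combination d * htr - hdet - h2

/-- The residual of `SL(2, F)` in characteristic two. -/
theorem residual_SL {n : ℕ} (hn : 1 ≤ n) (hF : Fintype.card F = 2 ^ n) :
    IsSimpleGroup ↥(Cfsg.pResidual 2 SL(2, F)) ∧
    ∃ r ∈ Cfsg.pResidual 2 SL(2, F), r * r ≠ 1 ∧
      ∀ H : AddSubgroup (Fin 2 → F), (∀ A ∈ Cfsg.pResidual 2 SL(2, F), ∀ v ∈ H, A.1.mulVec v ∈ H) →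
        ∀ v ∈ H, v ≠ 0 → H = ⊤ := by
  haveI : Fact (Nat.Prime 2) := ⟨Nat.prime_two⟩
  set R := Cfsg.pResidual 2 SL(2, F) with hR
  have hcard : Nat.card SL(2, F) = Fintype.card F * ((Fintype.card F - 1) * (Fintype.card F + 1)) :=
    natCard_SL_two
  obtain ⟨k, hk⟩ := Transfer.NormalPComplement.index_pResidual (p := 2) (G := SL(2, F))
  have hRk : Nat.card R * 2 ^ k = Nat.card SL(2, F) := hk ▸ R.card_mul_index
  have hodd : Odd (Fintype.card F + 1) := by
    rw [hF, Nat.odd_add_one, Nat.not_odd_iff_even]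
    exact even_two.pow_of_ne_zero (by omega)
  have hdvd : (Fintype.card F + 1) ∣ Nat.card R :=
    (Nat.Coprime.pow_right k hodd.coprime_two_right).dvd_of_dvd_mul_right
      (hRk ▸ hcard ▸ dvd_mul_of_dvd_right (dvd_mul_left _ _) _)
  obtain ⟨q, hq, hq'⟩ := Nat.exists_prime_and_dvd (n := Fintype.card F + 1)
    (by have := Fintype.card_pos (α := F); omega)
  haveI := Fact.mk hq
  obtain ⟨⟨r, hr⟩, hrq⟩ := exists_prime_orderOf_dvd_card' (G := ↥R) q (hq'.trans hdvd)
  rw [orderOf_mk] at hrq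
  have hr2 : r * r ≠ 1 := fun e => by
    have h1 : q ∣ 2 := hrq ▸ orderOf_dvd_of_pow_eq_one (by rw [pow_two]; exact e)
    have h2 := (Nat.prime_dvd_prime_iff_eq hq Nat.prime_two).1 h1
    subst h2
    exact Nat.not_even_iff_odd.2 hodd (even_iff_two_dvd.2 hq')
  have h2 : (2 : F) = 0 := by
    have := FiniteField.cast_card_eq_zero F
    rw [hF] at this
    push_cast at this
    exact eq_zero_of_pow_eq_zero this
  refine ⟨?_, r, hr, hr2, ?_⟩
  swap
  · intro H hH v hv hv0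
    rcases Nat.lt_or_ge n 2 with h | h
    · obtain rfl : n = 1 := by omega
      have h4 : Nat.card (Fin 2 → F) = 4 := by
        rw [Nat.card_fun, Nat.card_eq_fintype_card, hF]; simp
      by_contra hne
      have h5 : Nat.card H ∣ 4 := h4 ▸ H.card_addSubgroup_dvd_card
      have hw := hH r hr v hv
      have hw1 : r.1.mulVec v ≠ v := fun e => hr2 (fixed_sq h2 hv0 e)
      have hw0 : r.1.mulVec v ≠ 0 := fun e => hv0 (by
        have h6 := congrArg ((r⁻¹ : SL(2, F)).1.mulVec) e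
        rw [mulVec_mulVec, mulVec_zero, ← Matrix.SpecialLinearGroup.coe_mul, inv_mul_cancel, val_one',
          one_mulVec] at h6
        exact h6)
      have h3 : 3 ≤ Nat.card H := by
        classical
        have : ({⟨0, H.zero_mem⟩, ⟨v, hv⟩, ⟨_, hw⟩} : Finset H).card = 3 :=
          Finset.card_eq_three.2 ⟨_, _, _, fun e => hv0 (congrArg Subtype.val e).symm,
            fun e => hw0 (congrArg Subtype.val e).symm, fun e => hw1 (congrArg Subtype.val e).symm, rfl⟩
        rw [← this, Nat.card_eq_fintype_card]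
        exact Finset.card_le_univ _
      refine hne (AddSubgroup.eq_top_of_card_eq H ?_)
      rw [h4]
      have := Nat.le_of_dvd (by norm_num) h5
      interval_cases hc : Nat.card H
      · norm_num at h5
      · rfl
    · have hRt : R = ⊤ := by
        obtain ⟨e⟩ : Nonempty (SL(2, F) ≃* PSL(2, F)) := by
          refine ⟨MulEquiv.ofBijective (QuotientGroup.mk' (Subgroup.center SL(2, F))) ⟨?_, QuotientGroup.mk'_surjective _⟩⟩
          refine (injective_iff_map_eq_one _).2 fun A hA => ?_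
          obtain ⟨c, hc, hAc⟩ := Matrix.SpecialLinearGroup.mem_center_iff.1 ((QuotientGroup.eq_one_iff A).1 hA)
          have hc1 : c = 1 := by
            simp only [Fintype.card_fin] at hc
            have : (c - 1) * (c - 1) = 0 := by linear_combination hc + (1 - c) * h2
            exact sub_eq_zero.1 (mul_self_eq_zero.1 this)
          subst hc1
          exact sl_ext (by rw [← hAc]; simp)
        haveI hs : IsSimpleGroup PSL(2, F) := Classical.Linear.isSimpleGroup_PSL_fin le_rfl fun _ => by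
          rw [hF]; calc 4 = 2 ^ 2 := by norm_num
            _ ≤ _ := Nat.pow_le_pow_right (by norm_num) h
        haveI : Nontrivial SL(2, F) := e.toEquiv.nontrivial
        haveI : IsSimpleGroup SL(2, F) := IsSimpleGroup.isSimpleGroup_of_surjective e.symm.toMonoidHom e.symm.surjective
        refine (Transfer.NormalPComplement.pResidual_normal (p := 2) (G := SL(2, F))).eq_bot_or_eq_top.resolve_left fun e => hr2 ?_
        rw [hR, e, mem_bot] at hr
        rw [hr, one_mul]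
      exact eq_top_of_invariant H (fun A => hH A (hRt ▸ mem_top A)) hv hv0
  · rcases Nat.lt_or_ge n 2 with h | h
    · obtain rfl : n = 1 := by omega
      rw [hF] at hcard
      norm_num at hcard
      obtain ⟨P⟩ : Nonempty (Sylow 3 SL(2, F)) := inferInstance
      haveI : Fact (Nat.Prime 3) := ⟨Nat.prime_three⟩
      have hPc : Nat.card (P : Subgroup SL(2, F)) = 3 := by
        rw [Sylow.card_eq_multiplicity, hcard]
        rw [show (6 : ℕ) = 2 * 3 by norm_num, Nat.factorization_mul (by norm_num) (by norm_num)]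
        simp [Nat.Prime.factorization Nat.prime_three, Nat.Prime.factorization Nat.prime_two]
      have hPi : (P : Subgroup SL(2, F)).index = 2 := by
        have := (P : Subgroup SL(2, F)).card_mul_index
        rw [hPc, hcard] at this; omega
      haveI := Subgroup.normal_of_index_eq_two hPi
      have hle : R ≤ (P : Subgroup SL(2, F)) := Transfer.NormalPComplement.pResidual_le_of_index_eq (k := 1) (by rw [hPi]; rfl)
      have hRc : Nat.card R = 3 := by
        have h1 : Nat.card R ∣ 3 := hPc ▸ card_dvd_of_le hle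
        rcases (Nat.dvd_prime Nat.prime_three).1 h1 with h3 | h3
        · exfalso
          rw [h3, hF] at hdvd
          norm_num at hdvd
        · exact h3
      exact isSimpleGroup_of_prime_card hRc
    · have e4 : 4 ≤ Fintype.card F := by
        rw [hF]; calc 4 = 2 ^ 2 := by norm_num
          _ ≤ _ := Nat.pow_le_pow_right (by norm_num) h
      haveI hs : IsSimpleGroup PSL(2, F) := Classical.Linear.isSimpleGroup_PSL_fin le_rfl fun _ => e4
      set f : ↥R →* PSL(2, F) := (QuotientGroup.mk' (Subgroup.center SL(2, F))).comp R.subtype with hf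
      have hfi : Function.Injective f := (injective_iff_map_eq_one f).2 fun A hA => by
        obtain ⟨c, hc, hAc⟩ := Matrix.SpecialLinearGroup.mem_center_iff.1
          ((QuotientGroup.eq_one_iff (A : SL(2, F))).1 hA)
        have hc1 : c = 1 := by
          simp only [Fintype.card_fin] at hc
          have : (c - 1) * (c - 1) = 0 := by linear_combination hc + (1 - c) * h2
          exact sub_eq_zero.1 (mul_self_eq_zero.1 this)
        subst hc1
        exact Subtype.ext (sl_ext (by rw [← hAc]; simp))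
      have hfn : f.range.Normal := by
        rw [hf, MonoidHom.range_comp, range_subtype]
        exact Normal.map inferInstance _ (QuotientGroup.mk'_surjective _)
      have hfs : Function.Surjective f := MonoidHom.range_eq_top.1
        (hfn.eq_bot_or_eq_top.resolve_left fun e => hr2 (by
          have h1 : f ⟨r, hr⟩ = f 1 := by
            rw [map_one, ← mem_bot, ← e]; exact ⟨_, rfl⟩
          have h3 : r = 1 := congrArg Subtype.val (hfi h1)
          rw [h3, one_mul]))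
      haveI : Nontrivial ↥R := (MulEquiv.ofBijective f ⟨hfi, hfs⟩).toEquiv.nontrivial
      exact IsSimpleGroup.isSimpleGroup_of_surjective (MulEquiv.ofBijective f ⟨hfi, hfs⟩).symm.toMonoidHom
        (MulEquiv.ofBijective f ⟨hfi, hfs⟩).symm.surjective

/-- The residual is a near component. -/
theorem nearComponent {S : Subgroup G} {φ : G →* PSL(2, F)} [Fact (Nat.Prime 2)]
    (h : Sit 2 F S φ) {n : ℕ} (hn : 1 ≤ n) (hF : Fintype.card F = 2 ^ n) :
    Cfsg.IsNearComponent ↥(Cfsg.pResidual 2 G) := by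
  rcases h.cases with r | r
  swap
  · exact absurd r.three (by norm_num)
  set L := Cfsg.pResidual 2 G with hL
  set V := PushingUpCL.omegaCore 2 G with hVd
  set Q := Cfsg.pCore 2 G with hQd
  obtain ⟨ρ, hρ, hk, hV⟩ := h.kerOne r
  obtain ⟨fV, hfVs, hfVk, hfV⟩ := hV
  set R := Cfsg.pResidual 2 SL(2, F) with hRd
  have hLR : L.map ρ = R := Transfer.NormalPComplement.map_pResidual_of_surjective hρ.2.1
  obtain ⟨hsimple, r0, hr0, hr02, hirr⟩ := residual_SL hn hF
  have h2 : (2 : F) = 0 := by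
    have := h.cast_eq_zero
    exact_mod_cast this
  obtain ⟨l0, hl0, hlr⟩ : ∃ l ∈ L, ρ l = r0 := hLR.ge hr0
  have hP : (Cfsg.pCore 2 ↥L).map L.subtype = Q ⊓ L := Cores.map_pCore_subtype_eq_inf 2 L
  have hPm : ∀ x : ↥L, x ∈ Cfsg.pCore 2 ↥L ↔ (x : G) ∈ Q := fun x => by
    refine ⟨fun hx => (hP.le ⟨x, hx, rfl⟩).1, fun hx => ?_⟩
    obtain ⟨y, hy, e⟩ := hP.ge ⟨hx, x.2⟩
    rwa [← Subtype.ext e]
  let χ : ↥V → (Fin 2 → F) := fun v => (fV v).toAdd
  have hχ : ∀ (g : G) (v : ↥V), χ ⟨g * v * g⁻¹, conj_mem v.2 g⟩ = (ρ g).1.mulVec (χ v) :=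
    fun g v => hfV g v ⟨_, conj_mem v.2 g⟩ rfl
  have hχk : ∀ v : ↥V, χ v = 0 ↔ (v : G) ∈ omG 2 G := fun v => by
    rw [← hfVk]; exact Multiplicative.toAdd.injective.eq_iff' rfl
  -- commutators with the chosen element
  have hcomm : ∀ v : ↥V, χ v ≠ 0 → ∃ (hm : ⁅l0, (v : G)⁆ ∈ V), χ ⟨_, hm⟩ ≠ 0 := fun v hv => by
    have hm : ⁅l0, (v : G)⁆ ∈ V := by
      rw [commutatorElement_def]; exact mul_mem (conj_mem v.2 l0) (inv_mem v.2)
    refine ⟨hm, fun e => hr02 (fixed_sq h2 hv ?_)⟩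
    have e1 : (⟨_, hm⟩ : ↥V) = ⟨l0 * v * l0⁻¹, conj_mem v.2 l0⟩ * v⁻¹ :=
      Subtype.ext (by simp [commutatorElement_def])
    rw [e1] at e
    simp only [χ, map_mul, map_inv, toAdd_mul, toAdd_inv, add_neg_eq_zero] at e
    rw [← hlr]
    exact (hχ l0 v).symm.trans e
  set A := ⁅Cfsg.pCore 2 ↥L, (⊤ : Subgroup ↥L)⁆ with hA
  have hAV : ∀ a ∈ A, (a : G) ∈ V := fun a ha => by
    have hle : A ≤ V.subgroupOf L := commutator_le.2 fun x hx y _ => mem_subgroupOf.2 (by
      have := r.coreTop (commutator_mem_commutator ((hPm x).1 hx) (mem_top (y : G)))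
      simpa [commutatorElement_def] using this)
    exact mem_subgroupOf.1 (hle ha)
  have hAc : ∀ a ∈ A, (a : G) ∈ omG 2 G → a ∈ A ⊓ Subgroup.center ↥L := fun a ha hc =>
    ⟨ha, Subgroup.mem_center_iff.2 fun y => Subtype.ext (hc.2 y (mem_top _))⟩
  have hAc' : ∀ a (ha : a ∈ A), a ∈ Subgroup.center ↥L → χ ⟨a, hAV a ha⟩ = 0 := fun a ha hc => by
    by_contra hne
    obtain ⟨hm, hne'⟩ := hcomm ⟨a, hAV a ha⟩ hne
    refine hne' ((hχk _).2 ?_)
    have h1 : ⁅l0, (a : G)⁆ = 1 := commutatorElement_eq_one_iff_mul_comm.2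
      (congrArg Subtype.val (Subgroup.mem_center_iff.1 hc ⟨l0, hl0⟩))
    show ⁅l0, (a : G)⁆ ∈ omG 2 G
    rw [h1]; exact one_mem _
  obtain ⟨v0, hv0⟩ : ∃ v : ↥V, χ v ≠ 0 := by
    obtain ⟨v, hv⟩ := hfVs (Multiplicative.ofAdd fun _ => 1)
    refine ⟨v, fun e => ?_⟩
    have := congrFun e 0
    simp [χ, hv] at this
  obtain ⟨hm0, hm0'⟩ := hcomm v0 hv0
  have hm0L : ⁅l0, (v0 : G)⁆ ∈ L := by
    rw [show ⁅l0, (v0 : G)⁆ = l0 * (v0 * l0⁻¹ * (v0 : G)⁻¹) by rw [commutatorElement_def]; group]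
    exact mul_mem hl0 (conj_mem (inv_mem hl0) _)
  obtain ⟨hm1, hm1'⟩ := hcomm ⟨_, hm0⟩ hm0'
  have hm1A : ⁅(⟨l0, hl0⟩ : ↥L), ⟨_, hm0L⟩⁆ ∈ A := by
    rw [hA, commutator_comm]
    exact commutator_mem_commutator (mem_top _) ((hPm ⟨_, hm0L⟩).2 hm0.1)
  obtain ⟨hm2, hm2'⟩ := hcomm ⟨_, hm1⟩ hm1'
  -- invariant images
  have himage : ∀ W : Subgroup ↥L, W.Normal → ∀ (hWV : ∀ w ∈ W, (w : G) ∈ V) (w : ↥L) (hw : w ∈ W),
      χ ⟨w, hWV w hw⟩ ≠ 0 → ∀ m, ∃ (w' : ↥L) (hw' : w' ∈ W), χ ⟨w', hWV w' hw'⟩ = m := by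
    intro W hWn hWV w hw hne m
    let H : AddSubgroup (Fin 2 → F) :=
      { carrier := {x | ∃ (w' : ↥L) (hw' : w' ∈ W), χ ⟨w', hWV w' hw'⟩ = x}
        zero_mem' := ⟨1, one_mem W, (hχk _).2 (one_mem _)⟩
        add_mem' := by
          rintro _ _ ⟨a, ha, rfl⟩ ⟨b, hb, rfl⟩
          refine ⟨a * b, mul_mem ha hb, ?_⟩
          show (fV (⟨a, hWV a ha⟩ * ⟨b, hWV b hb⟩)).toAdd = _
          rw [map_mul, toAdd_mul]
        neg_mem' := by
          rintro _ ⟨a, ha, rfl⟩
          refine ⟨a⁻¹, inv_mem ha, ?_⟩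
          show (fV ⟨a, hWV a ha⟩⁻¹).toAdd = _
          rw [map_inv, toAdd_inv] }
    have hH : H = ⊤ := hirr H (by
      rintro B hB _ ⟨a, ha, rfl⟩
      obtain ⟨l, hl, rfl⟩ := hLR.ge hB
      exact ⟨⟨l, hl⟩ * a * ⟨l, hl⟩⁻¹, hWn.conj_mem a ha _, hχ l ⟨a, hWV a ha⟩⟩) _ ⟨w, hw, rfl⟩ hne
    exact (hH ▸ AddSubgroup.mem_top m : m ∈ H)
  refine ⟨?_, ?_, ?_, ?_, ?_, ?_⟩
  · -- characteristic two
    intro x hx
    rw [hPm]
    show (x : G) ∈ Q
    rw [hQd, ← hk, MonoidHom.mem_ker]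
    refine Classical.Linear.eq_of_mulVec fun m k => ?_
    have hVL : ∀ w ∈ V.subgroupOf L, (w : G) ∈ V := fun w hw => mem_subgroupOf.1 hw
    obtain ⟨w, hw, rfl⟩ := himage (V.subgroupOf L) inferInstance hVL ⟨_, hm0L⟩ (mem_subgroupOf.2 hm0) hm0' m
    have hc := congrArg Subtype.val (hx w ((hPm w).2 (hVL w hw).1))
    rw [one_smul]
    show ((ρ (x : G)).1 *ᵥ χ ⟨w, hVL w hw⟩) k = _
    rw [← hχ]
    congr 3
    show (x : G) * w * (x : G)⁻¹ = w
    rw [← show (w : G) * x = x * w from hc, mul_inv_cancel_right]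
  · -- the quotient
    right
    set f : ↥L →* ↥R := (ρ.comp L.subtype).codRestrict R fun x => hLR ▸ mem_map_of_mem ρ x.2
    have hfs : Function.Surjective f := fun ⟨y, hy⟩ => by
      obtain ⟨l, hl, e⟩ := hLR.ge hy
      exact ⟨⟨l, hl⟩, Subtype.ext e⟩
    have hfk : Cfsg.pCore 2 ↥L = f.ker := by
      ext x
      rw [hPm, MonoidHom.mem_ker, hQd, ← hk, MonoidHom.mem_ker]
      exact ⟨fun e => Subtype.ext e, fun e => congrArg Subtype.val e⟩
    let eq : ↥L ⧸ Cfsg.pCore 2 ↥L ≃* ↥R :=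
      (QuotientGroup.quotientMulEquivOfEq hfk).trans (QuotientGroup.quotientKerEquivOfSurjective f hfs)
    haveI := hsimple
    haveI : Nontrivial (↥L ⧸ Cfsg.pCore 2 ↥L) := eq.toEquiv.nontrivial
    exact IsSimpleGroup.isSimpleGroup_of_surjective eq.symm.toMonoidHom eq.symm.surjective
  · -- generated by elements of odd order
    rw [eq_top_iff]
    intro x _
    have hle : L ≤ (Cfsg.pResidual 2 ↥L).map L.subtype := by
      refine (closure_le _).2 fun g hg => ?_
      have hgL : g ∈ L := Transfer.NormalPComplement.mem_pResidual_of_coprime hg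
      exact ⟨⟨g, hgL⟩, Transfer.NormalPComplement.mem_pResidual_of_coprime (by rw [orderOf_mk]; exact hg), rfl⟩
    obtain ⟨y, hy, e⟩ := hle x.2
    rwa [← Subtype.ext e]
  · -- inside the omega of the centre
    intro a ha
    refine subset_closure ⟨⟨(hPm a).2 (hAV a ha).1, fun y hy => ?_⟩, Subtype.ext ?_⟩
    · exact Subtype.ext ((hAV a ha).2.1 _ ((hPm y).1 hy))
    · exact (hAV a ha).2.2
  · -- nontrivial
    intro hle
    have h1 : ⁅(⟨l0, hl0⟩ : ↥L), ⁅(⟨l0, hl0⟩ : ↥L), ⟨_, hm0L⟩⁆⁆ ∈ ⁅A, (⊤ : Subgroup ↥L)⁆ := by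
      rw [commutator_comm]; exact commutator_mem_commutator (mem_top _) hm1A
    obtain ⟨hA2, hc2⟩ := hle h1
    exact hm2' (hAc' _ hA2 hc2)
  · -- irreducible
    intro W hWn hCW hWA
    have hWV : ∀ w ∈ W, (w : G) ∈ V := fun w hw => hAV w (hWA hw)
    by_cases hz : ∀ w (hw : w ∈ W), χ ⟨w, hWV w hw⟩ = 0
    · exact Or.inl (le_antisymm (fun w hw => hAc w (hWA hw) ((hχk _).1 (hz w hw))) hCW)
    · push Not at hz
      obtain ⟨w, hw, hne⟩ := hz
      refine Or.inr (le_antisymm hWA fun a ha => ?_)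
      obtain ⟨w', hw', e⟩ := himage W hWn hWV w hw hne (χ ⟨a, hAV a ha⟩)
      have h1 : w'⁻¹ * a ∈ W := by
        refine hCW (hAc _ (mul_mem (inv_mem (hWA hw')) ha) ((hχk ⟨_, hAV _ (mul_mem (inv_mem (hWA hw')) ha)⟩).1 ?_))
        show (fV (⟨w', hWV w' hw'⟩⁻¹ * ⟨a, hAV a ha⟩)).toAdd = 0
        rw [map_mul, map_inv, toAdd_mul, toAdd_inv]
        show -χ ⟨w', hWV w' hw'⟩ + χ ⟨a, hAV a ha⟩ = 0
        rw [e, neg_add_cancel]
      simpa using mul_mem hw' h1

end Cfsg.Agent.CharP.PushOne
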