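import Cfsg.Agent.Lib.CharP.PushOne.TwoWeights

/-!
The Sylow group at critical distance two.
-/

set_option autoImplicit false
set_option linter.unusedSectionVars false

namespace Cfsg.Agent.CharP.PushOne

open Subgroup
open scoped MatrixGroups commutatorElement

variable {G : Type*} [Group G] [Finite G] {p : ℕ} [hp : Fact p.Prime]
  {F : Type} [Field F] [Fintype F] {S : Subgroup G} {φ : G →* PSL(2, F)}
  {g : G} {Zy Zz Qz Zw : Subgroup G} {ρ : G →* SL(2, F)} {U L K : Subgroup G}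

/-- In a group of exponent three commutators commute with their entries. -/
theorem comm_comm_of_exponent_three {x y : G} (h1 : (x * y) ^ 3 = 1) (h2 : (x * y⁻¹) ^ 3 = 1)
    (hx : x ^ 3 = 1) (hy : y ^ 3 = 1) : ⁅⁅y, x⁆, x⁆ = 1 := by
  rw [commutatorElement_eq_one_iff_mul_comm]
  have a1 : x * y * x = y⁻¹ * x⁻¹ * y⁻¹ := by
    have : x * y * x * (y * x * y) = 1 := by simpa [pow_succ, mul_assoc] using h1
    rw [eq_inv_of_mul_eq_one_left this]; group
  have a2 : x * y⁻¹ * x = y * x⁻¹ * y := by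
    have : x * y⁻¹ * x * (y⁻¹ * x * y⁻¹) = 1 := by simpa [pow_succ, mul_assoc] using h2
    rw [eq_inv_of_mul_eq_one_left this]; group
  have hy' : y⁻¹ = y * y := inv_eq_of_mul_eq_one_left (by simpa [pow_succ, mul_assoc] using hy)
  have key : x * (y * x * y⁻¹) = y * x * y⁻¹ * x := by
    calc x * (y * x * y⁻¹) = x * y * x * y⁻¹ := by group
      _ = y⁻¹ * x⁻¹ * y⁻¹ * y⁻¹ := by rw [a1]
      _ = y⁻¹ * x⁻¹ * y := by
        rw [show y⁻¹ * x⁻¹ * y = y⁻¹ * x⁻¹ * (y⁻¹)⁻¹ by rw [inv_inv],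
          show (y⁻¹)⁻¹ = (y * y)⁻¹ by rw [hy'], _root_.mul_inv_rev, mul_assoc (y⁻¹ * x⁻¹)]
      _ = y * (y * x⁻¹ * y) := by
        conv_lhs => rw [show y⁻¹ * x⁻¹ * y = y⁻¹ * (x⁻¹ * y) by group, hy']
        group
      _ = y * (x * y⁻¹ * x) := by rw [a2]
      _ = _ := by group
  show ⁅y, x⁆ * x = x * ⁅y, x⁆
  rw [commutatorElement_def]
  calc y * x * y⁻¹ * x⁻¹ * x = y * x * y⁻¹ := by group
    _ = (y * x * y⁻¹ * x) * x⁻¹ := by group
    _ = x * (y * x * y⁻¹) * x⁻¹ := by rw [key]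
    _ = _ := by group

/-- Automorphisms fixing a subgroup modulo central elements fix its commutators. -/
theorem centralizes_derived {D S : Subgroup G} (hDS : D ≤ S) {a : G} (ha : a ∈ S)
    (hc : ∀ d ∈ D, ⁅d, a⁆ ∈ centralizer (S : Set G)) : ∀ x ∈ ⁅D, D⁆, x * a = a * x := by
  have hle : ⁅D, D⁆ ≤ centralizer ({a} : Set G) := commutator_le.2 fun d hd e he => by
    rw [mem_centralizer_singleton_iff]
    have key : ∀ d ∈ D, ∀ w ∈ S, (a * d * a⁻¹) * w * (a * d * a⁻¹)⁻¹ = d * w * d⁻¹ := fun d hd w hw => by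
      have hz := inv_mem (hc d hd)
      rw [show a * d * a⁻¹ = ⁅d, a⁆⁻¹ * d by rw [commutatorElement_def]; group]
      calc ⁅d, a⁆⁻¹ * d * w * (⁅d, a⁆⁻¹ * d)⁻¹ = ⁅d, a⁆⁻¹ * (d * w * d⁻¹) * (⁅d, a⁆⁻¹)⁻¹ := by group
        _ = d * w * d⁻¹ * ⁅d, a⁆⁻¹ * (⁅d, a⁆⁻¹)⁻¹ := by
          rw [hz (d * w * d⁻¹) (mul_mem (mul_mem (hDS hd) hw) (inv_mem (hDS hd)))]
        _ = _ := by group
    have e1 : ⁅a * d * a⁻¹, a * e * a⁻¹⁆ = ⁅d, e⁆ := by
      have hz := hc e he
      have haS : ∀ x ∈ D, a * x * a⁻¹ ∈ S := fun x hx => mul_mem (mul_mem ha (hDS hx)) (inv_mem ha)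
      calc ⁅a * d * a⁻¹, a * e * a⁻¹⁆
          = (a * d * a⁻¹) * (a * e * a⁻¹) * (a * d * a⁻¹)⁻¹ * (a * e * a⁻¹)⁻¹ := commutatorElement_def _ _
        _ = d * (a * e * a⁻¹) * d⁻¹ * (a * e * a⁻¹)⁻¹ := by rw [key d hd _ (haS e he)]
        _ = d * ((a * e * a⁻¹) * d⁻¹ * (a * e * a⁻¹)⁻¹) := by group
        _ = d * (e * d⁻¹ * e⁻¹) := by rw [key e he _ (inv_mem (hDS hd))]
        _ = _ := by rw [commutatorElement_def]; group
    have e2 : a * ⁅d, e⁆ * a⁻¹ = ⁅d, e⁆ := by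
      rw [show a * ⁅d, e⁆ * a⁻¹ = ⁅a * d * a⁻¹, a * e * a⁻¹⁆ by simp only [commutatorElement_def]; group]
      exact e1
    calc ⁅d, e⁆ * a = a * ⁅d, e⁆ * a⁻¹ * a := by rw [e2]
      _ = _ := by group
  exact fun x hx => mem_centralizer_singleton_iff.1 (hle hx)

/-- The conclusion at critical distance two. -/
structure TwoResult (p : ℕ) (F : Type) [Field F] [Fintype F] (S : Subgroup G) (φ : G →* PSL(2, F)) : Prop where
  three : p = 3
  classThree : S.lowerCentralSeries 3 = ⊥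
  notTwo : S.lowerCentralSeries 2 ≠ ⊥
  exp : Monoid.exponent ↥S = 9
  layers : ∃ (Zy Qz Zw : Subgroup G) (ρ : G →* SL(2, F)) (U L K : Subgroup G),
    Layers p S Zy Qz Zw φ ρ U L K

namespace Sit

variable (h : Sit p F S φ)
include h

theorem caseTwo (hd : h.host.dist = 2) : TwoResult p F S φ := by
  obtain ⟨g, Zy, Zz, Qz, Zw, d⟩ := h.exists_two_data hd
  obtain ⟨ρ, U, L, K, ly⟩ := h.layers d
  have hp3 := h.eq_three d ly
  subst hp3
  set V := PushingUpCL.omegaCore 3 G with hVd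
  set Q := Cfsg.pCore 3 G with hQd
  set Ω := omS 3 S with hΩ
  set D := Q ⊓ Qz with hD
  haveI := ly.Un
  have hQS : Q ≤ S := h.core_le
  have hDS : D ≤ S := inf_le_left.trans hQS
  have hwS : Zw ≤ S := d.wz.trans d.zS
  have hyS : Zy ≤ S := d.yQ.trans hQS
  have hLU := ly.LU
  have hLS' : L ≤ S := hLU.trans (ly.UQ.trans hQS)
  have hC0Ω : omG 3 G ≤ Ω :=
    inf_le_inf_left V (centralizer_le (Set.subset_univ _ |>.trans_eq coe_top.symm))
  have hΩL : Ω ≤ L := inf_le_left.trans (ly.VK.trans ly.KL)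
  have hΩn : S ≤ normalizer (Ω : Set G) := fun s hs => centralizer_le_normalizer _ fun z hz =>
    (hz.2 s hs).symm
  have hDn : S ≤ normalizer (D : Set G) := (le_inf (le_nz Q) d.nz).trans inf_normalizer_le_normalizer_inf
  have hcn : ∀ {A B : Subgroup G}, S ≤ normalizer (A : Set G) → S ≤ normalizer (B : Set G) →
      S ≤ normalizer ((⁅A, B⁆ : Subgroup G) : Set G) := fun hA hB s hs => by
    refine mem_normalizer_iff_map_conj_eq.2 ?_
    rw [map_commutator, mem_normalizer_iff_map_conj_eq.1 (hA hs), mem_normalizer_iff_map_conj_eq.1 (hB hs)]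
  have hgen : S ≤ Zw ⊔ (Zy ⊔ D) := d.supW.ge.trans (sup_le le_sup_left (ly.supQ.trans le_sup_right))
  have hle : Zw ⊔ (Zy ⊔ D) ≤ S := sup_le hwS (sup_le hyS hDS)
  have hyU : ⁅Zy, D⁆ ≤ omG 3 G := (commutator_mono ly.yU inf_le_left).trans ly.UQc
  have hwD : ⁅Zw, D⁆ ≤ Ω := (commutator_comm_le _ _).trans ly.DW
  -- the derived subgroup
  set M2 := L ⊔ ⁅D, D⁆ with hM2
  have hn2 : S ≤ normalizer (M2 : Set G) :=
    (le_inf ly.nL (hcn hDn hDn)).trans (normalizer_inf_normalizer_le_normalizer_sup _ _)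
  have hSS : ⁅S, S⁆ ≤ M2 := by
    have hn := hle.trans hn2
    have hn' := le_sup_right.trans hn
    have b1 : ⁅Zw, Zy⁆ ≤ M2 := ((commutator_comm_le _ _).trans
      ((commutator_mono ly.yU hwS).trans ly.US)).trans le_sup_left
    have b2 : ⁅Zw, D⁆ ≤ M2 := (hwD.trans hΩL).trans le_sup_left
    have b3 : ⁅Zy, D⁆ ≤ M2 := ((hyU.trans hC0Ω).trans hΩL).trans le_sup_left
    refine (commutator_mono hgen hgen).trans (comm_sup_le (sup_comm_le ?_ (sup_comm_le b1 b2 hn') hn)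
      (comm_sup_le (sup_comm_le ((commutator_comm_le _ _).trans b1) (sup_comm_le ?_ b3 hn') hn)
        (sup_comm_le ((commutator_comm_le _ _).trans b2) (sup_comm_le ((commutator_comm_le _ _).trans b3)
          le_sup_right hn') hn) hn') hn)
    · rw [comm_eq_bot fun a ha b hb => (d.wel a ha).2 b hb]; exact bot_le
    · rw [comm_eq_bot fun a ha b hb => (d.yel a ha).2 b hb]; exact bot_le
  -- the centralisers of the derived group of `D`
  have hDD : ⁅D, D⁆ ≤ D := comm_le_left le_normalizer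
  have hcy : ∀ x ∈ ⁅D, D⁆, ∀ a ∈ Zy, x * a = a * x := fun x hx a ha =>
    centralizes_derived hDS (hyS ha) (fun e he => (hC0Ω (by
      rw [← commutatorElement_inv a e]; exact inv_mem (hyU (commutator_mem_commutator ha he)))).2) x hx
  have hcw : ∀ x ∈ ⁅D, D⁆, ∀ a ∈ Zw, x * a = a * x := fun x hx a ha =>
    centralizes_derived hDS (hwS ha) (fun e he => (ly.DW (commutator_mem_commutator he ha)).2) x hx
  set D3 := ⁅⁅D, D⁆, D⁆ with hD3
  set M3 := Ω ⊔ D3 with hM3
  have hn3 : S ≤ normalizer (M3 : Set G) :=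
    (le_inf hΩn (hcn (hcn hDn hDn) hDn)).trans (normalizer_inf_normalizer_le_normalizer_sup _ _)
  have hγ3 : S.lowerCentralSeries 2 ≤ M3 := by
    rw [Subgroup.lowerCentralSeries_succ, lcs_one]
    refine (commutator_mono hSS le_rfl).trans
      (comm_sup_le (ly.LS.trans le_sup_left) ?_ ((sup_le hLS' (hDD.trans hDS)).trans hn3))
    refine (commutator_mono le_rfl hgen).trans (sup_comm_le ?_ (sup_comm_le ?_ le_sup_right
      (le_sup_right.trans (hle.trans hn3))) (hle.trans hn3))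
    · rw [comm_eq_bot hcw]; exact bot_le
    · rw [comm_eq_bot hcy]; exact bot_le
  have hD3D : D3 ≤ ⁅D, D⁆ := commutator_mono hDD le_rfl
  have hγ4 : S.lowerCentralSeries 3 = ⁅⁅⁅Q, Q⁆, Q⁆, Q⁆ := by
    rw [Subgroup.lowerCentralSeries_succ]
    refine le_antisymm ?_ ?_
    · have hn4 : S ≤ normalizer ((⁅⁅⁅D, D⁆, D⁆, D⁆ : Subgroup G) : Set G) :=
        hcn (hcn (hcn hDn hDn) hDn) hDn
      refine le_trans ?_ (commutator_mono (commutator_mono (commutator_mono inf_le_left inf_le_left)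
        inf_le_left) inf_le_left : ⁅⁅⁅D, D⁆, D⁆, D⁆ ≤ _)
      refine (commutator_mono hγ3 le_rfl).trans (comm_sup_le ?_ ?_
        ((sup_le (hΩL.trans hLS') (hD3D.trans (hDD.trans hDS))).trans hn4))
      · rw [comm_eq_bot fun a ha b hb => (ha.2 b hb).symm]; exact bot_le
      · refine (commutator_mono le_rfl hgen).trans (sup_comm_le ?_ (sup_comm_le ?_ le_rfl
          (le_sup_right.trans (hle.trans hn4))) (hle.trans hn4))
        · rw [comm_eq_bot fun a ha => hcw a (hD3D ha)]; exact bot_le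
        · rw [comm_eq_bot fun a ha => hcy a (hD3D ha)]; exact bot_le
    · rw [Subgroup.lowerCentralSeries_succ, lcs_one]
      exact commutator_mono (commutator_mono (commutator_mono hQS hQS) hQS) hQS
  have hclass : S.lowerCentralSeries 3 = ⊥ := by
    refine h.kill _ (h.lcs_le 3) (h.lcs_char 3) ?_
    rw [hγ4]; infer_instance
  have hcent : ∀ c ∈ S.lowerCentralSeries 2, ∀ z ∈ S, z * c = c * z := fun c hc z hz => by
    have h1 : ⁅c, z⁆ ∈ S.lowerCentralSeries 3 := by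
      rw [Subgroup.lowerCentralSeries_succ]; exact commutator_mem_commutator hc hz
    rw [hclass, mem_bot] at h1
    exact (commutatorElement_eq_one_iff_mul_comm.1 h1).symm
  -- a witness
  obtain ⟨t, ht, htz⟩ : ∃ t ∈ Zy, t ∉ Qz := by
    by_contra hno
    push Not at hno
    have h1 := h.card_S
    rw [← d.supY, sup_eq_right.2 hno, d.cardQz] at h1
    exact (Finite.one_lt_card (α := F)).ne'
      (Nat.eq_of_mul_eq_mul_right Nat.card_pos (h1.symm.trans (one_mul _).symm))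
  obtain ⟨s, hs, hsQ⟩ : ∃ s ∈ Zw, s ∉ Q := by
    by_contra hno
    push Not at hno
    have h1 := h.card_S
    rw [← d.supW, sup_eq_right.2 hno] at h1
    exact (Finite.one_lt_card (α := F)).ne'
      (Nat.eq_of_mul_eq_mul_right Nat.card_pos (h1.symm.trans (one_mul _).symm))
  have hne3 := (d.cs t ht htz s hs hsQ).2
  have hnot2 : S.lowerCentralSeries 2 ≠ ⊥ := fun e => hne3 (by
    have h1 : ⁅⁅t, s⁆, s⁆ ∈ S.lowerCentralSeries 2 := by
      rw [Subgroup.lowerCentralSeries_succ, lcs_one]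
      exact commutator_mem_commutator (commutator_mem_commutator (hyS ht) (hwS hs)) (hwS hs)
    rw [e, mem_bot] at h1
    exact h1)
  -- the powers
  haveI : (⁅⁅Q, Q⁆, Q⁆ : Subgroup G).Normal := inferInstance
  have hQ3 : ⁅⁅Q, Q⁆, Q⁆ ≤ S.lowerCentralSeries 2 := by
    rw [Subgroup.lowerCentralSeries_succ, lcs_one]
    exact commutator_mono (commutator_mono hQS hQS) hQS
  have h3 : ∀ c ∈ S.lowerCentralSeries 2, c ^ 3 = 1 := by
    refine h.pow_eq_one (h.lcs_le 2) (h.lcs_char 2) hQ3 fun c hc => ?_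
    obtain ⟨z, hz, b, hb, rfl⟩ := exists_mul ((hΩL.trans hLS').trans (hcn (hcn hDn hDn) hDn)) (hγ3 hc)
    refine ⟨b, commutator_mono (commutator_mono inf_le_left inf_le_left) inf_le_left hb, ?_⟩
    rw [(show Commute z b from (hz.2 b ((hD3D.trans (hDD.trans hDS)) hb)).symm).mul_pow, hz.1.2.2, one_mul]
  have h9 : ∀ c ∈ S.lowerCentralSeries 1, c ^ 9 = 1 := by
    refine h.pow_eq_one (h.lcs_le 1) (h.lcs_char 1) ((lcs_one S).ge.trans' (commutator_mono hQS hQS))
      fun c hc => ?_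
    rw [lcs_one] at hc
    obtain ⟨l, hl, e, he, rfl⟩ := exists_mul (hLS'.trans (hcn hDn hDn)) (hSS hc)
    refine ⟨e, commutator_mono inf_le_left inf_le_left he, ?_⟩
    set a := e⁻¹ * l⁻¹ * e * l with ha
    have haC : a ∈ omG 3 G := by
      have hle' : e ∈ Q := (hDD he).1
      have h1 := inv_mem (ly.UQc (commutator_mem_commutator (inv_mem (hLU hl)) (inv_mem hle')))
      simpa [commutatorElement_def, ha, mul_assoc] using h1
    have hl3 : (l ^ 3) ^ 3 = 1 := (ly.Upow l (hLU hl)).2.2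
    have ha3 : a ^ 3 = 1 := haC.1.2.2
    rw [PGroups.ClassThree.mul_pow_formula (x := l) (y := e) (a := a) (b := 1) (e := 1)
      (by rw [ha]; group) (by rw [mul_one, mul_assoc, ← haC.2 l (mem_top l)]; group)
      (by rw [mul_one, mul_assoc, ← haC.2 e (mem_top e)]; group) (fun z => Commute.one_left z)
      (fun z => Commute.one_left z) 9, show Nat.choose 9 2 = 3 * 12 by decide, pow_mul a, ha3]
    rw [show l ^ 9 = (l ^ 3) ^ 3 by rw [← pow_mul], hl3]
    simp
  have hS9 : ∀ x ∈ S, ∃ b ∈ Q, x ^ 9 = b ^ 9 := by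
    intro x hx
    have hx' : x ∈ Zw ⊔ Q := d.supW.symm ▸ hx
    obtain ⟨w, hw, b, hb, rfl⟩ := exists_mul (le_nz Q) hx'
    refine ⟨b, hb, ?_⟩
    set a := b⁻¹ * w⁻¹ * b * w with ha
    have hwS' := hwS hw
    have hbS := hQS hb
    have ha1 : a ∈ S.lowerCentralSeries 1 := by
      rw [lcs_one]
      have := commutator_mem_commutator (inv_mem hbS) (inv_mem hwS')
      simpa [commutatorElement_def, ha] using this
    have hmk : ∀ z ∈ S, a⁻¹ * (z⁻¹ * a * z) ∈ S.lowerCentralSeries 2 := fun z hz => by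
      rw [Subgroup.lowerCentralSeries_succ]
      have := commutator_mem_commutator (inv_mem ha1) (inv_mem hz)
      simpa [commutatorElement_def, mul_assoc] using this
    let a' : ↥S := ⟨a, h.lcs_le 1 ha1⟩
    have e := PGroups.ClassThree.mul_pow_formula (x := (⟨w, hwS'⟩ : ↥S)) (y := ⟨b, hbS⟩) (a := a')
      (b := ⟨_, h.lcs_le 2 (hmk w hwS')⟩) (e := ⟨_, h.lcs_le 2 (hmk b hbS)⟩)
      (Subtype.ext (by simp [a', ha, mul_assoc])) (Subtype.ext (by simp [a', mul_assoc]))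
      (Subtype.ext (by simp [a', mul_assoc]))
      (fun z => Subtype.ext (hcent _ (hmk w hwS') z z.2).symm)
      (fun z => Subtype.ext (hcent _ (hmk b hbS) z z.2).symm) 9
    have e' := congrArg Subtype.val e
    simp only [coe_mul, coe_pow] at e'
    rw [e', show Nat.choose 9 2 = 9 * 4 by decide, show Nat.choose 9 3 = 3 * 28 by decide,
      show Nat.choose (9 + 1) 3 = 3 * 40 by decide, ← Nat.mul_add, pow_mul, pow_mul, pow_mul,
      h3 _ (hmk w hwS'), h3 _ (hmk b hbS)]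
    rw [show ((a' : ↥S) : G) ^ 9 = 1 from h9 a ha1, show w ^ 9 = (w ^ 3) ^ 3 by rw [← pow_mul],
      (d.wel w hw).1]
    simp
  have hexp : Monoid.exponent ↥S = 9 := by
    have h1 : Monoid.exponent ↥S ∣ 3 ^ 2 := h.exponent_dvd hQS (by norm_num; exact hS9)
    obtain ⟨i, hi, e⟩ := (Nat.dvd_prime_pow Nat.prime_three).1 h1
    have hall : i ≤ 1 → ∀ x ∈ S, x ^ 3 = 1 := fun hi1 x hx => by
      have h2 : Monoid.exponent ↥S ∣ 3 := e ▸ (pow_dvd_pow 3 hi1).trans (by norm_num)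
      exact congrArg Subtype.val (Monoid.exponent_dvd_iff_forall_pow_eq_one.1 h2 ⟨x, hx⟩)
    rcases Nat.lt_or_ge i 2 with hi2 | hi2
    · exfalso
      have hx := hwS hs
      have hy := hyS ht
      have hS := hall (by omega)
      exact hne3 (comm_comm_of_exponent_three (hS _ (mul_mem hx hy)) (hS _ (mul_mem hx (inv_mem hy)))
        (hS _ hx) (hS _ hy))
    · rw [e, show i = 2 by omega]
      norm_num
  exact ⟨rfl, hclass, hnot2, hexp, Zy, Qz, Zw, ρ, U, L, K, ly⟩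

end Sit

end Cfsg.Agent.CharP.PushOne
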