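import Cfsg.Agent.Lib.CharP.PushOne.CaseOne
import Cfsg.Agent.Lib.CharP.PushOne.CaseTwo

/-!
Pushing up over a rank one group: the quotient, the chief factors and the Sylow group.
-/

set_option autoImplicit false
set_option linter.unusedSectionVars false
set_option linter.style.haveILetI false

namespace Cfsg.Agent.CharP.PushOne

open Subgroup
open scoped MatrixGroups commutatorElement

variable {G : Type*} [Group G] [Finite G] {p : ℕ} [hp : Fact p.Prime]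
  {F : Type} [Field F] [Fintype F] {S : Subgroup G} {φ : G →* PSL(2, F)}

namespace Sit

variable (h : Sit p F S φ)
include h

theorem cases : OneResult p F S φ ∨ TwoResult p F S φ := by
  have h1 := h.host.dist_le_two
  have h2 := h.host.one_le_dist
  rcases Nat.lt_or_ge h.host.dist 2 with hd | hd
  · exact Or.inl (h.caseOne (by omega))
  · exact Or.inr (h.caseTwo (le_antisymm h1 hd))

theorem kerOne (r : OneResult p F S φ) : ∃ ρ : G →* SL(2, F), IsLift S φ ρ ∧ ρ.ker = Cfsg.pCore p G ∧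
    Fac ρ (PushingUpCL.omegaCore p G) (omG p G) := by
  obtain ⟨ρ, hρ, hV⟩ := r.natural
  refine ⟨ρ, hρ, h.ker_eq hρ fun x hx hco => ?_, hV⟩
  have hP : IsPGroup p (Cfsg.pCore p G) := h.isPGroup.to_le h.core_le
  have h1 := centralizes_fac hV (hP.to_le fun v hv => hv.1) inf_le_left hco hx
    fun a ha => ha.2 x (mem_top x)
  exact centralizes_iter (k := 1) hP hco h1 r.coreTop

/-- All noncentral chief factors inside the core are natural. -/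
theorem natural_all : ∃ ρ : G →* SL(2, F), IsLift S φ ρ ∧ ρ.ker = Cfsg.pCore p G ∧
    ∀ (U W : Subgroup G), U ≤ Cfsg.pCore p G → Cfsg.IsChiefFactor U W →
      ¬ ⁅U, (⊤ : Subgroup G)⁆ ≤ W → Fac ρ U W := by
  have bottom : ∀ {A B : Subgroup G}, Cfsg.IsChiefFactor A B → ¬ ⁅A, (⊤ : Subgroup G)⁆ ≤ B →
      (A ⊓ omG p G) ⊔ B = A → False := by
    intro A B hch hnc e
    haveI := hch.2.1
    haveI := hch.2.2.1
    refine (chief_inf hch hnc e).2 ?_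
    rw [comm_eq_bot fun a ha b hb => (ha.2.2 b hb).symm]
    exact bot_le
  rcases h.cases with r | r
  · obtain ⟨ρ, hρ, hk, hV⟩ := h.kerOne r
    refine ⟨ρ, hρ, hk, fun U W hU hch hnc => ?_⟩
    haveI := hch.2.1
    haveI := hch.2.2.1
    have e1 := step (A := Cfsg.pCore p G) (B := PushingUpCL.omegaCore p G) (k := 1) hch hnc hU r.coreTop
    obtain ⟨hch1, hnc1⟩ := chief_inf hch hnc e1
    refine Fac.of_inf hρ.2.1 ?_ e1
    exact (Fac.of_layer hρ.2.1 hV hch1 inf_le_right).resolve_right fun e => bottom hch1 hnc1 e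
  · obtain ⟨Zy, Qz, Zw, ρ, U', L, K, ly⟩ := r.layers
    refine ⟨ρ, ly.lift, ly.ker, fun U W hU hch hnc => ?_⟩
    haveI := hch.2.1
    haveI := hch.2.2.1
    haveI := ly.Un
    haveI := ly.Kn
    obtain ⟨k, hk⟩ := ly.QU
    have hs := ly.lift.2.1
    have e1 := step (A := Cfsg.pCore p G) (B := U') hch hnc hU hk
    obtain ⟨hch1, hnc1⟩ := chief_inf hch hnc e1
    refine Fac.of_inf hs ?_ e1
    rcases Fac.of_layer hs ly.facU hch1 inf_le_right with hl | e2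
    · exact hl
    obtain ⟨hch2, hnc2⟩ := chief_inf hch1 hnc1 e2
    refine Fac.of_inf hs ?_ e2
    have e3 := step (A := K) (B := PushingUpCL.omegaCore p G) (k := 1) hch2 hnc2 inf_le_right ly.KV
    obtain ⟨hch3, hnc3⟩ := chief_inf hch2 hnc2 e3
    refine Fac.of_inf hs ?_ e3
    exact (Fac.of_layer hs ly.facV hch3 inf_le_right).resolve_right fun e => bottom hch3 hnc3 e

theorem iter_omG : ∃ k, Cfsg.iterCommutator (omG p G) ⊤ k = ⊥ :=
  ⟨1, comm_eq_bot fun _ ha b hb => (ha.2 b hb).symm⟩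

/-- The Sylow structure. -/
theorem structureS :
    (S.lowerCentralSeries 2 = ⊥ ∧ S.lowerCentralSeries 1 ≠ ⊥ ∧
      (p = 2 → Monoid.exponent ↥S = 4) ∧ (p ≠ 2 → Monoid.exponent ↥S = p) ∧
      (∃ U W : Subgroup G, W ≤ U ∧ U ≤ Cfsg.pCore p G ∧ Cfsg.IsChiefFactor U W ∧
        ¬ ⁅U, (⊤ : Subgroup G)⁆ ≤ W ∧ (∃ k : ℕ, Cfsg.iterCommutator W ⊤ k = ⊥) ∧
        (∃ k : ℕ, Cfsg.iterCommutator (Cfsg.pCore p G) ⊤ k ≤ U))) ∨
    (p = 3 ∧ S.lowerCentralSeries 3 = ⊥ ∧ S.lowerCentralSeries 2 ≠ ⊥ ∧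
      Monoid.exponent ↥S = 9 ∧
      (∃ U₁ W₁ U₂ W₂ : Subgroup G, W₁ ≤ U₁ ∧ U₁ ≤ W₂ ∧ W₂ ≤ U₂ ∧ U₂ ≤ Cfsg.pCore p G ∧
        Cfsg.IsChiefFactor U₁ W₁ ∧ Cfsg.IsChiefFactor U₂ W₂ ∧ ¬ ⁅U₁, (⊤ : Subgroup G)⁆ ≤ W₁ ∧
        ¬ ⁅U₂, (⊤ : Subgroup G)⁆ ≤ W₂ ∧ (∃ k : ℕ, Cfsg.iterCommutator W₁ ⊤ k = ⊥) ∧
        (∃ k : ℕ, Cfsg.iterCommutator W₂ ⊤ k ≤ U₁) ∧
        (∃ k : ℕ, Cfsg.iterCommutator (Cfsg.pCore p G) ⊤ k ≤ U₂))) := by
  have hVQ : PushingUpCL.omegaCore p G ≤ Cfsg.pCore p G := fun v hv => hv.1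
  rcases h.cases with r | r
  · obtain ⟨ρ, hρ, hV⟩ := r.natural
    obtain ⟨c1, c2⟩ := hV.chief hρ.2.1 inf_le_left
    exact Or.inl ⟨r.classTwo, r.nonabelian, r.expTwo, r.expOdd, _, _, inf_le_left, hVQ, c1, c2,
      h.iter_omG, 1, r.coreTop⟩
  · obtain ⟨Zy, Qz, Zw, ρ, U, L, K, ly⟩ := r.layers
    haveI := ly.Un
    haveI := ly.Kn
    obtain ⟨c1, c2⟩ := ly.facV.chief ly.lift.2.1 inf_le_left
    obtain ⟨c3, c4⟩ := ly.facU.chief ly.lift.2.1 (ly.KL.trans ly.LU)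
    exact Or.inr ⟨r.three, r.classThree, r.notTwo, r.exp, _, _, U, K, inf_le_left, ly.VK,
      ly.KL.trans ly.LU, ly.UQ, c1, c3, c2, c4, h.iter_omG, ⟨1, ly.KV⟩, ly.QU⟩

end Sit

end Cfsg.Agent.CharP.PushOne
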