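import Cfsg.Agent.Lib.CharP.PushOne.Natural
import Cfsg.Prelude.Def_LocalEven
import Cfsg.Prelude.Def_PLocal

/-!
Natural factors, the kernel of the natural representation and the transfer to arbitrary chief factors.
-/

set_option autoImplicit false
set_option linter.unusedSectionVars false
set_option linter.style.haveILetI false

namespace Cfsg.Agent.CharP.PushOne

open Subgroup Cfsg.Agent.Classical.GL2 Matrix
open scoped MatrixGroups commutatorElement

variable {G : Type*} [Group G] [Finite G] {p : ℕ} [hp : Fact p.Prime]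
  {F : Type} [Field F] [Fintype F] {S : Subgroup G} {φ : G →* PSL(2, F)} {ρ : G →* SL(2, F)}

theorem eq_top_of_invariant (H : AddSubgroup (Fin 2 → F))
    (hH : ∀ (A : SL(2, F)), ∀ v ∈ H, A.1.mulVec v ∈ H) {v : Fin 2 → F} (hv : v ∈ H) (hv0 : v ≠ 0) :
    H = ⊤ := by
  obtain ⟨u, hu, hu1⟩ : ∃ u ∈ H, u 1 ≠ 0 := by
    by_cases h1 : v 1 = 0
    · refine ⟨_, hH wSL v hv, ?_⟩
      simp [coe_wSL, Matrix.mulVec, dotProduct, Fin.sum_univ_two]
      exact fun h0 => hv0 (funext fun i => by fin_cases i <;> simp [h0, h1])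
    · exact ⟨v, hv, h1⟩
  have ha : ∀ a : F, (![a, 0] : Fin 2 → F) ∈ H := fun a => by
    have h1 := H.sub_mem (hH (uniSL (a / u 1)) u hu) hu
    convert h1
    funext i
    fin_cases i <;> simp [coe_uniSL, Matrix.mulVec, dotProduct, Fin.sum_univ_two, hu1]
  refine (AddSubgroup.eq_top_iff' H).2 fun w => ?_
  have h2 := H.add_mem (ha (w 0)) (hH wSL _ (ha (-(w 1))))
  convert h2
  funext i
  fin_cases i <;> simp [coe_wSL, Matrix.mulVec, dotProduct, Fin.sum_univ_two]

/-- A natural factor. -/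
def Fac (ρ : G →* SL(2, F)) (U W : Subgroup G) : Prop :=
  ∃ f : ↥U →* Multiplicative (Fin 2 → F), Function.Surjective f ∧ (∀ u : ↥U, f u = 1 ↔ (u : G) ∈ W) ∧
    ∀ (g : G) (u v : ↥U), (v : G) = g * u * g⁻¹ → (f v).toAdd = (ρ g).1.mulVec (f u).toAdd

theorem val_one' : (1 : SL(2, F)).1 = (1 : Matrix (Fin 2) (Fin 2) F) := rfl

theorem conj_mem {N : Subgroup G} [hN : N.Normal] {x : G} (hx : x ∈ N) (g : G) : g * x * g⁻¹ ∈ N :=
  hN.conj_mem x hx g

namespace Fac

variable {U W : Subgroup G} [U.Normal] [W.Normal]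

/-- The image of a normal subgroup in a natural factor. -/
theorem image_top (hρ : Function.Surjective ρ) {f : ↥U →* Multiplicative (Fin 2 → F)}
    (hf : ∀ (g : G) (u v : ↥U), (v : G) = g * u * g⁻¹ → (f v).toAdd = (ρ g).1.mulVec (f u).toAdd)
    {N : Subgroup G} [N.Normal] {x : ↥U} (hx : (x : G) ∈ N) (hx1 : f x ≠ 1) (u : ↥U) :
    ∃ y : ↥U, (y : G) ∈ N ∧ f y = f u := by
  let H : AddSubgroup (Fin 2 → F) :=
    { carrier := {w | ∃ y : ↥U, (y : G) ∈ N ∧ (f y).toAdd = w}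
      zero_mem' := ⟨1, one_mem N, by simp⟩
      add_mem' := by
        rintro _ _ ⟨y, hy, rfl⟩ ⟨z, hz, rfl⟩
        exact ⟨y * z, mul_mem hy hz, by simp⟩
      neg_mem' := by
        rintro _ ⟨y, hy, rfl⟩
        exact ⟨y⁻¹, inv_mem hy, by simp⟩ }
  have hH : H = ⊤ := by
    refine eq_top_of_invariant H ?_ ⟨x, hx, rfl⟩ (fun e => hx1 (Multiplicative.toAdd.injective e))
    rintro A _ ⟨y, hy, rfl⟩
    obtain ⟨g, rfl⟩ := hρ A
    exact ⟨⟨g * y * g⁻¹, conj_mem y.2 g⟩, conj_mem hy g, hf g y _ rfl⟩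
  obtain ⟨y, hy, e⟩ := (hH ▸ AddSubgroup.mem_top _ : (f u).toAdd ∈ H)
  exact ⟨y, hy, Multiplicative.toAdd.injective e⟩

theorem chief (h : Fac ρ U W) (hρ : Function.Surjective ρ) (hWU : W ≤ U) :
    Cfsg.IsChiefFactor U W ∧ ¬ ⁅U, (⊤ : Subgroup G)⁆ ≤ W := by
  obtain ⟨f, hfs, hfk, hf⟩ := h
  obtain ⟨x, hx⟩ := hfs (Multiplicative.ofAdd ![0, 1])
  have hx1 : f x ≠ 1 := fun e => by
    have := congrArg (fun m : Multiplicative (Fin 2 → F) => m.toAdd 1) (hx.symm.trans e)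
    simp at this
  refine ⟨⟨lt_of_le_of_ne hWU fun e => hx1 ((hfk x).2 (e ▸ x.2)), inferInstance, inferInstance, ?_⟩, ?_⟩
  · intro N hN hWN hNU
    by_cases hc : N ≤ W
    · exact Or.inl (le_antisymm hc hWN)
    · obtain ⟨y, hy, hyW⟩ := Set.not_subset.1 hc
      refine Or.inr (le_antisymm hNU fun u hu => ?_)
      obtain ⟨z, hz, e⟩ := image_top hρ hf (x := ⟨y, hNU hy⟩) hy (fun e => hyW ((hfk _).1 e)) ⟨u, hu⟩
      have h1 : (z : G)⁻¹ * u ∈ W :=
        (hfk (z⁻¹ * ⟨u, hu⟩)).1 (by rw [map_mul, map_inv, e, inv_mul_cancel])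
      simpa using mul_mem hz (hWN h1)
  · intro hle
    obtain ⟨g, hg⟩ := hρ (uniSL 1)
    set y : ↥U := ⟨g * x * g⁻¹, conj_mem x.2 g⟩
    have h1 : (y : G) * (x : G)⁻¹ ∈ W := by
      have := hle (commutator_mem_commutator x.2 (mem_top g))
      rw [← inv_mem_iff, commutatorElement_inv] at this
      simpa [commutatorElement_def, y] using this
    have h2 := (hfk (y * x⁻¹)).2 h1
    rw [map_mul, map_inv, mul_inv_eq_one] at h2
    have h3 := hf g x y rfl
    rw [h2, hx, hg] at h3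
    have := congrFun h3 0
    simp [coe_uniSL, Matrix.mulVec, dotProduct, Fin.sum_univ_two] at this

theorem natural (h : Fac ρ U W) (hρ : Function.Surjective ρ) (hW : W ≤ ρ.ker) :
    Cfsg.IsNaturalSL2Module F (U.map (QuotientGroup.mk' W)) (⊤ : Subgroup (G ⧸ W)) := by
  obtain ⟨f, hfs, hfk, hf⟩ := h
  set π := QuotientGroup.mk' W
  haveI hn : (U.map π).Normal := Normal.map inferInstance π (QuotientGroup.mk'_surjective W)
  refine ⟨by rw [normalizer_eq_top], ?_⟩
  have hpre : ∀ v : ↥(U.map π), ∃ u : ↥U, π u = v := fun v => by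
    obtain ⟨u, hu, e⟩ := v.2
    exact ⟨⟨u, hu⟩, e⟩
  choose u hu using hpre
  have huniq : ∀ (v : ↥(U.map π)) (y : ↥U), π y = v → f y = f (u v) := fun v y e => by
    rw [← inv_mul_eq_one, ← map_inv, ← map_mul, hfk]
    exact QuotientGroup.eq.1 (e.trans (hu v).symm)
  let f' : ↥(U.map π) →* Multiplicative (Fin 2 → F) :=
    MonoidHom.mk' (fun v => f (u v)) fun v w => by
      show f (u (v * w)) = f (u v) * f (u w)
      rw [← map_mul]
      exact (huniq _ _ (by simp [hu])).symm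
  have hbij : Function.Bijective f' := by
    refine ⟨(injective_iff_map_eq_one f').2 fun v hv => Subtype.ext ?_, fun m => ?_⟩
    · rw [← hu v]
      exact (QuotientGroup.eq_one_iff _).2 ((hfk _).1 hv)
    · obtain ⟨y, rfl⟩ := hfs m
      exact ⟨⟨π y, mem_map_of_mem π y.2⟩, (huniq _ y rfl).symm⟩
  let ρ' : (⊤ : Subgroup (G ⧸ W)) →* SL(2, F) := (QuotientGroup.lift W ρ hW).comp (Subgroup.subtype ⊤)
  let ψ : Additive ↥(U.map π) ≃+ (Fin 2 → F) :=
    (MulEquiv.toAdditive (MulEquiv.ofBijective f' hbij)).trans (AddEquiv.additiveMultiplicative (Fin 2 → F))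
  have hψ : ∀ v : ↥(U.map π), ψ (Additive.ofMul v) = (f (u v)).toAdd := fun v => rfl
  have hact : ∀ (g : G) (v w : ↥(U.map π)), (w : G ⧸ W) = π g * v * (π g)⁻¹ →
      ψ (Additive.ofMul w) = (ρ g).1.mulVec (ψ (Additive.ofMul v)) := fun g v w e => by
    rw [hψ, hψ, ← huniq w ⟨g * u v * g⁻¹, conj_mem (u v).2 g⟩ (by simp [e, hu])]
    exact hf g (u v) _ rfl
  refine ⟨ρ', ψ, fun A => ?_, ?_, fun l v => ?_⟩
  · obtain ⟨g, rfl⟩ := hρ A
    exact ⟨⟨π g, mem_top _⟩, rfl⟩
  · ext l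
    obtain ⟨g, hg⟩ := QuotientGroup.mk'_surjective W (l : G ⧸ W)
    have hl : ρ' l = ρ g := by
      show QuotientGroup.lift W ρ hW (l : G ⧸ W) = _
      rw [← hg]; rfl
    rw [MonoidHom.mem_ker, hl, mem_subgroupOf]
    constructor
    · intro h1 v hv
      have h2 := hact g ⟨v, hv⟩ ⟨π g * v * (π g)⁻¹, hn.conj_mem v hv _⟩ rfl
      rw [h1, val_one', one_mulVec] at h2
      have h3 := congrArg Subtype.val (Additive.ofMul.injective (ψ.injective h2))
      rw [show π g = (l : G ⧸ W) from hg] at h3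
      exact (mul_inv_eq_iff_eq_mul.1 h3).symm
    · intro hl'
      refine Classical.Linear.eq_of_mulVec fun m k => ?_
      obtain ⟨v, rfl⟩ := ψ.surjective m
      have h2 := hact g v.toMul v.toMul (by
        rw [show π g = (l : G ⧸ W) from hg, ← hl' _ v.toMul.2, mul_inv_cancel_right])
      rw [ofMul_toMul] at h2
      rw [one_smul]
      show ((ρ g).1 *ᵥ ψ v) k = ψ v k
      rw [← h2]
  · obtain ⟨g, hg⟩ := QuotientGroup.mk'_surjective W (l : G ⧸ W)
    refine ⟨⟨π g * v * (π g)⁻¹, hn.conj_mem _ v.2 _⟩, by rw [← hg], ?_⟩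
    have hl : ρ' l = ρ g := by
      show QuotientGroup.lift W ρ hW (l : G ⧸ W) = _
      rw [← hg]; rfl
    rw [hl]
    exact hact g v _ rfl

/-- A natural factor seen through a larger pair. -/
theorem of_inf (hρ : Function.Surjective ρ) {B : Subgroup G} [B.Normal] (h : Fac ρ (U ⊓ B) (W ⊓ B))
    (hU : (U ⊓ B) ⊔ W = U) : Fac ρ U W := by
  obtain ⟨f, hfs, hfk, hf⟩ := h
  have hdec : ∀ u : ↥U, ∃ x : ↥(U ⊓ B), ∃ w ∈ W, (u : G) = x * w := fun u => by
    have h1 : (u : G) ∈ (((U ⊓ B) ⊔ W : Subgroup G) : Set G) := by rw [hU]; exact u.2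
    rw [coe_mul_of_right_le_normalizer_left _ W (by rw [normalizer_eq_top]; exact le_top)] at h1
    obtain ⟨x, hx, w, hw, e⟩ := h1
    exact ⟨⟨x, hx⟩, w, hw, e.symm⟩
  choose x w hw hxw using hdec
  have huniq : ∀ (u : ↥U) (y : ↥(U ⊓ B)), (y : G)⁻¹ * u ∈ W → f y = f (x u) := fun u y e => by
    rw [← inv_mul_eq_one, ← map_inv, ← map_mul, hfk]
    refine ⟨?_, (y⁻¹ * x u).2.2⟩
    show (y : G)⁻¹ * (x u : G) ∈ W
    rw [show (y : G)⁻¹ * (x u : G) = (y : G)⁻¹ * u * (w u)⁻¹ by rw [hxw u]; group]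
    exact mul_mem e (inv_mem (hw u))
  refine ⟨MonoidHom.mk' (fun u => f (x u)) fun u v => ?_, fun m => ?_, fun u => ?_, fun g u v e => ?_⟩
  · show f (x (u * v)) = f (x u) * f (x v)
    rw [← map_mul]
    refine (huniq _ _ ?_).symm
    show ((x u : G) * x v)⁻¹ * ((u : G) * v) ∈ W
    rw [hxw u, hxw v, show ((x u : G) * x v)⁻¹ * ((x u : G) * w u * ((x v : G) * w v)) =
      (x v : G)⁻¹ * w u * (x v : G)⁻¹⁻¹ * w v by group]
    exact mul_mem (conj_mem (hw u) _) (hw v)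
  · obtain ⟨y, rfl⟩ := hfs m
    exact ⟨⟨y, y.2.1⟩, (huniq _ y (by simp)).symm⟩
  · show f (x u) = 1 ↔ _
    rw [hfk, mem_inf, hxw u]
    exact ⟨fun h1 => mul_mem h1.1 (hw u), fun h1 => ⟨by simpa using mul_mem h1 (inv_mem (hw u)), (x u).2.2⟩⟩
  · show (f (x v)).toAdd = (ρ g).1.mulVec (f (x u)).toAdd
    rw [← hf g (x u) ⟨g * x u * g⁻¹, conj_mem (x u).2 g⟩ rfl, huniq v ⟨g * x u * g⁻¹, conj_mem (x u).2 g⟩]
    show (g * (x u : G) * g⁻¹)⁻¹ * v ∈ W
    rw [e, hxw u, show (g * (x u : G) * g⁻¹)⁻¹ * (g * ((x u : G) * w u) * g⁻¹) = g * w u * g⁻¹ by group]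
    exact conj_mem (hw u) g

/-- Passing a natural layer. -/
theorem of_layer (hρ : Function.Surjective ρ) {A B : Subgroup G} [A.Normal] [B.Normal] (h : Fac ρ A B)
    (hch : Cfsg.IsChiefFactor U W) (hUA : U ≤ A) : Fac ρ U W ∨ (U ⊓ B) ⊔ W = U := by
  obtain ⟨⟨hlt, -, -, hmid⟩, hWU⟩ := And.intro hch hch.1.le
  rcases hmid ((U ⊓ B) ⊔ W) inferInstance le_sup_right (sup_le inf_le_left hWU) with e | e
  swap
  · exact Or.inr e
  left
  have hBW : U ⊓ B ≤ W := e ▸ le_sup_left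
  obtain ⟨f, hfs, hfk, hf⟩ := h
  have hUB : ¬ U ≤ B := fun hle => hlt.ne (le_antisymm hWU ((le_inf le_rfl hle).trans hBW))
  obtain ⟨u0, hu0, hu0B⟩ := Set.not_subset.1 hUB
  have hne : f ⟨u0, hUA hu0⟩ ≠ 1 := fun e1 => hu0B ((hfk _).1 e1)
  -- the image of the bottom is trivial
  have hWB : W ≤ B := fun w hw => by
    by_contra hwB
    refine hlt.ne (le_antisymm hWU fun u hu => ?_)
    obtain ⟨y, hy, e1⟩ := image_top hρ hf (N := W) (x := ⟨w, hUA (hWU hw)⟩) hw
      (fun e2 => hwB ((hfk _).1 e2)) ⟨u, hUA hu⟩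
    have h2 : (y : G)⁻¹ * u ∈ B := (hfk (y⁻¹ * ⟨u, hUA hu⟩)).1 (by rw [map_mul, map_inv, e1, inv_mul_cancel])
    simpa using mul_mem hy (hBW (mem_inf.2 ⟨mul_mem (inv_mem (hWU hy)) hu, h2⟩))
  refine ⟨f.comp (inclusion hUA), fun m => ?_, fun u => ?_, fun g u v e1 => hf g _ _ (by simpa using e1)⟩
  · obtain ⟨a, rfl⟩ := hfs m
    obtain ⟨y, hy, e1⟩ := image_top hρ hf (N := U) (x := ⟨u0, hUA hu0⟩) hu0 hne a
    exact ⟨⟨y, hy⟩, e1⟩
  · show f (inclusion hUA u) = 1 ↔ _
    rw [hfk]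
    exact ⟨fun h1 => hBW ⟨u.2, h1⟩, fun h1 => hWB h1⟩

end Fac

theorem iterCommutator_normal (A : Subgroup G) [A.Normal] :
    ∀ k, (Cfsg.iterCommutator A ⊤ k).Normal
  | 0 => inferInstanceAs A.Normal
  | k + 1 => by
    haveI := iterCommutator_normal A k
    exact inferInstanceAs (⁅Cfsg.iterCommutator A ⊤ k, (⊤ : Subgroup G)⁆).Normal

/-- A noncentral chief factor below a hypercentral layer lies below it. -/
theorem step {U W A B : Subgroup G} [U.Normal] [W.Normal] [A.Normal] [B.Normal]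
    (hch : Cfsg.IsChiefFactor U W) (hnc : ¬ ⁅U, (⊤ : Subgroup G)⁆ ≤ W) (hUA : U ≤ A) {k : ℕ}
    (hk : Cfsg.iterCommutator A ⊤ k ≤ B) : (U ⊓ B) ⊔ W = U := by
  obtain ⟨hlt, -, -, hmid⟩ := hch
  have hiter : ∀ i, U ≤ (U ⊓ Cfsg.iterCommutator A ⊤ i) ⊔ W := by
    intro i
    induction i with
    | zero => exact le_sup_of_le_left (le_inf le_rfl hUA)
    | succ i ih =>
      rcases hmid (⁅U, ⊤⁆ ⊔ W) inferInstance le_sup_right
        (sup_le (commutator_le_left _ _) hlt.le) with e | e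
      · exact absurd (e ▸ le_sup_left) hnc
      · refine e.ge.trans (sup_le ?_ le_sup_right)
        refine (commutator_mono ih le_rfl).trans ?_
        haveI := iterCommutator_normal A i
        haveI := iterCommutator_normal A (i + 1)
        rw [commutator_le]
        intro x hx g _
        rw [← SetLike.mem_coe, coe_mul_of_right_le_normalizer_left _ W
          (by rw [normalizer_eq_top]; exact le_top)] at hx
        obtain ⟨a, ha, w, hw, rfl⟩ := hx
        rw [commutatorElement_mul_left_eq_conj_mul]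
        refine mul_mem (mem_sup_right (conj_mem ?_ a)) (mem_sup_left ⟨?_, ?_⟩)
        · exact commutator_le_left W ⊤ (commutator_mem_commutator hw (mem_top g))
        · exact commutator_le_left U ⊤ (commutator_mem_commutator ha.1 (mem_top g))
        · exact commutator_mem_commutator ha.2 (mem_top g)
  exact le_antisymm (sup_le inf_le_left hlt.le)
    ((hiter k).trans (sup_le_sup_right (inf_le_inf_left _ hk) _))

theorem chief_inf {U W B : Subgroup G} [U.Normal] [W.Normal] [B.Normal]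
    (hch : Cfsg.IsChiefFactor U W) (hnc : ¬ ⁅U, (⊤ : Subgroup G)⁆ ≤ W) (hU : (U ⊓ B) ⊔ W = U) :
    Cfsg.IsChiefFactor (U ⊓ B) (W ⊓ B) ∧ ¬ ⁅U ⊓ B, (⊤ : Subgroup G)⁆ ≤ W ⊓ B := by
  obtain ⟨hlt, -, -, hmid⟩ := hch
  have hle : W ⊓ B ≤ U ⊓ B := inf_le_inf_right _ hlt.le
  refine ⟨⟨lt_of_le_of_ne hle fun e => hlt.ne ?_, inferInstance, inferInstance, fun N hN hWN hNU => ?_⟩, ?_⟩
  · rw [← hU, ← e, sup_eq_right.2 inf_le_left]
  · rcases hmid (N ⊔ W) inferInstance le_sup_right (sup_le (hNU.trans inf_le_left) hlt.le) with e | e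
    · exact Or.inl (le_antisymm (le_inf (e ▸ le_sup_left) (hNU.trans inf_le_right)) hWN)
    · refine Or.inr (le_antisymm hNU fun x hx => ?_)
      have hx' : x ∈ ((N ⊔ W : Subgroup G) : Set G) := by rw [e]; exact hx.1
      rw [coe_mul_of_right_le_normalizer_left _ W (by rw [normalizer_eq_top]; exact le_top)] at hx'
      obtain ⟨a, ha, w, hw, rfl⟩ := hx'
      refine mul_mem ha (hWN ⟨hw, ?_⟩)
      show w ∈ B
      simpa using mul_mem (inv_mem (mem_inf.1 (hNU ha)).2) (mem_inf.1 hx).2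
  · intro hle'
    refine hnc ?_
    conv_lhs => rw [← hU]
    rw [commutator_le]
    intro x hx g _
    rw [← SetLike.mem_coe, coe_mul_of_right_le_normalizer_left _ W
      (by rw [normalizer_eq_top]; exact le_top)] at hx
    obtain ⟨a, ha, w, hw, rfl⟩ := hx
    rw [commutatorElement_mul_left_eq_conj_mul]
    exact mul_mem (conj_mem (commutator_le_left W ⊤ (commutator_mem_commutator hw (mem_top g))) a)
      (hle' (commutator_mem_commutator ha (mem_top g))).1

theorem eq_one_of_chain {x a : G} {B : Subgroup G} (hB : IsPGroup p B) (hx : (orderOf x).Coprime p)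
    (hc : ∀ b ∈ B, x * b = b * x) (ha : ⁅x, a⁆ ∈ B) : x * a = a * x := by
  set d := ⁅x, a⁆ with hd
  have hk : ∀ k : ℕ, x ^ k * a * (x ^ k)⁻¹ = d ^ k * a := by
    intro k
    induction k with
    | zero => simp
    | succ k ih =>
      have e : x * d ^ k * x⁻¹ = d ^ k := by rw [hc _ (pow_mem ha k), mul_inv_cancel_right]
      calc x ^ (k + 1) * a * (x ^ (k + 1))⁻¹ = x * (x ^ k * a * (x ^ k)⁻¹) * x⁻¹ := by rw [pow_succ']; group
        _ = (x * d ^ k * x⁻¹) * (x * a * x⁻¹) := by rw [ih]; group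
        _ = d ^ k * (d * a) := by rw [e, hd, commutatorElement_def]; group
        _ = _ := by rw [pow_succ]; group
  have h1 : orderOf d ∣ orderOf x := by
    refine orderOf_dvd_of_pow_eq_one ?_
    have := hk (orderOf x)
    rw [pow_orderOf_eq_one] at this
    simpa using this
  obtain ⟨j, hj⟩ := IsPGroup.iff_orderOf.1 hB ⟨d, ha⟩
  rw [orderOf_mk] at hj
  have h2 : d = 1 := orderOf_eq_one_iff.1
    (Nat.eq_one_of_dvd_coprimes (hx.pow_right j) h1 (dvd_of_eq hj))
  exact commutatorElement_eq_one_iff_mul_comm.1 h2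

theorem centralizes_iter {x : G} {A B : Subgroup G} [A.Normal] (hA : IsPGroup p A)
    (hx : (orderOf x).Coprime p) (hc : ∀ b ∈ B, x * b = b * x) {k : ℕ}
    (hk : Cfsg.iterCommutator A ⊤ k ≤ B) : ∀ a ∈ A, x * a = a * x := by
  have hle : ∀ i, Cfsg.iterCommutator A ⊤ i ≤ A := by
    intro i
    induction i with
    | zero => exact le_rfl
    | succ i ih => exact (commutator_mono ih le_rfl).trans (commutator_le_left _ _)
  have h : ∀ i, i ≤ k → ∀ a ∈ Cfsg.iterCommutator A ⊤ (k - i), x * a = a * x := by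
    intro i
    induction i with
    | zero => exact fun _ a ha => hc a (hk ha)
    | succ i ih =>
      intro hi a ha
      refine eq_one_of_chain (hA.to_le (hle (k - i))) hx (ih (by omega)) ?_
      rw [← commutatorElement_inv, inv_mem_iff, show k - i = k - (i + 1) + 1 by omega]
      exact commutator_mem_commutator ha (mem_top x)
  have := h k le_rfl
  rwa [Nat.sub_self] at this

theorem centralizes_fac {U W : Subgroup G} [U.Normal] (h : Fac ρ U W) {x : G} (hU : IsPGroup p U)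
    (hWU : W ≤ U) (hx : (orderOf x).Coprime p) (hxρ : ρ x = 1) (hc : ∀ b ∈ W, x * b = b * x) :
    ∀ a ∈ U, x * a = a * x := by
  obtain ⟨f, -, hfk, hf⟩ := h
  intro a ha
  refine eq_one_of_chain (hU.to_le hWU) hx hc ?_
  have h1 := hf x ⟨a, ha⟩ ⟨x * a * x⁻¹, conj_mem ha x⟩ rfl
  rw [hxρ, val_one', one_mulVec] at h1
  have h2 := (hfk (⟨x * a * x⁻¹, conj_mem ha x⟩ * ⟨a, ha⟩⁻¹)).1
    (by rw [map_mul, map_inv, Multiplicative.toAdd.injective h1, mul_inv_cancel])
  simpa [commutatorElement_def] using h2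

namespace Sit

variable (h : Sit p F S φ)
include h

theorem Q_le_ker (hρ : IsLift S φ ρ) : Cfsg.pCore p G ≤ ρ.ker := fun x hx => by
  rw [MonoidHom.mem_ker, ← uniSL_zero]
  exact hρ.2.2 x (h.core_le hx) 0 (by rw [uniSL_zero, map_one]; exact h.coreKer hx)

/-- The kernel of the lift. -/
theorem ker_eq (hρ : IsLift S φ ρ)
    (hc : ∀ x : G, ρ x = 1 → (orderOf x).Coprime p → ∀ a ∈ Cfsg.pCore p G, x * a = a * x) :
    ρ.ker = Cfsg.pCore p G := by
  have hP : IsPGroup p (Cfsg.pCore p G) := h.isPGroup.to_le h.core_le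
  have hker : IsPGroup p ρ.ker := by
    rintro ⟨x, hx⟩
    obtain ⟨a, m, hm, e⟩ := Nat.exists_eq_pow_mul_and_not_dvd (orderOf_pos x).ne' p hp.out.ne_one
    set y := x ^ p ^ a with hy
    have hyo : orderOf y = m := by
      rw [hy, orderOf_pow_of_dvd (pow_ne_zero _ hp.out.ne_zero) ⟨m, e⟩, e,
        Nat.mul_div_cancel_left _ (pow_pos hp.out.pos _)]
    have hco : (orderOf y).Coprime p := hyo ▸ (hp.out.coprime_iff_not_dvd.2 hm).symm
    have hyk : ρ y = 1 := by rw [hy, map_pow, hx, one_pow]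
    have hyP : y ∈ Cfsg.pCore p G := h.charP fun a ha => (hc y hyk hco a ha).symm
    obtain ⟨j, hj⟩ := IsPGroup.iff_orderOf.1 hP ⟨y, hyP⟩
    rw [orderOf_mk] at hj
    have h1 : y = 1 := orderOf_eq_one_iff.1 (Nat.Coprime.eq_one_of_dvd (hco.pow_right j) (dvd_of_eq hj))
    exact ⟨a, Subtype.ext h1⟩
  refine le_antisymm ?_ (h.Q_le_ker hρ)
  exact le_sSup ⟨inferInstance, hker⟩

/-- Recognition of a natural factor. -/
theorem exists_fac {U W L : Subgroup G} [U.Normal] [W.Normal] (hWU : W ≤ U)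
    (hab : ⁅U, U⁆ ≤ W) (hQ : ⁅U, Cfsg.pCore p G⁆ ≤ W) (hnt : ¬ ⁅U, (⊤ : Subgroup G)⁆ ≤ W)
    (hfix : ∀ u ∈ U, (∀ g : G, g * u * g⁻¹ * u⁻¹ ∈ W) → u ∈ W) (hLU : L ≤ U) (hWL : W ≤ L)
    (hUS : ⁅U, S⁆ ≤ L) (hLS : ⁅L, S⁆ ≤ W) (hidx : L.relIndex U ≤ Nat.card F) :
    ∃ ρ : G →* SL(2, F), IsLift S φ ρ ∧ Fac ρ U W := by
  set N := W.subgroupOf U with hN
  let aut : G →* MulAut ↥U := MulAut.conjNormal
  have hst : ∀ g : G, N ≤ N.comap (aut g).toMonoidHom := fun g u hu => by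
    show ((aut g u : ↥U) : G) ∈ W
    rw [MulAut.conjNormal_apply]
    exact conj_mem (mem_subgroupOf.1 hu) g
  let act : G → (↥U ⧸ N →* ↥U ⧸ N) := fun g => QuotientGroup.map N N (aut g).toMonoidHom (hst g)
  have hact : ∀ g (u : ↥U), act g (u : ↥U ⧸ N) = ((aut g u : ↥U) : ↥U ⧸ N) := fun g u => rfl
  letI : CommGroup (↥U ⧸ N) :=
    { (inferInstance : Group (↥U ⧸ N)) with
      mul_comm := fun a b => by
        obtain ⟨a, rfl⟩ := QuotientGroup.mk_surjective a
        obtain ⟨b, rfl⟩ := QuotientGroup.mk_surjective b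
        show ((a * b : ↥U) : ↥U ⧸ N) = ((b * a : ↥U) : ↥U ⧸ N)
        rw [QuotientGroup.eq, mem_subgroupOf]
        have := hab (commutator_mem_commutator (inv_mem b.2) (inv_mem a.2))
        simpa [commutatorElement_def, mul_assoc] using this }
  letI : DistribMulAction G (Additive (↥U ⧸ N)) :=
    { smul := fun g m => Additive.ofMul (act g m.toMul)
      one_smul := fun m => by
        obtain ⟨u, e⟩ := QuotientGroup.mk_surjective m.toMul
        show Additive.ofMul (act 1 m.toMul) = m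
        rw [← e, hact, map_one]
        exact congrArg Additive.ofMul e
      mul_smul := fun g g' m => by
        obtain ⟨u, e⟩ := QuotientGroup.mk_surjective m.toMul
        show Additive.ofMul (act (g * g') m.toMul) = Additive.ofMul (act g (act g' m.toMul))
        rw [← e, hact, hact, hact, map_mul]
        rfl
      smul_zero := fun g => congrArg Additive.ofMul (map_one (act g))
      smul_add := fun g a b => congrArg Additive.ofMul (map_mul (act g) a.toMul b.toMul) }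
  let mk : ↥U → Additive (↥U ⧸ N) := fun u => Additive.ofMul (u : ↥U ⧸ N)
  have mk_surj : ∀ m : Additive (↥U ⧸ N), ∃ u, mk u = m := fun m => by
    obtain ⟨u, e⟩ := QuotientGroup.mk_surjective m.toMul
    exact ⟨u, congrArg Additive.ofMul e⟩
  have hsmul : ∀ (g : G) u, g • mk u = mk (aut g u) := fun g u => rfl
  have hfixmk : ∀ (g : G) u, g • mk u = mk u ↔ g * (u : G) * g⁻¹ * (u : G)⁻¹ ∈ W := fun g u => by
    rw [hsmul]
    show ((aut g u : ↥U) : ↥U ⧸ N) = (u : ↥U ⧸ N) ↔ _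
    rw [eq_comm, QuotientGroup.eq, mem_subgroupOf]
    show (u : G)⁻¹ * (aut g u : ↥U) ∈ W ↔ _
    rw [MulAut.conjNormal_apply]
    exact ⟨fun h1 => by simpa [mul_assoc] using conj_mem h1 (u : G),
      fun h1 => by simpa [mul_assoc] using conj_mem h1 (u : G)⁻¹⟩
  have hmem : ∀ {A : Subgroup G} (u : ↥U) (g : G), g ∈ A → ∀ {B : Subgroup G}, ⁅U, A⁆ ≤ B →
      g * (u : G) * g⁻¹ * (u : G)⁻¹ ∈ B := fun u g hg B hB => by
    have := inv_mem (hB (commutator_mem_commutator u.2 hg))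
    rwa [commutatorElement_inv, commutatorElement_def] at this
  have hfixL : ∀ u : ↥U, (u : G) ∈ L → ∀ s ∈ S, s • mk u = mk u := fun u hu s hs => by
    rw [hfixmk]
    have := inv_mem (hLS (commutator_mem_commutator hu hs))
    rwa [commutatorElement_inv, commutatorElement_def] at this
  obtain ⟨ρ, ψ, hρ, hψ⟩ := h.natural (M := Additive (↥U ⧸ N))
    (fun x hx m => by
      obtain ⟨u, rfl⟩ := mk_surj m
      exact (hfixmk x u).2 (hmem u x hx hQ))
    (by
      by_contra hall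
      push Not at hall
      refine hnt (commutator_le.2 fun u hu g _ => ?_)
      have := inv_mem ((hfixmk g ⟨u, hu⟩).1 (hall g _))
      rwa [← commutatorElement_def, commutatorElement_inv] at this)
    (fun m hm => by
      obtain ⟨u, rfl⟩ := mk_surj m
      show Additive.ofMul (u : ↥U ⧸ N) = Additive.ofMul 1
      refine congrArg Additive.ofMul ((QuotientGroup.eq_one_iff u).2 ?_)
      exact mem_subgroupOf.2 (hfix u u.2 fun g => (hfixmk g u).1 (hm g)))
    (fun s hs m t ht => by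
      obtain ⟨u, rfl⟩ := mk_surj m
      have e : s • mk u - mk u = mk (aut s u * u⁻¹) := by rw [hsmul, sub_eq_add_neg]; rfl
      rw [e]
      refine hfixL _ ?_ t ht
      show ((aut s u : ↥U) : G) * (u : G)⁻¹ ∈ L
      rw [MulAut.conjNormal_apply]
      exact hmem u s hs hUS)
    (by
      have h1 : Nat.card (Additive (↥U ⧸ N)) = W.relIndex U :=
        (Nat.card_congr Additive.toMul).trans rfl
      rw [h1, ← relIndex_mul_relIndex W L U hWL hLU, mul_comm]
      refine Nat.mul_le_mul hidx ?_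
      let g : ↥L ⧸ W.subgroupOf L → {m : Additive (↥U ⧸ N) // ∀ s ∈ S, s • m = m} :=
        Quotient.lift (fun l : ↥L => ⟨mk ⟨l, hLU l.2⟩, hfixL _ l.2⟩) fun a b hab' => Subtype.ext (by
          refine congrArg Additive.ofMul (QuotientGroup.eq.2 ?_)
          exact mem_subgroupOf.2 (mem_subgroupOf.1 ((QuotientGroup.leftRel_apply (s := W.subgroupOf L)).1 hab')))
      refine Nat.card_le_card_of_injective g fun a b e => ?_
      obtain ⟨a, rfl⟩ := QuotientGroup.mk_surjective a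
      obtain ⟨b, rfl⟩ := QuotientGroup.mk_surjective b
      have h2 := QuotientGroup.eq.1 (Additive.ofMul.injective (congrArg Subtype.val e))
      exact QuotientGroup.eq.2 (mem_subgroupOf.2 (mem_subgroupOf.1 h2)))
  refine ⟨ρ, hρ, MonoidHom.mk' (fun u => Multiplicative.ofAdd (ψ (mk u))) (fun u v => ?_), fun m => ?_,
    fun u => ?_, fun g u v e => ?_⟩
  · show Multiplicative.ofAdd (ψ (mk (u * v))) = _
    rw [← ofAdd_add, ← map_add]
    rfl
  · obtain ⟨u, hu⟩ := mk_surj (ψ.symm m.toAdd)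
    exact ⟨u, by simp [hu]⟩
  · show Multiplicative.ofAdd (ψ (mk u)) = 1 ↔ _
    rw [ofAdd_eq_one, AddEquiv.map_eq_zero_iff]
    show ((u : ↥U ⧸ N)) = 1 ↔ _
    rw [QuotientGroup.eq_one_iff]
    rfl
  · show ψ (mk v) = (ρ g).1.mulVec (ψ (mk u))
    rw [← hψ, hsmul]
    congr 2
    exact Subtype.ext (e.trans (MulAut.conjNormal_apply g u).symm)

end Sit

end Cfsg.Agent.CharP.PushOne
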