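import Cfsg.Agent.Lib.CharP.PushOne.Tools

/-!
Critical distance one: the Sylow group has class two and there is one natural factor.
-/

set_option autoImplicit false
set_option linter.unusedSectionVars false

namespace Cfsg.Agent.CharP.PushOne

open Subgroup
open scoped MatrixGroups commutatorElement

variable {G : Type*} [Group G] [Finite G] {p : ℕ} [hp : Fact p.Prime]
  {F : Type} [Field F] [Fintype F] {S : Subgroup G} {φ : G →* PSL(2, F)}

/-- The conclusion at critical distance one. -/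
structure OneResult (p : ℕ) (F : Type) [Field F] [Fintype F] (S : Subgroup G) (φ : G →* PSL(2, F)) : Prop where
  classTwo : S.lowerCentralSeries 2 = ⊥
  nonabelian : S.lowerCentralSeries 1 ≠ ⊥
  expTwo : p = 2 → Monoid.exponent ↥S = 4
  expOdd : p ≠ 2 → Monoid.exponent ↥S = p
  coreTop : ⁅Cfsg.pCore p G, (⊤ : Subgroup G)⁆ ≤ PushingUpCL.omegaCore p G
  natural : ∃ ρ : G →* SL(2, F), IsLift S φ ρ ∧ Fac ρ (PushingUpCL.omegaCore p G)
    (PushingUpCL.omegaCore p G ⊓ centralizer ((⊤ : Subgroup G) : Set G))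

namespace Sit

variable (h : Sit p F S φ)
include h

theorem exists_one_data (hd : h.host.dist = 1) : ∃ V' Q' : Subgroup G,
    (V' ≤ Q' ∧ Q' ≤ S) ∧ (V' ⊔ Cfsg.pCore p G = S ∧ PushingUpCL.omegaCore p G ⊔ Q' = S) ∧
    (S ≤ normalizer (V' : Set G) ∧ S ≤ normalizer (Q' : Set G)) ∧
    (∀ v ∈ V', v ^ p = 1) ∧ ∀ v ∈ V', ∀ x ∈ Q', x * v = v * x := by
  obtain ⟨n, hn, h1, h2, h3, h4, h5, h6⟩ := h.host.one hd
  set V := PushingUpCL.omegaCore p G
  set Q := Cfsg.pCore p G
  have hr : ∀ {H : Subgroup G}, cj n (H.map (emb G)) ≤ S.map (emb G) →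
      ((cj n (H.map (emb G))).comap (emb G)).map (emb G) = cj n (H.map (emb G)) :=
    fun hle => map_comap_eq_self (hle.trans (map_le_range _ _))
  have hS : ∀ {H : Subgroup G}, cj n (H.map (emb G)) ≤ S.map (emb G) →
      (cj n (H.map (emb G))).comap (emb G) ≤ S := fun hle => by
    rw [← comap_map_eq_self_of_injective emb_injective S]; exact comap_mono hle
  refine ⟨(cj n (V.map (emb G))).comap (emb G), (cj n (Q.map (emb G))).comap (emb G),
    ⟨comap_mono (cj_mono h.host.ZQ), hS h2⟩, ⟨?_, ?_⟩, ⟨?_, ?_⟩, fun v hv => ?_, fun v hv x hx => ?_⟩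
  · refine Subgroup.map_injective emb_injective ?_
    rw [Subgroup.map_sup, hr h1, h3]
  · refine Subgroup.map_injective emb_injective ?_
    rw [Subgroup.map_sup, hr h2, h4]
  · intro s hs
    refine mem_normalizer_fintype fun v hv => ?_
    rw [SetLike.mem_coe, mem_comap, map_mul, map_mul, map_inv]
    exact (mem_normalizer_iff.1 (h5 (mem_map_of_mem _ hs)) _).1 hv
  · intro s hs
    refine mem_normalizer_fintype fun v hv => ?_
    rw [SetLike.mem_coe, mem_comap, map_mul, map_mul, map_inv]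
    exact (mem_normalizer_iff.1 (h6 (mem_map_of_mem _ hs)) _).1 hv
  · obtain ⟨_, ⟨w, hw, rfl⟩, e⟩ := hv
    refine emb_injective ?_
    rw [map_pow, map_one, ← e]
    show (n * emb G w * n⁻¹) ^ p = 1
    rw [conj_pow, ← map_pow, hw.2.2, map_one, mul_one, mul_inv_cancel]
  · exact emb_injective (by rw [map_mul, map_mul]; exact h.host.cj_comm_ZQ hv hx)

/-- The structure at critical distance one. -/
theorem caseOne (hd : h.host.dist = 1) : OneResult p F S φ := by
  obtain ⟨V', Q', ⟨hV'Q', hQ'S⟩, ⟨hS1, hS2⟩, ⟨hnV', hnQ'⟩, hV'p, hV'c⟩ := h.exists_one_data hd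
  set V := PushingUpCL.omegaCore p G with hVd
  set Q := Cfsg.pCore p G with hQd
  set D := Q ⊓ Q' with hD
  have hVQ : V ≤ Q := fun v hv => hv.1
  have hQS : Q ≤ S := h.core_le
  have hV'S : V' ≤ S := hV'Q'.trans hQ'S
  have hVc : ∀ v ∈ V, ∀ x ∈ Q, x * v = v * x := fun v hv x hx => hv.2.1 x hx
  have hdec : ∀ x ∈ S, ∃ v' ∈ V', ∃ v ∈ V, ∃ d ∈ D, x = v' * v * d := fun x hx => by
    rw [← hS1] at hx
    obtain ⟨v', hv', y, hy, rfl⟩ := exists_mul (le_nz Q) hx
    have hy' : y ∈ Q' ⊔ V := by rw [sup_comm, hS2]; exact hQS hy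
    obtain ⟨d, hd', v, hv, rfl⟩ := exists_mul (le_nz V) hy'
    have hd'' : d ∈ D := ⟨by simpa using mul_mem hy (inv_mem (hVQ hv)), hd'⟩
    exact ⟨v', hv', v, hv, d, hd'', by rw [hVc v hv d hd''.1, mul_assoc]⟩
  have hZc : V ⊓ V' ≤ centralizer (S : Set G) := fun z hz x hx => by
    rw [← hS1] at hx
    obtain ⟨v', hv', y, hy, rfl⟩ := exists_mul (le_nz Q) hx
    exact (Commute.mul_left (show Commute v' z from hV'c z hz.2 v' (hV'Q' hv'))
      (show Commute y z from hVc z hz.1 y hy)).eq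
  have hVV' : ⁅V, V'⁆ ≤ V ⊓ V' := le_inf (commutator_le_left V V')
    ((commutator_comm_le V V').trans (comm_le_left (le_trans (hVQ.trans hQS) hnV')))
  have hquad : ⁅V, S⁆ ≤ centralizer (S : Set G) := by
    rw [← hS1] at *
    refine sup_comm_le (hVV'.trans hZc) ?_ (le_trans le_rfl ?_)
    · rw [comm_eq_bot fun a ha b hb => (hVc a ha b hb).symm]; exact bot_le
    · intro s hs
      refine mem_normalizer_fintype fun z hz x hx => ?_
      have h1 := hz (s⁻¹ * x * s) (mul_mem (mul_mem (inv_mem hs) hx) hs)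
      calc x * (s * z * s⁻¹) = s * (s⁻¹ * x * s * z) * s⁻¹ := by group
        _ = s * (z * (s⁻¹ * x * s)) * s⁻¹ := by rw [h1]
        _ = _ := by group
  obtain ⟨ρ, hρ, hfac⟩ := h.facV hquad
  -- the derived subgroup
  have hQn : S ≤ normalizer (Q : Set G) := le_nz Q
  have hDn : S ≤ normalizer (D : Set G) := (le_inf hQn hnQ').trans inf_normalizer_le_normalizer_inf
  have hDS : D ≤ S := inf_le_left.trans hQS
  have hD'n : S ≤ normalizer (⁅D, D⁆ : Subgroup G) := fun s hs => by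
    refine mem_normalizer_iff_map_conj_eq.2 ?_
    rw [map_commutator, mem_normalizer_iff_map_conj_eq.1 (hDn hs)]
  have hMn : S ≤ normalizer ((V ⊓ V' ⊔ ⁅D, D⁆ : Subgroup G) : Set G) :=
    (le_inf ((le_inf (le_nz V) hnV').trans inf_normalizer_le_normalizer_inf) hD'n).trans
      (normalizer_inf_normalizer_le_normalizer_sup _ _)
  have hDV : ∀ d ∈ D, ∀ v ∈ V, d * v = v * d := fun d hd' v hv => hVc v hv d hd'.1
  have hDV' : ∀ d ∈ D, ∀ v ∈ V', d * v = v * d := fun d hd' v hv => hV'c v hv d hd'.2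
  have hS3 : S ≤ V' ⊔ (V ⊔ D) := fun x hx => by
    obtain ⟨v', hv', v, hv, d, hd', rfl⟩ := hdec x hx
    exact mul_mem (mul_mem (mem_sup_left hv') (mem_sup_right (mem_sup_left hv)))
      (mem_sup_right (mem_sup_right hd'))
  have hgens : V' ⊔ (V ⊔ D) ≤ S := sup_le hV'S (sup_le (hVQ.trans hQS) hDS)
  have hSS : ⁅S, S⁆ ≤ V ⊓ V' ⊔ ⁅D, D⁆ := by
    have hnn := hgens.trans hMn
    have hbot : ∀ {A B : Subgroup G}, (∀ a ∈ A, ∀ b ∈ B, a * b = b * a) →
        ⁅A, B⁆ ≤ V ⊓ V' ⊔ ⁅D, D⁆ := fun hc => (comm_eq_bot hc).le.trans bot_le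
    have hV'V' : ∀ a ∈ V', ∀ b ∈ V', a * b = b * a := fun a ha b hb => hV'c b hb a (hV'Q' ha)
    have hnn' := le_sup_right.trans hnn
    refine (commutator_mono hS3 hS3).trans (comm_sup_le (sup_comm_le (hbot hV'V') (sup_comm_le
      (((commutator_comm_le V' V).trans hVV').trans le_sup_left)
      (hbot fun a ha b hb => (hDV' b hb a ha).symm) hnn') hnn)
      (comm_sup_le (sup_comm_le (hVV'.trans le_sup_left) (sup_comm_le
        (hbot fun a ha b hb => hVc b hb a (hVQ ha)) (hbot fun a ha b hb => (hDV b hb a ha).symm) hnn') hnn)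
        (sup_comm_le (hbot hDV') (sup_comm_le (hbot hDV) le_sup_right hnn') hnn) hnn') hnn)
  have hγ2 : S.lowerCentralSeries 2 = ⁅⁅Q, Q⁆, Q⁆ := by
    rw [Subgroup.lowerCentralSeries_succ, lcs_one]
    refine le_antisymm ?_ (commutator_mono (commutator_mono hQS hQS) hQS)
    have hDD : ⁅D, D⁆ ≤ D := comm_le_left le_normalizer
    have hn3 : S ≤ normalizer ((⁅⁅D, D⁆, D⁆ : Subgroup G) : Set G) := fun s hs => by
      refine mem_normalizer_iff_map_conj_eq.2 ?_
      rw [map_commutator, map_commutator, mem_normalizer_iff_map_conj_eq.1 (hDn hs)]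
    refine le_trans ?_ (commutator_mono (commutator_mono inf_le_left inf_le_left) inf_le_left :
      ⁅⁅D, D⁆, D⁆ ≤ _)
    refine (commutator_mono hSS le_rfl).trans (comm_sup_le ?_ ?_
      ((sup_le (inf_le_left.trans (hVQ.trans hQS)) (hDD.trans hDS)).trans hn3))
    · rw [comm_eq_bot fun a ha b hb => (hZc ha b hb).symm]; exact bot_le
    · refine (commutator_mono le_rfl hS3).trans (sup_comm_le ?_ (sup_comm_le ?_ le_rfl
        ((sup_le (hVQ.trans hQS) hDS).trans hn3)) (hgens.trans hn3))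
      · rw [comm_eq_bot fun a ha b hb => hDV' a (hDD ha) b hb]; exact bot_le
      · rw [comm_eq_bot fun a ha b hb => hDV a (hDD ha) b hb]; exact bot_le
  have hclass : S.lowerCentralSeries 2 = ⊥ := by
    refine h.kill _ (h.lcs_le 2) (h.lcs_char 2) ?_
    rw [hγ2]; infer_instance
  have hcent : ∀ c ∈ ⁅S, S⁆, ∀ z ∈ S, z * c = c * z := fun c hc z hz => by
    have h1 : ⁅c, z⁆ ∈ S.lowerCentralSeries 2 := by
      rw [Subgroup.lowerCentralSeries_succ, lcs_one]
      exact commutator_mem_commutator hc hz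
    rw [hclass, mem_bot] at h1
    exact (commutatorElement_eq_one_iff_mul_comm.1 h1).symm
  -- powers
  have hpow : ∀ n, p ∣ n → p ∣ n.choose 2 → ∀ x ∈ S, ∃ b ∈ Q, x ^ n = b ^ n := by
    intro n hn hn2 x hx
    obtain ⟨v', hv', v, hv, d, hd', rfl⟩ := hdec x hx
    refine ⟨d, hd'.1, ?_⟩
    set a := v⁻¹ * v'⁻¹ * v * v' with ha
    have haZ : a ∈ V ⊓ V' := by
      have := hVV' (commutator_mem_commutator (inv_mem hv) (inv_mem hv'))
      simpa [commutatorElement_def, ha] using this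
    have hv'S := hV'S hv'
    have hvS := hQS (hVQ hv)
    have e1 := PGroups.ClassThree.mul_pow_formula (x := v') (y := v) (a := a) (b := 1) (e := 1)
      (by rw [ha]; group) (by rw [mul_one, mul_assoc, ← hZc haZ v' hv'S]; group)
      (by rw [mul_one, mul_assoc, ← hZc haZ v hvS]; group) (fun z => Commute.one_left z)
      (fun z => Commute.one_left z) n
    obtain ⟨k, rfl⟩ := hn
    obtain ⟨l, hl⟩ := hn2
    rw [(show Commute (v' * v) d from
      (Commute.mul_left (hDV' d hd' v' hv').symm (hDV d hd' v hv).symm)).mul_pow, e1, hl, pow_mul v',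
      pow_mul v, pow_mul a, hV'p v' hv', hv.2.2, hV'p a haZ.2]
    simp
  have hnab : S.lowerCentralSeries 1 ≠ ⊥ := fun e => by
    rw [lcs_one, commutator_eq_bot_iff_le_centralizer] at e
    obtain ⟨v, hv, hvn⟩ : ∃ v ∈ V', v ∉ Q := by
      by_contra hno
      push Not at hno
      rw [sup_eq_right.2 hno] at hS1
      have h1 := h.card_S
      rw [← hS1] at h1
      exact (Finite.one_lt_card (α := F)).ne'
        (Nat.eq_of_mul_eq_mul_right Nat.card_pos (h1.symm.trans (one_mul _).symm))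
    refine hvn ?_
    have := h.host.centralizer_Z (mem_map_of_mem (emb G) (hV'S hv)) (by
      rintro _ ⟨w, hw, rfl⟩
      rw [← map_mul, ← map_mul, e (hQS (hVQ hw)) v (hV'S hv)])
    exact (mem_map_iff_mem emb_injective).1 this
  have hne : ¬ Monoid.exponent ↥S ∣ 1 := fun e => hnab (by
    rw [lcs_one]
    refine comm_eq_bot fun a ha b hb => ?_
    have h1 : (⟨a, ha⟩ : ↥S) = 1 := by
      simpa using Monoid.exponent_dvd_iff_forall_pow_eq_one.1 e ⟨a, ha⟩
    have h2 : a = 1 := congrArg Subtype.val h1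
    rw [h2, one_mul, mul_one])
  have hodd : p ≠ 2 → Monoid.exponent ↥S = p := fun hp2 => by
    have hlt : 2 < p := lt_of_le_of_ne hp.out.two_le (Ne.symm hp2)
    exact ((Nat.dvd_prime hp.out).1 (h.exponent_dvd hQS
      (hpow p dvd_rfl (hp.out.dvd_choose_self two_ne_zero hlt)))).resolve_left
      (fun e => hne (e ▸ dvd_rfl))
  have hsq : ∀ c ∈ ⁅S, S⁆, c ^ p = 1 := by
    by_cases hp2 : p = 2
    · subst hp2
      refine h.pow_eq_one (B := ⁅Q, Q⁆) (le_of_eq_of_le (lcs_one S).symm (h.lcs_le 1))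
        (fun e x hx => ?_) (commutator_mono hQS hQS) fun c hc => ?_
      · rw [← lcs_one] at hx ⊢; exact h.lcs_char 1 e x hx
      · obtain ⟨z, hz, b, hb, rfl⟩ := exists_mul (((inf_le_left.trans (hVQ.trans hQS)) : V ⊓ V' ≤ S).trans hD'n)
          (hSS hc)
        refine ⟨b, commutator_mono inf_le_left inf_le_left hb, ?_⟩
        rw [(show Commute z b from
          (hZc hz b (hDS (comm_le_left le_normalizer hb))).symm).mul_pow, hz.1.2.2, one_mul]
    · exact fun c hc => by
        have := Monoid.exponent_dvd_iff_forall_pow_eq_one.1 (hodd hp2 ▸ dvd_rfl :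
          Monoid.exponent ↥S ∣ p)
          ⟨c, ((lcs_one S).ge.trans (h.lcs_le 1)) hc⟩
        exact congrArg Subtype.val this
  have hQV : ⁅Q, (⊤ : Subgroup G)⁆ ≤ V := by
    refine h.comm_top_le ?_
    refine (commutator_mono le_rfl hS1.ge).trans (sup_comm_le ?_ ?_ (le_nz V))
    · refine commutator_le.2 fun x hx v' hv' => ?_
      have hy : x ∈ Q' ⊔ V := by rw [sup_comm, hS2]; exact hQS hx
      obtain ⟨d, hd', v, hv, rfl⟩ := exists_mul (le_nz V) hy
      have hd'' : d ∈ D := ⟨by simpa using mul_mem hx (inv_mem (hVQ hv)), hd'⟩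
      rw [commutatorElement_mul_left_eq_conj_mul,
        commutatorElement_eq_one_iff_mul_comm.2 (hDV' d hd'' v' hv'), mul_one]
      exact conj_mem (commutator_le_left V V' (commutator_mem_commutator hv hv')) d
    · intro c hc
      have hc' := commutator_mono hQS hQS hc
      exact h.mem_omega (((lcs_one S).ge.trans (h.lcs_le 1)) hc')
        (fun z hz => hcent c hc' z hz) (hsq c hc')
  refine ⟨hclass, hnab, fun hp2 => ?_, hodd, hQV, ρ, hρ, hfac⟩
  subst hp2
  have h4 : Monoid.exponent ↥S ∣ 2 ^ 2 := by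
    rw [show (2 : ℕ) ^ 2 = 4 by norm_num]
    exact h.exponent_dvd hQS (hpow 4 (by norm_num) (by decide))
  obtain ⟨i, hi, e⟩ := (Nat.dvd_prime_pow Nat.prime_two).1 h4
  interval_cases i
  · exact absurd (e ▸ dvd_rfl) hne
  · refine absurd ?_ hnab
    rw [lcs_one]
    refine comm_eq_bot fun a ha b hb => ?_
    have h2 : ∀ x ∈ S, x⁻¹ = x := fun x hx => by
      have h3 := congrArg Subtype.val
        (Monoid.exponent_dvd_iff_forall_pow_eq_one.1 (e ▸ dvd_rfl : Monoid.exponent ↥S ∣ 2 ^ 1) ⟨x, hx⟩)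
      rw [pow_one] at h3
      exact inv_eq_of_mul_eq_one_left (by simpa [pow_two] using h3)
    calc a * b = (a * b)⁻¹ := (h2 _ (mul_mem ha hb)).symm
      _ = b * a := by rw [_root_.mul_inv_rev, h2 a ha, h2 b hb]
  · simpa using e

end Sit

end Cfsg.Agent.CharP.PushOne
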