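import Cfsg.Agent.Lib.CharP.PushOne.Graph

/-!
The configurations at critical distance one and two, based at the base group.
-/

set_option autoImplicit false
set_option linter.unusedSectionVars false

namespace Cfsg.Agent.CharP.PushOne

open Subgroup
open scoped commutatorElement

variable {X : Type*} [Group X] [Finite X] {G₀ S₀ Q₀ Z₀ : Subgroup X} {q : ℕ}

/-- Additional base data needed for the configurations. -/
structure HostExtra (G₀ S₀ Q₀ Z₀ : Subgroup X) : Prop where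
  omega : ∀ n ∈ normalizer (S₀ : Set X), ∀ v ∈ Z₀, v ∈ centralizer (S₀ : Set X) → n * v * n⁻¹ ∈ Z₀
  opp_shift : ∀ g ∈ G₀, S₀ ⊔ cj g S₀ = G₀ → ∀ s ∈ S₀, s ∉ Q₀ → cj g S₀ ⊔ cj (s * g) S₀ = G₀

namespace Host

variable (h : Host q G₀ S₀ Q₀ Z₀)
include h

theorem isPath_translate {k : ℕ} {d : ℕ → X} (hd : IsPath G₀ S₀ k d) (x : X) :
    IsPath G₀ S₀ k fun i => x * d i := fun i hi => by
  obtain ⟨g, hg, n, hn, e⟩ := hd i hi
  exact ⟨g, hg, n, hn, by show x * d (i + 1) = x * d i * g * n; rw [e]; group⟩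

theorem isCrit_translate {k : ℕ} {d : ℕ → X} (hd : IsCrit G₀ S₀ Q₀ Z₀ k d) (x : X) :
    IsCrit G₀ S₀ Q₀ Z₀ k fun i => x * d i :=
  ⟨h.isPath_translate hd.1 x, fun hle => hd.2 (by rwa [cj_mul, cj_mul, cj_le] at hle)⟩

/-- The configuration at distance one. -/
theorem one (hb : h.dist = 1) : ∃ n ∈ normalizer (S₀ : Set X),
    cj n Z₀ ≤ S₀ ∧ cj n Q₀ ≤ S₀ ∧ cj n Z₀ ⊔ Q₀ = S₀ ∧ Z₀ ⊔ cj n Q₀ = S₀ ∧
    S₀ ≤ normalizer (cj n Z₀ : Set X) ∧ S₀ ≤ normalizer (cj n Q₀ : Set X) := by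
  obtain ⟨d, hd⟩ := h.exists_crit
  obtain ⟨g, hg, n, hn, h01⟩ := hd.1 0 (by omega)
  have hd' := h.isCrit_translate hd (d 0 * g)⁻¹
  set d' : ℕ → X := fun i => (d 0 * g)⁻¹ * d i
  obtain ⟨-, -, -, h4, h5, -⟩ := h.crit hd'
  have e0 : d' 0 = g⁻¹ := by show (d 0 * g)⁻¹ * d 0 = g⁻¹; group
  have e1 : d' 1 = n := by show (d 0 * g)⁻¹ * d 1 = n; rw [← Nat.zero_add 1, h01]; group
  have z0 : cj g⁻¹ Z₀ = Z₀ := cj_of_mem (h.Zn (inv_mem hg))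
  have q0 : cj g⁻¹ Q₀ = Q₀ := cj_of_mem (h.Qn (inv_mem hg))
  rw [hb, e0, e1, z0, cj_of_mem hn] at h4
  rw [hb, e0, e1, q0, cj_of_mem hn] at h5
  refine ⟨n, hn, (cj_mono (h.ZQ.trans h.QS)).trans (cj_of_mem hn).le, (cj_mono h.QS).trans (cj_of_mem hn).le,
    h5, h4, ?_, ?_⟩
  · refine le_trans (cj_of_mem hn).ge ?_
    exact (cj_mono h.SG).trans (normalizes_cj h.Zn)
  · refine le_trans (cj_of_mem hn).ge ?_
    exact (cj_mono h.SG).trans (normalizes_cj h.Qn)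

end Host

/-- A path of four steps around the base, at critical distance two. -/
structure Config (G₀ S₀ Q₀ Z₀ : Subgroup X) (d : ℕ → X) : Prop where
  path : IsPath G₀ S₀ 4 d
  crit : ∀ j ≤ 2, IsCrit G₀ S₀ Q₀ Z₀ 2 fun i => d (j + i)
  mid : d 2 ∈ G₀
  next : d 3 ∈ normalizer (S₀ : Set X)
  opp : S₀ ⊔ cj (d 2) S₀ = G₀

namespace Host

variable (h : Host q G₀ S₀ Q₀ Z₀) (hb : h.dist = 2)
include h hb

theorem config_of_path {d : ℕ → X} (hp : IsPath G₀ S₀ 4 d)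
    (hc : ∀ j ≤ 2, IsCrit G₀ S₀ Q₀ Z₀ 2 fun i => d (j + i))
    (ho : cj (d 2) S₀ ⊔ cj (d 3) S₀ = cj (d 2) G₀) :
    ∃ x : X, Config G₀ S₀ Q₀ Z₀ fun i => x * d i := by
  obtain ⟨g, hg, n, hn, h23⟩ := hp 2 (by omega)
  refine ⟨(d 2 * g)⁻¹, h.isPath_translate hp _, fun j hj => h.isCrit_translate (hc j hj) _, ?_, ?_, ?_⟩
  · show (d 2 * g)⁻¹ * d 2 ∈ G₀
    rw [show (d 2 * g)⁻¹ * d 2 = g⁻¹ by group]; exact inv_mem hg
  · show (d 2 * g)⁻¹ * d 3 ∈ _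
    rw [show (3 : ℕ) = 2 + 1 from rfl, h23, inv_mul_cancel_left]; exact hn
  · have h1 := congrArg (cj (d 2 * g)⁻¹) ho
    simp only [cj, Subgroup.map_sup] at h1
    rw [show (3 : ℕ) = 2 + 1 from rfl, h23] at h1
    have e1 : cj (d 2 * g)⁻¹ (cj (d 2 * g * n) S₀) = S₀ := by
      rw [← cj_mul, inv_mul_cancel_left, cj_of_mem hn]
    have e2 : cj (d 2 * g)⁻¹ (cj (d 2) G₀) = G₀ := by
      rw [← cj_mul, show (d 2 * g)⁻¹ * d 2 = g⁻¹ by group, cj_of_mem (le_normalizer (inv_mem hg))]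
    have e3 : cj (d 2 * g)⁻¹ (cj (d 2) S₀) = cj ((d 2 * g)⁻¹ * d 2) S₀ := (cj_mul _ _ _).symm
    rw [sup_comm]
    show cj ((d 2 * g)⁻¹ * d 2) S₀ ⊔ S₀ = G₀
    rw [← e3]
    calc cj (d 2 * g)⁻¹ (cj (d 2) S₀) ⊔ S₀
        = cj (d 2 * g)⁻¹ (cj (d 2) S₀) ⊔ cj (d 2 * g)⁻¹ (cj (d 2 * g * n) S₀) := by rw [e1]
      _ = G₀ := h1.trans e2

theorem exists_config : ∃ d, Config G₀ S₀ Q₀ Z₀ d ∧ ∃ (d' : ℕ → X) (x : X), Config G₀ S₀ Q₀ Z₀ d' ∧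
    cj (d' 1) Z₀ = cj (x * d 4) Z₀ ∧ cj (d' 3) Q₀ = cj (x * d 2) Q₀ ∧
    cj (d' 4) Z₀ = cj (x * d 1) Z₀ ∧ cj (d' 2) Q₀ = cj (x * d 3) Q₀ ∧
    cj (d' 2) G₀ = cj (x * d 3) G₀ := by
  obtain ⟨d, hp, hc, ho⟩ := h.exists_seq 3
  rw [hb] at hp ho
  simp only [hb] at hc
  obtain ⟨x, hx⟩ := h.config_of_path hb (d := d) (fun i hi => hp i (by omega))
    (fun j hj => hc j (by omega)) (ho 2 le_rfl (by omega))
  have hp1 : IsPath G₀ S₀ 4 fun i => d (1 + i) := fun i hi => hp (1 + i) (by omega)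
  obtain ⟨e, hpe, -, hie, hee⟩ := h.exists_reverse hp1
  have hce : ∀ j ≤ 2, IsCrit G₀ S₀ Q₀ Z₀ 2 fun i => e (j + i) := fun j hj => by
    refine ⟨fun i hi => hpe (j + i) (by omega), ?_⟩
    obtain ⟨-, z1, -, -⟩ := hie j (by omega)
    obtain ⟨-, -, q1, -⟩ := hie (j + 2) (by omega)
    simp only [Nat.add_zero, z1, q1]
    have h1 : IsCrit G₀ S₀ Q₀ Z₀ h.dist fun i => d (3 - j + i) := hb ▸ hc (3 - j) (by omega)
    have h2 := (h.crit h1).1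
    simp only [hb, Nat.add_zero] at h2
    rwa [show 1 + (4 - j) = 3 - j + 2 by omega, show 1 + (4 - (j + 2)) = 3 - j by omega]
  have hoe : cj (e 2) S₀ ⊔ cj (e 3) S₀ = cj (e 2) G₀ := by
    rw [show cj (e 2) S₀ = cj (d 4) S₀ from hee 1 (by omega),
      show cj (e 3) S₀ = cj (d 3) S₀ from hee 2 (by omega), (hie 2 (by omega)).1, sup_comm]
    exact ho 3 (by omega) (by omega)
  obtain ⟨y, hy⟩ := h.config_of_path hb hpe hce hoe
  refine ⟨fun i => x * d i, hx, fun i => y * e i, y * x⁻¹, hy, ?_, ?_, ?_, ?_, ?_⟩ <;>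
    simp only [cj_mul _ (e _), ← mul_assoc, inv_mul_cancel_right, cj_mul _ (d _)]
  · rw [(hie 1 (by omega)).2.1]
  · rw [(hie 3 (by omega)).2.2.1]
  · rw [(hie 4 le_rfl).2.1]
  · rw [(hie 2 (by omega)).2.2.1]
  · rw [(hie 2 (by omega)).1]

/-- The facts around the base in a configuration. -/
theorem facts {d : ℕ → X} (hd : Config G₀ S₀ Q₀ Z₀ d) :
    (cj (d 1) Z₀ ≤ Q₀ ∧ cj (d 3) Z₀ ≤ Q₀ ∧ Z₀ ≤ cj (d 3) Q₀ ∧ cj (d 4) Z₀ ≤ cj (d 3) Q₀) ∧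
    (cj (d 1) Z₀ ⊔ cj (d 3) Q₀ = S₀ ∧ cj (d 3) Z₀ ⊔ cj (d 1) Q₀ = cj (d 2) S₀ ∧
      cj (d 4) Z₀ ⊔ Q₀ = S₀ ∧ cj (d 0) Z₀ ⊔ Q₀ = cj (d 2) S₀) ∧
    (cj (d 3) Q₀ ≤ S₀ ∧ cj (d 3) Q₀ ≤ Z₀ ⊔ cj (d 4) Q₀ ∧ cj (d 1) Q₀ ≤ Z₀ ⊔ cj (d 0) Q₀ ∧
      Q₀ ≤ cj (d 2) S₀ ∧ cj (d 1) Q₀ ≤ cj (d 2) S₀) ∧
    ⁅cj (d 1) Z₀, cj (d 2) S₀⁆ ≤ centralizer (G₀ : Set X) := by
  have hp := hd.path
  have c : ∀ j ≤ 2, _ := fun j hj => h.crit (d := fun i => d (j + i)) (hb ▸ hd.crit j hj)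
  have c0 := c 0 (by omega)
  have c1 := c 1 (by omega)
  have c2 := c 2 le_rfl
  simp only [hb, Nat.zero_add, Nat.reduceAdd] at c0 c1 c2
  have z2 : cj (d 2) Z₀ = Z₀ := cj_of_mem (h.Zn hd.mid)
  have q2 : cj (d 2) Q₀ = Q₀ := cj_of_mem (h.Qn hd.mid)
  have s3 : cj (d 3) S₀ = S₀ := cj_of_mem hd.next
  rw [z2, q2] at c0
  rw [s3] at c1
  rw [z2, q2, s3] at c2
  have f12 := h.flat_sub hp (i := 1) (j := 2) (by omega) (by omega) (by omega)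
  have f23 := h.flat_sub hp (i := 2) (j := 3) (by omega) (by omega) (by omega)
  have f34 := h.flat_sub hp (i := 3) (j := 4) (by omega) (by omega) (by omega)
  rw [z2, q2] at f12 f23
  have e12 : cj (d 1) Q₀ ≤ cj (d 2) S₀ := h.Q_le_edge (hp 1 (by omega))
  have eQ : Q₀ ≤ cj (d 2) S₀ := by rw [← q2]; exact cj_mono h.QS
  have e01 : cj (d 1) Q₀ ≤ cj (d 1) S₀ := cj_mono h.QS
  have e34 : cj (d 3) Q₀ ≤ cj (d 4) S₀ := h.Q_le_edge (hp 3 (by omega))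
  refine ⟨⟨f12.1, f23.2, f23.1, f34.2⟩, ⟨c1.2.2.2.1, c1.2.2.2.2.1, c2.2.2.2.2.1, c0.2.2.2.1⟩,
    ⟨(cj_mono h.QS).trans s3.le, e34.trans c2.2.2.2.1.ge, e01.trans c0.2.2.2.2.1.ge, eQ, e12⟩, ?_⟩
  -- the commutator of the two middle neighbours is central
  have hR := c1.2.2.2.2.2.2
  have hnz : ∀ i : ℕ, i < 4 → cj (d (i + 1)) S₀ ≤ normalizer (cj (d i) Z₀ : Set X) := fun i hi => by
    obtain ⟨g, hg, n, hn, e⟩ := hp i hi
    rw [e, cj_mul_of_mem hn, ← h.cj_Z_of_mem (a := d i) hg]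
    exact (cj_mono h.SG).trans (normalizes_cj h.Zn)
  intro r hr
  have hr1 : r ∈ cj (d 1) Z₀ := comm_le_left (hnz 1 (by omega)) hr
  have hr3 : r ∈ cj (d 3) Z₀ := by
    rw [hR, ← c1.2.2.2.2.2.1] at hr
    exact comm_le_left (s3 ▸ (cj_mono h.SG).trans (normalizes_cj h.Zn) : S₀ ≤ _) hr
  have hle : G₀ ≤ centralizer ({r} : Set X) := by
    rw [← hd.opp]
    have h1 : cj (d 2) S₀ ≤ centralizer ({r} : Set X) := by
      rw [← c1.2.2.2.2.1]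
      refine sup_le (fun x hx => mem_centralizer_singleton_iff.2 ?_)
        fun x hx => mem_centralizer_singleton_iff.2 (h.cj_comm_ZQ hr1 hx)
      exact h.cj_comm_ZQ hr3 (cj_mono h.ZQ hx)
    refine sup_le ?_ h1
    rw [← c2.2.2.2.2.1]
    refine sup_le (fun x hx => mem_centralizer_singleton_iff.2 (h.cj_comm_ZQ hr3 (f34.2 hx))) ?_
    exact eQ.trans h1
  exact fun x hx => mem_centralizer_singleton_iff.1 (hle hx)

theorem commY {d : ℕ → X} (hd : Config G₀ S₀ Q₀ Z₀ d) {g : X} (hg : cj g S₀ = cj (d 2) S₀) :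
    ∀ t ∈ cj (d 1) Z₀, ∀ z ∈ cj g (cj (d 3) Z₀), t * z = z * t := by
  have hm : (d 2)⁻¹ * g ∈ normalizer (S₀ : Set X) := by
    refine mem_normalizer_iff_map_conj_eq.2 ?_
    show cj ((d 2)⁻¹ * g) S₀ = S₀
    rw [cj_mul, hg, ← cj_mul, inv_mul_cancel, cj_one]
  obtain ⟨g1, hg1, n1, hn1, h12⟩ := hd.path 1 (by omega)
  let e : ℕ → X := fun i => if i = 0 then d 1 else g * d 3
  have he : IsPath G₀ S₀ 1 e := fun i hi => by
    obtain rfl : i = 0 := by omega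
    refine ⟨g1, hg1, n1 * ((d 2)⁻¹ * g * d 3), mul_mem hn1 (mul_mem hm hd.next), ?_⟩
    show g * d 3 = d 1 * g1 * (n1 * ((d 2)⁻¹ * g * d 3))
    rw [show d 1 * g1 * (n1 * ((d 2)⁻¹ * g * d 3)) = d 1 * g1 * n1 * ((d 2)⁻¹ * g * d 3) by group,
      ← h12]
    group
  intro t ht z hz
  rw [← cj_mul] at hz
  exact (h.comm_sub he (Nat.zero_le 1) le_rfl (by omega) ht z hz).symm

theorem ct {d : ℕ → X} (hx : HostExtra G₀ S₀ Q₀ Z₀) (hd : Config G₀ S₀ Q₀ Z₀ d) :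
    ∀ t ∈ cj (d 1) Z₀, t ∉ cj (d 3) Q₀ → ∀ s ∈ cj (d 4) Z₀, s ∉ Q₀ → ⁅⁅t, s⁆, t⁆ ≠ 1 := by
  intro t ht htz s hs hsQ hct
  obtain ⟨⟨hyQ, hzQ, hVz, hwz⟩, ⟨hS, hS1, hSw, hS1l⟩, ⟨hzS, hzw, hyl, hQ1, hy1⟩, hR⟩ := h.facts hb hd
  have hwS : cj (d 4) Z₀ ≤ S₀ := hwz.trans hzS
  set S1 := cj (d 2) S₀ with hS1d
  have hS1G : S1 ≤ G₀ := (cj_mono h.SG).trans (cj_of_mem (le_normalizer hd.mid)).le
  -- the central part lies in `Z₀`
  have hRV : ⁅cj (d 1) Z₀, S1⁆ ≤ Z₀ := by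
    intro r hr
    obtain ⟨g, hg, n, hn, e⟩ := hd.path 1 (by omega)
    have hrc := hR hr
    have h1 : r ∈ cj (d 1) Z₀ := by
      refine comm_le_left ?_ hr
      show cj (d 2) S₀ ≤ _
      rw [e, cj_mul_of_mem hn, ← h.cj_Z_of_mem (a := d 1) hg]
      exact (cj_mono h.SG).trans (normalizes_cj h.Zn)
    rw [← h.cj_Z_of_mem (a := d 1) hg, mem_cj] at h1
    have hS1' : cj (d 1 * g) S₀ = S1 := by rw [hS1d, e, cj_mul_of_mem hn]
    have h2 : (d 1 * g)⁻¹ * r * (d 1 * g) ∈ centralizer (S₀ : Set X) := by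
      rw [← cj_centralizer, hS1']
      exact centralizer_le hS1G hrc
    have h3 := hx.omega ((d 2)⁻¹ * (d 1 * g)) (by
      rw [e]
      rw [show (d 1 * g * n)⁻¹ * (d 1 * g) = n⁻¹ by group]; exact inv_mem hn) _ h1 h2
    have e2 : (d 2)⁻¹ * (d 1 * g) * ((d 1 * g)⁻¹ * r * (d 1 * g)) * ((d 2)⁻¹ * (d 1 * g))⁻¹ = r := by
      calc _ = (d 2)⁻¹ * (r * d 2) := by group
        _ = (d 2)⁻¹ * (d 2 * r) := by rw [← hrc _ hd.mid]
        _ = r := inv_mul_cancel_left _ _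
    rwa [e2] at h3
  -- the elements with small commutators with the core
  let W : Subgroup X :=
    { carrier := {x | x ∈ Q₀ ∧ ∀ y ∈ Q₀, ⁅x, y⁆ ∈ Z₀ ∧ ⁅x, y⁆ ∈ centralizer (G₀ : Set X)}
      one_mem' := ⟨one_mem _, fun y _ => by rw [commutatorElement_one_left]; exact ⟨one_mem _, one_mem _⟩⟩
      mul_mem' := fun {a b} ha hb => ⟨mul_mem ha.1 hb.1, fun y hy => by
        have e : a * ⁅b, y⁆ * a⁻¹ = ⁅b, y⁆ := by
          rw [(hb.2 y hy).2 a (h.SG (h.QS ha.1)), mul_inv_cancel_right]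
        rw [commutatorElement_mul_left_eq_conj_mul, e]
        exact ⟨mul_mem (hb.2 y hy).1 (ha.2 y hy).1, mul_mem (hb.2 y hy).2 (ha.2 y hy).2⟩⟩
      inv_mem' := fun {a} ha => ⟨inv_mem ha.1, fun y hy => by
        have e : ⁅a⁻¹, y⁆ = ⁅a, y⁆⁻¹ := by
          have h1 := (ha.2 y hy).2 a (h.SG (h.QS ha.1))
          calc ⁅a⁻¹, y⁆ = a⁻¹ * (⁅a, y⁆⁻¹ * a) := by simp only [commutatorElement_def]; group
            _ = a⁻¹ * (a * ⁅a, y⁆⁻¹) := by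
              rw [(Commute.inv_right (show Commute a ⁅a, y⁆ from h1)).eq]
            _ = _ := inv_mul_cancel_left _ _
        rw [e]
        exact ⟨inv_mem (ha.2 y hy).1, inv_mem (ha.2 y hy).2⟩⟩ }
  have hWn : ∀ g ∈ G₀, ∀ x ∈ W, g * x * g⁻¹ ∈ W := fun g hg x hxW => by
    refine ⟨(mem_normalizer_iff.1 (h.Qn hg) x).1 hxW.1, fun y hy => ?_⟩
    have hy' : g⁻¹ * y * g ∈ Q₀ := by simpa using (mem_normalizer_iff.1 (h.Qn (inv_mem hg)) y).1 hy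
    obtain ⟨h1, h2⟩ := hxW.2 _ hy'
    have e : ⁅g * x * g⁻¹, y⁆ = g * ⁅x, g⁻¹ * y * g⁆ * g⁻¹ := by
      simp only [commutatorElement_def]; group
    rw [e, h2 g hg, mul_inv_cancel_right]
    exact ⟨h1, h2⟩
  have htW : t ∈ W := ⟨hyQ ht, fun y hy =>
    ⟨hRV (commutator_mem_commutator ht (hQ1 hy)), hR (commutator_mem_commutator ht (hQ1 hy))⟩⟩
  set c := ⁅t, s⁆ with hc
  have hcW : c ∈ W := by
    rw [hc, show ⁅t, s⁆ = t * (s * t⁻¹ * s⁻¹) by rw [commutatorElement_def]; group]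
    exact mul_mem htW (hWn s (h.SG (hwS hs)) _ (inv_mem htW))
  have hcz : c ∈ cj (d 3) Q₀ := by
    rw [hc, show ⁅t, s⁆ = t * s * t⁻¹ * s⁻¹ from commutatorElement_def _ _]
    refine mul_mem ?_ (inv_mem (hwz hs))
    refine (mem_normalizer_iff.1 ?_ s).1 (hwz hs)
    refine ((cj_mono h.SG).trans (normalizes_cj h.Qn)) ?_
    rw [cj_of_mem hd.next]
    exact h.QS (hyQ ht)
  -- `t` does not centralise `S1`
  have htS1 : t ∉ centralizer (S1 : Set X) := fun hcen => by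
    refine htz (h.cj_centralizer_Z (a := d 3) ?_ fun z hz => (hcen z (hQ1 (hzQ hz))).symm)
    rw [cj_of_mem hd.next]; exact h.QS (hyQ ht)
  have hcy : c ∈ cj (d 1) Q₀ := by
    by_contra hcy
    obtain ⟨g, hg, n, hn, e⟩ := hd.path 1 (by omega)
    obtain ⟨f1, f2, f3⟩ := h.step_reverse hg hn e
    refine htS1 ?_
    rw [hS1d, ← f1]
    refine h.cj_fix (f1.ge (hQ1 hcW.1)) (by rwa [f2]) (f3.ge ht) ?_
    exact commutatorElement_eq_one_iff_mul_comm.1 hct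
  -- the stabiliser of a class modulo `Z₀`
  let K : X → Subgroup X := fun x =>
    { carrier := {g | g ∈ G₀ ∧ g * x * g⁻¹ * x⁻¹ ∈ Z₀}
      one_mem' := ⟨one_mem _, by simp⟩
      mul_mem' := fun {a b} ha hb => ⟨mul_mem ha.1 hb.1, by
        rw [show a * b * x * (a * b)⁻¹ * x⁻¹ = a * (b * x * b⁻¹ * x⁻¹) * a⁻¹ * (a * x * a⁻¹ * x⁻¹) by group]
        exact mul_mem ((mem_normalizer_iff.1 (h.Zn ha.1) _).1 hb.2) ha.2⟩
      inv_mem' := fun {a} ha => ⟨inv_mem ha.1, by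
        rw [show a⁻¹ * x * a⁻¹⁻¹ * x⁻¹ = a⁻¹ * (a * x * a⁻¹ * x⁻¹)⁻¹ * a⁻¹⁻¹ by group]
        exact (mem_normalizer_iff.1 (h.Zn (inv_mem ha.1)) _).1 (inv_mem ha.2)⟩ }
  have memK : ∀ {x g : X}, g ∈ G₀ → ⁅g, x⁆ ∈ Z₀ → g ∈ K x := fun hg hm =>
    ⟨hg, by rwa [commutatorElement_def] at hm⟩
  have hfixc : G₀ ≤ K c := by
    rw [← hd.opp]
    refine sup_le ?_ ?_
    · rw [← hSw]
      refine sup_le (fun w hw => memK (h.SG (hwS hw)) ?_) fun y hy => memK (h.SG (h.QS hy)) ?_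
      · obtain hvq := hzw hcz
        rw [← SetLike.mem_coe, coe_mul_of_left_le_normalizer_right] at hvq
        · obtain ⟨v, hv, qw, hqw, e⟩ := hvq
          simp only at e
          rw [← e, commutatorElement_mul_right_eq_mul_conj,
            commutatorElement_eq_one_iff_mul_comm.2 (h.cj_comm_ZQ hw hqw).symm]
          simp only [mul_one, mul_inv_cancel_right]
          exact comm_le_left (fun x hx => h.Zn (h.SG (hwS hx)))
            (commutator_comm (cj (d 4) Z₀) Z₀ ▸ commutator_mem_commutator hw hv)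
        · refine le_trans ?_ (normalizes_cj h.Qn)
          refine le_trans ?_ (cj_mono h.SG)
          exact ((h.crit (d := fun i => d (2 + i)) (hb ▸ hd.crit 2 le_rfl)).2.1.trans_eq
            (by simp only [hb])).trans' (cj_of_mem (h.Zn hd.mid)).ge
      · rw [← commutatorElement_inv]; exact inv_mem (hcW.2 y hy).1
    · refine le_trans hS1l.ge ?_
      refine sup_le (fun w hw => memK (hS1G (hS1l.le (mem_sup_left hw))) ?_)
        fun y hy => memK (h.SG (h.QS hy)) ?_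
      · obtain hvq := hyl hcy
        rw [← SetLike.mem_coe, coe_mul_of_left_le_normalizer_right] at hvq
        · obtain ⟨v, hv, qw, hqw, e⟩ := hvq
          simp only at e
          rw [← e, commutatorElement_mul_right_eq_mul_conj,
            commutatorElement_eq_one_iff_mul_comm.2 (h.cj_comm_ZQ hw hqw).symm]
          simp only [mul_one, mul_inv_cancel_right]
          exact comm_le_left (fun x hx => h.Zn (hS1G (hS1l.le (mem_sup_left hx))))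
            (commutator_comm (cj (d 0) Z₀) Z₀ ▸ commutator_mem_commutator hw hv)
        · obtain ⟨g, hg, n, hn, e⟩ := hd.path 0 (by omega)
          have c0 := (h.crit (d := fun i => d (0 + i)) (hb ▸ hd.crit 0 (by omega))).2.2.1
          simp only [hb, Nat.zero_add, cj_of_mem (h.Zn hd.mid)] at c0
          refine c0.trans ?_
          rw [e, cj_mul_of_mem hn, ← h.cj_Q_of_mem (a := d 0) hg]
          exact (cj_mono h.SG).trans (normalizes_cj h.Qn)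
      · rw [← commutatorElement_inv]; exact inv_mem (hcW.2 y hy).1
  -- `t` is fixed modulo `Z₀` by everything
  have hS1t : S1 ≤ K t := fun x hx => memK (hS1G hx) (by
    rw [← commutatorElement_inv]; exact inv_mem (hRV (commutator_mem_commutator ht hx)))
  set t' := s * t * s⁻¹ with ht'
  have hsG : s ∈ G₀ := h.SG (hwS hs)
  have hct' : t' = c⁻¹ * t := by
    rw [ht', hc, commutatorElement_def]; group
  have h1 : S1 ≤ K t' := fun x hx => by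
    refine memK (hS1G hx) ?_
    have hcx : ⁅x, c⁻¹⁆ ∈ Z₀ := by
      have e : ⁅x, c⁻¹⁆ = c⁻¹ * ⁅x, c⁆⁻¹ * c := by simp only [commutatorElement_def]; group
      rw [e]
      have := (mem_normalizer_iff.1 (h.Zn (inv_mem (h.SG (h.QS hcW.1)))) ⁅x, c⁆⁻¹).1 (inv_mem (by
        have := (hfixc (hS1G hx)).2
        rwa [← commutatorElement_def] at this))
      rwa [inv_inv] at this
    rw [hct', commutatorElement_mul_right_eq_mul_conj, mul_assoc _ c⁻¹, mul_assoc ⁅x, c⁻¹⁆]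
    have hxt : ⁅x, t⁆ ∈ Z₀ := by
      rw [← commutatorElement_inv]; exact inv_mem (hRV (commutator_mem_commutator ht hx))
    exact mul_mem hcx ((mem_normalizer_iff.1 (h.Zn (inv_mem (h.SG (h.QS hcW.1)))) _).1 hxt)
  have h2 : cj (s * d 2) S₀ ≤ K t' := by
    rw [cj_mul]
    rintro _ ⟨x, hx, rfl⟩
    refine ⟨mul_mem (mul_mem hsG (hS1G hx)) (inv_mem hsG), ?_⟩
    show s * x * s⁻¹ * t' * (s * x * s⁻¹)⁻¹ * t'⁻¹ ∈ Z₀
    rw [show s * x * s⁻¹ * t' * (s * x * s⁻¹)⁻¹ * t'⁻¹ = s * (x * t * x⁻¹ * t⁻¹) * s⁻¹ by rw [ht']; group]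
    exact (mem_normalizer_iff.1 (h.Zn hsG) _).1 (hS1t hx).2
  have hall : ∀ g ∈ G₀, g * t * g⁻¹ * t⁻¹ ∈ Z₀ := fun g hg => by
    have hg' : s * g * s⁻¹ ∈ K t' := by
      refine (sup_le h1 h2) ?_
      rw [hS1d, hx.opp_shift _ hd.mid hd.opp s (hwS hs) hsQ]
      exact mul_mem (mul_mem hsG hg) (inv_mem hsG)
    have := (mem_normalizer_iff.1 (h.Zn (inv_mem hsG)) _).1 hg'.2
    rwa [show s⁻¹ * (s * g * s⁻¹ * t' * (s * g * s⁻¹)⁻¹ * t'⁻¹) * s⁻¹⁻¹ = g * t * g⁻¹ * t⁻¹ by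
      rw [ht']; group] at this
  -- so `t` centralises the other neighbour
  refine htz (h.cj_centralizer_Z (a := d 3) (by rw [cj_of_mem hd.next]; exact h.QS (hyQ ht)) fun z hz => ?_)
  have hg : d 2 ∈ G₀ := hd.mid
  set v := (d 2)⁻¹ * t * d 2 * t⁻¹ with hv
  have hvZ : v ∈ Z₀ := by simpa [hv] using hall (d 2)⁻¹ (inv_mem hg)
  have hcomm := h.commY hb hd (g := d 2) rfl t ht (d 2 * z * (d 2)⁻¹) ⟨z, hz, rfl⟩
  have h4 : (v * t) * z = z * (v * t) := by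
    rw [show v * t = (d 2)⁻¹ * t * d 2 by rw [hv]; group]
    calc (d 2)⁻¹ * t * d 2 * z = (d 2)⁻¹ * (t * (d 2 * z * (d 2)⁻¹)) * d 2 := by group
      _ = (d 2)⁻¹ * (d 2 * z * (d 2)⁻¹ * t) * d 2 := by rw [hcomm]
      _ = _ := by group
  have h5 : z * v = v * z := h.Zc v hvZ z (hzQ hz)
  have h6 : v * (t * z) = v * (z * t) := by
    rw [← mul_assoc, h4, ← mul_assoc, h5, mul_assoc]
  exact mul_left_cancel h6

/-- Commutators with the far neighbour. -/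
theorem cnc {d : ℕ → X} (hd : Config G₀ S₀ Q₀ Z₀ d) : ∀ c ∈ cj (d 3) Q₀, ∀ s ∈ cj (d 4) Z₀,
    s ∉ Q₀ → ⁅c, s⁆ ≠ 1 → ⁅c, s⁆ ∉ centralizer (G₀ : Set X) := by
  intro c hc s hs hsQ hne
  obtain ⟨⟨-, -, hVz, hwz⟩, -, ⟨hzS, hzw, -, -, -⟩, -⟩ := h.facts hb hd
  have h1 := hzw hc
  rw [← SetLike.mem_coe, coe_mul_of_left_le_normalizer_right _ _
    ((hVz.trans (h.Q_le_edge (hd.path 3 (by omega)))).trans ((cj_mono h.SG).trans (normalizes_cj h.Qn)))] at h1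
  obtain ⟨v, hv, qw, hqw, rfl⟩ := h1
  have e : ⁅v * qw, s⁆ = ⁅v, s⁆ := by
    rw [commutatorElement_mul_left_eq_conj_mul,
      commutatorElement_eq_one_iff_mul_comm.2 (h.cj_comm_ZQ hs hqw), mul_one, mul_inv_cancel, one_mul]
  rw [e] at hne ⊢
  have hsS : s ∈ S₀ := hzS (hwz hs)
  exact h.noncentral v hv (fun hvc => hne (commutatorElement_eq_one_iff_mul_comm.2 (hvc s hsS).symm)) s hsS hsQ

theorem cs (hx : HostExtra G₀ S₀ Q₀ Z₀) : ∃ d, Config G₀ S₀ Q₀ Z₀ d ∧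
    (∀ w ∈ cj (d 4) Z₀, ∀ a ∈ cj (d 3) Q₀, ⁅w, a⁆ ∈ centralizer (cj (d 3) G₀ : Set X)) ∧
    ∀ t ∈ cj (d 1) Z₀, t ∉ cj (d 3) Q₀ → ∀ s ∈ cj (d 4) Z₀, s ∉ Q₀ →
      ⁅⁅t, s⁆, t⁆ ≠ 1 ∧ ⁅⁅t, s⁆, s⁆ ≠ 1 := by
  obtain ⟨d, hd, d', x, hd', z1, q3, z4, q2, g2⟩ := h.exists_config hb
  refine ⟨d, hd, fun w hw a ha => ?_, fun t ht htz s hs hsQ => ⟨h.ct hb hx hd t ht htz s hs hsQ, fun e => ?_⟩⟩
  · have h1 : ⁅x * w * x⁻¹, x * a * x⁻¹⁆ ∈ centralizer (G₀ : Set X) := by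
      refine (h.facts hb hd').2.2.2 (commutator_mem_commutator ?_ ?_)
      · rw [z1, cj_mul]; exact ⟨w, hw, rfl⟩
      · refine (cj_mono h.QS) ?_
        rw [q2, cj_mul]; exact ⟨a, ha, rfl⟩
    have hG : cj x (cj (d 3) G₀) = G₀ := by
      rw [← cj_mul, ← g2]; exact cj_of_mem (le_normalizer hd'.mid)
    rw [← hG, cj_centralizer] at h1
    rwa [show x⁻¹ * ⁅x * w * x⁻¹, x * a * x⁻¹⁆ * x = ⁅w, a⁆ by simp only [commutatorElement_def]; group] at h1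
  have hq2 : cj (d' 2) Q₀ = Q₀ := cj_of_mem (h.Qn hd'.mid)
  refine h.ct hb hx hd' (x * s * x⁻¹) ?_ ?_ (x * t * x⁻¹) ?_ ?_ ?_
  · rw [z1, cj_mul]; exact ⟨s, hs, rfl⟩
  · rw [q3, cj_mul, cj_of_mem (h.Qn hd.mid)]
    rintro ⟨a, ha, e'⟩
    exact hsQ ((MulAut.conj x).injective e' ▸ ha)
  · rw [z4, cj_mul]; exact ⟨t, ht, rfl⟩
  · rw [← hq2, q2, cj_mul]
    rintro ⟨a, ha, e'⟩
    exact htz ((MulAut.conj x).injective e' ▸ ha)
  · have e1 : ⁅⁅x * s * x⁻¹, x * t * x⁻¹⁆, x * s * x⁻¹⁆ = x * ⁅⁅s, t⁆, s⁆ * x⁻¹ := by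
      simp only [commutatorElement_def]; group
    have e2 : ⁅⁅s, t⁆, s⁆ = 1 := by
      have hc : Commute ⁅t, s⁆ s := commutatorElement_eq_one_iff_mul_comm.1 e
      rw [← commutatorElement_inv t s]
      exact commutatorElement_eq_one_iff_mul_comm.2 hc.inv_left.eq
    rw [e1, e2]; group

end Host

end Cfsg.Agent.CharP.PushOne
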