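import Cfsg.Agent.Lib.CharP.PushOne.Omega
import Cfsg.Agent.Lib.CharP.PushOne.Pair

/-!
The overgroup: the symmetric group on `G`, in which the normaliser of the Sylow group induces all its automorphisms.
-/

set_option autoImplicit false
set_option linter.unusedSectionVars false

namespace Cfsg.Agent.CharP.PushOne

open Subgroup
open scoped MatrixGroups commutatorElement

variable {G : Type*} [Group G] [Finite G] {p : ℕ} [hp : Fact p.Prime]
  {F : Type} [Field F] [Fintype F] {S : Subgroup G} {φ : G →* PSL(2, F)}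

/-- Left translations. -/
abbrev emb (G : Type*) [Group G] : G →* Equiv.Perm G := MulAction.toPermHom G G

theorem emb_apply (a b : G) : emb G a b = a * b := rfl

theorem emb_injective : Function.Injective (emb G) := fun a b e => by
  have := congrArg (fun f : Equiv.Perm G => f 1) e
  simpa [emb_apply] using this

/-- Every automorphism of a subgroup is induced in the symmetric group on `G`. -/
theorem exists_induce (S : Subgroup G) (e : ↥S ≃* ↥S) :
    ∃ x : Equiv.Perm G, x ∈ normalizer (S.map (emb G) : Set (Equiv.Perm G)) ∧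
      ∀ s : ↥S, x * emb G s * x⁻¹ = emb G (e s) := by
  classical
  let r : G → G := fun g => (Quotient.mk (QuotientGroup.rightRel S) g).out
  have hr : ∀ g, g * (r g)⁻¹ ∈ S := fun g => by
    have h := Quotient.mk_out (s := QuotientGroup.rightRel S) g
    exact QuotientGroup.rightRel_apply.1 h
  have hrs : ∀ g, ∀ s ∈ S, r (s * g) = r g := fun g s hs => by
    refine congrArg Quotient.out (Quotient.sound ?_)
    exact QuotientGroup.rightRel_apply.2 (by
      rw [show g * (s * g)⁻¹ = s⁻¹ by group]; exact inv_mem hs)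
  let f : (↥S ≃* ↥S) → G → G := fun e g => (e ⟨_, hr g⟩ : G) * r g
  have hmul : ∀ (e : ↥S ≃* ↥S) (s : ↥S) g, f e (s * g) = e s * f e g := fun e s g => by
    show (e ⟨_, hr (s * g)⟩ : G) * r (s * g) = e s * ((e ⟨_, hr g⟩ : G) * r g)
    have e1 : (⟨_, hr (s * g)⟩ : ↥S) = s * ⟨_, hr g⟩ :=
      Subtype.ext (by show (s : G) * g * (r (s * g))⁻¹ = s * (g * (r g)⁻¹); rw [hrs g s s.2, mul_assoc])
    rw [e1, map_mul, coe_mul, hrs g s s.2, mul_assoc]
  have hinv : ∀ (e : ↥S ≃* ↥S) g, f e.symm (f e g) = g := fun e g => by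
    show f e.symm ((e ⟨_, hr g⟩ : G) * r g) = g
    rw [hmul e.symm (e ⟨_, hr g⟩) (r g), MulEquiv.symm_apply_apply]
    have h1 : r (r g) = r g := by
      refine congrArg Quotient.out ?_
      exact Quotient.out_eq _
    show g * (r g)⁻¹ * ((e.symm ⟨r g * (r (r g))⁻¹, _⟩ : G) * r (r g)) = g
    have h2 : (⟨r g * (r (r g))⁻¹, hr (r g)⟩ : ↥S) = 1 := Subtype.ext (by
      show r g * (r (r g))⁻¹ = 1; rw [h1, mul_inv_cancel])
    rw [h2, map_one, coe_one, one_mul, h1, inv_mul_cancel_right]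
  let x : Equiv.Perm G := ⟨f e, f e.symm, hinv e, fun g => by simpa using hinv e.symm g⟩
  have hx : ∀ s : ↥S, x * emb G s * x⁻¹ = emb G (e s) := fun s => by
    rw [mul_inv_eq_iff_eq_mul]
    exact Equiv.ext fun g => hmul e s g
  refine ⟨x, mem_normalizer_fintype ?_, hx⟩
  rintro _ ⟨s, hs, rfl⟩
  exact ⟨_, (e ⟨s, hs⟩).2, (hx ⟨s, hs⟩).symm⟩

theorem map_mem_centralizer {Y : Type*} [Group Y] {f : G →* Y} (hf : Function.Injective f)
    {H : Subgroup G} {z : G} : f z ∈ centralizer (H.map f : Set Y) ↔ z ∈ centralizer (H : Set G) := by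
  constructor
  · exact fun h a ha => hf (by rw [map_mul, map_mul]; exact h _ ⟨a, ha, rfl⟩)
  · rintro h _ ⟨a, ha, rfl⟩
    rw [← map_mul, ← map_mul, h a ha]

theorem map_le_normalizer {Y : Type*} [Group Y] {f : G →* Y} {H : Subgroup G} [H.Normal] :
    (⊤ : Subgroup G).map f ≤ normalizer (H.map f : Set Y) := by
  refine le_trans (map_mono (?_ : ⊤ ≤ normalizer (H : Set G))) (le_normalizer_map f)
  rw [normalizer_eq_top]

theorem cj_map {Y : Type*} [Group Y] [Finite Y] (f : G →* Y) (g : G) (H : Subgroup G) :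
    cj (f g) (H.map f) = (H.map (MulAut.conj g).toMonoidHom).map f := by
  rw [cj, Subgroup.map_map, Subgroup.map_map]
  congr 1
  ext y
  simp [map_mul, map_inv]

namespace Sit

variable (h : Sit p F S φ)
include h

theorem opp_pair {g s : G} (hg : S ⊔ S.map (MulAut.conj g).toMonoidHom = ⊤) (hs : s ∈ S)
    (hsP : s ∉ Cfsg.pCore p G) :
    S.map (MulAut.conj g).toMonoidHom ⊔ S.map (MulAut.conj (s * g)).toMonoidHom = ⊤ := by
  have h4 := congrArg (Subgroup.map (MulAut.conj g).toMonoidHom) (h.opp_shift hg hs hsP)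
  rw [Subgroup.map_sup, map_top_of_surjective _ (MulAut.conj g).surjective, Subgroup.map_map] at h4
  convert h4 using 3
  ext y
  show s * g * y * (s * g)⁻¹ = g * (g⁻¹ * s * g * y * (g⁻¹ * s * g)⁻¹) * g⁻¹
  group

theorem noncentral {v s : G} (hv : v ∈ PushingUpCL.omegaCore p G) (hvc : v ∉ centralizer (S : Set G))
    (hs : s ∈ S) (hsP : s ∉ Cfsg.pCore p G) : ⁅v, s⁆ ∉ centralizer ((⊤ : Subgroup G) : Set G) := by
  intro hz
  obtain ⟨-, hc1, hc2⟩ := h.fixed
  set V := PushingUpCL.omegaCore p G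
  set Ω := V ⊓ centralizer (S : Set G) with hΩ
  set C0 := V ⊓ centralizer ((⊤ : Subgroup G) : Set G)
  obtain ⟨g, -, hg⟩ := h.exists_opp
  set Ω' := Ω.map (MulAut.conj g).toMonoidHom with hΩ'
  have hΩ'V : Ω' ≤ V := by
    rintro _ ⟨y, hy, rfl⟩
    exact Subgroup.Normal.conj_mem inferInstance y hy.1 g
  have hinf : Ω ⊓ Ω' ≤ C0 := by
    rintro y ⟨hy, w, hw, rfl⟩
    refine ⟨hy.1, ?_⟩
    rw [← hg, CharP.centralizer_sup_eq]
    refine ⟨hy.2, ?_⟩
    rintro _ ⟨t, ht, rfl⟩
    rw [← map_mul, ← map_mul, hw.2 t ht]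
  have hV : Ω ⊔ Ω' = V := by
    refine eq_of_le_of_card_ge (sup_le inf_le_left hΩ'V) ?_
    have e := CharP.card_mul_le_card_sup_mul_card_inf Ω Ω'
    rw [card_map_of_injective (MulAut.conj g).injective] at e
    refine Nat.le_of_mul_le_mul_right ?_ (Nat.card_pos (α := C0))
    refine le_trans (le_of_eq ?_) (e.trans (Nat.mul_le_mul_left _ (card_le_of_le hinf)))
    rw [hc1, hc2]; ring
  have hab : ∀ a ∈ V, ∀ b ∈ V, a * b = b * a := fun a ha b hb =>
    hb.2.1 a ha.1
  have hn : Ω ≤ normalizer (Ω' : Set G) := fun a ha =>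
    centralizer_le_normalizer _ fun b hb => hab b (hΩ'V hb) a ha.1
  have hv' : v ∈ Ω ⊔ Ω' := hV.symm ▸ hv
  rw [← SetLike.mem_coe, coe_mul_of_left_le_normalizer_right _ _ hn] at hv'
  obtain ⟨a, ha, b, hb, rfl⟩ := hv'
  have hbV : b ∈ V := hΩ'V hb
  have hzb : ⁅b, s⁆ ∈ centralizer ((⊤ : Subgroup G) : Set G) := by
    have e : ⁅a * b, s⁆ = ⁅b, s⁆ := by
      rw [commutatorElement_mul_left_eq_conj_mul,
        commutatorElement_eq_one_iff_mul_comm.2 (ha.2 s hs).symm, mul_one]
      have hm : ⁅b, s⁆ ∈ V := by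
        rw [show ⁅b, s⁆ = b * (s * b⁻¹ * s⁻¹) by rw [commutatorElement_def]; group]
        exact mul_mem hbV (Subgroup.Normal.conj_mem inferInstance _ (inv_mem hbV) s)
      rw [hab a ha.1 _ hm, mul_inv_cancel_right]
    rwa [e] at hz
  -- the conjugate of `b` by `s` is central
  obtain ⟨b0, hb0, hbe⟩ := hb
  have hb' : ∀ y ∈ S.map (MulAut.conj g).toMonoidHom, y * b = b * y := by
    rintro _ ⟨t, ht, rfl⟩
    rw [← hbe, ← map_mul, ← map_mul, hb0.2 t ht]
  have hc : s * b * s⁻¹ ∈ centralizer ((⊤ : Subgroup G) : Set G) := by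
    have h3 := h.opp_pair hg hs hsP
    rw [← h3, CharP.centralizer_sup_eq]
    constructor
    · intro y hy
      have e : s * b * s⁻¹ = ⁅b, s⁆⁻¹ * b := by rw [commutatorElement_def]; group
      rw [e]
      exact (Commute.mul_right (inv_mem hzb y (mem_top _)) (hb' y hy)).eq
    · rintro _ ⟨t, ht, rfl⟩
      show s * g * t * (s * g)⁻¹ * (s * b * s⁻¹) = s * b * s⁻¹ * (s * g * t * (s * g)⁻¹)
      calc _ = s * (g * t * g⁻¹ * b) * s⁻¹ := by group
        _ = s * (b * (g * t * g⁻¹)) * s⁻¹ := by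
          rw [show g * t * g⁻¹ * b = b * (g * t * g⁻¹) from hb' _ ⟨t, ht, rfl⟩]
        _ = _ := by group
  refine hvc fun y hy => ?_
  have hbc : y * b = b * y := by
    have h4 := hc (s * y * s⁻¹) (mem_top _)
    calc y * b = s⁻¹ * (s * y * s⁻¹ * (s * b * s⁻¹)) * s := by group
      _ = s⁻¹ * (s * b * s⁻¹ * (s * y * s⁻¹)) * s := by rw [h4]
      _ = _ := by group
  exact (Commute.mul_right (ha.2 y hy) hbc).eq

/-- The base data in the symmetric group on `G`. -/
theorem host : Host (Nat.card F) ((⊤ : Subgroup G).map (emb G)) (S.map (emb G))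
    ((Cfsg.pCore p G).map (emb G)) ((PushingUpCL.omegaCore p G).map (emb G)) where
  SG := map_mono le_top
  QS := map_mono h.core_le
  ZQ := map_mono fun _ hv => hv.1
  Qn := map_le_normalizer
  Zn := map_le_normalizer
  Zc := by
    rintro _ ⟨v, hv, rfl⟩ _ ⟨x, hx, rfl⟩
    rw [← map_mul, ← map_mul, hv.2.1 x hx]
  fix := by
    rintro _ ⟨s, hs, rfl⟩ hsP _ ⟨v, hv, rfl⟩ hc
    exact (map_mem_centralizer emb_injective).2 (h.fixed.1 s hs (fun e => hsP (mem_map_of_mem _ e)) v hv
      (emb_injective (by rw [map_mul, map_mul]; exact hc)))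
  cardS := by rw [card_map_of_injective emb_injective, card_map_of_injective emb_injective, h.card_S]
  cardZ := by
    have e : (PushingUpCL.omegaCore p G).map (emb G) ⊓ centralizer (S.map (emb G) : Set (Equiv.Perm G)) =
        (PushingUpCL.omegaCore p G ⊓ centralizer (S : Set G)).map (emb G) := by
      ext z
      constructor
      · rintro ⟨⟨v, hv, rfl⟩, hz⟩
        exact ⟨v, ⟨hv, (map_mem_centralizer emb_injective).1 hz⟩, rfl⟩
      · rintro ⟨v, ⟨hv, hv'⟩, rfl⟩
        exact ⟨⟨v, hv, rfl⟩, (map_mem_centralizer emb_injective).2 hv'⟩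
    rw [e, card_map_of_injective emb_injective, card_map_of_injective emb_injective, h.fixed.2.1]
  one_lt := Finite.one_lt_card
  opp := by
    obtain ⟨g, -, hg⟩ := h.exists_opp
    refine ⟨emb G g, mem_map_of_mem _ (mem_top g), ?_⟩
    rw [cj_map, ← Subgroup.map_sup, hg]
  noncentral := by
    rintro _ ⟨v, hv, rfl⟩ hvc _ ⟨s, hs, rfl⟩ hsP hz
    rw [← map_commutatorElement] at hz
    exact h.noncentral hv (fun e => hvc ((map_mem_centralizer emb_injective).2 e)) hs
      (fun e => hsP (mem_map_of_mem _ e)) ((map_mem_centralizer emb_injective).1 hz)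
  kill := by
    intro U hUS hG hN
    have hU : U = (U.comap (emb G)).map (emb G) :=
      (map_comap_eq_self (hUS.trans (map_le_range _ _))).symm
    have hb : U.comap (emb G) = ⊥ := by
      refine h.kill _ (fun x hx => ?_) (fun e x hx => ?_) ⟨fun x hx g => ?_⟩
      · obtain ⟨s, hs, e⟩ := hUS hx
        exact emb_injective e ▸ hs
      · obtain ⟨y, hy, hye⟩ := exists_induce S e
        rw [mem_comap, ← hye]
        exact (mem_normalizer_iff.1 (hN hy) _).1 hx
      · rw [mem_comap, map_mul, map_mul, map_inv]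
        exact (mem_normalizer_iff.1 (hG (mem_map_of_mem _ (mem_top g))) _).1 hx
    rw [hU, hb, Subgroup.map_bot]

theorem hostExtra : HostExtra ((⊤ : Subgroup G).map (emb G)) (S.map (emb G))
    ((Cfsg.pCore p G).map (emb G)) ((PushingUpCL.omegaCore p G).map (emb G)) where
  omega := by
    rintro n hn _ ⟨v, hv, rfl⟩ hvc
    have hvS : v ∈ S := h.core_le hv.1
    obtain ⟨z, hz, e⟩ := (mem_normalizer_iff.1 hn _).1 (mem_map_of_mem (emb G) hvS)
    refine ⟨z, h.mem_omega hz ?_ ?_, e⟩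
    · refine (map_mem_centralizer emb_injective).1 ?_
      rw [e]
      intro y hy
      have h1 := hvc (n⁻¹ * y * n) (by simpa using (mem_normalizer_iff.1 (inv_mem hn) y).1 hy)
      calc y * (n * emb G v * n⁻¹) = n * (n⁻¹ * y * n * emb G v) * n⁻¹ := by group
        _ = n * (emb G v * (n⁻¹ * y * n)) * n⁻¹ := by rw [h1]
        _ = _ := by group
    · refine emb_injective ?_
      rw [map_pow, e, conj_pow, ← map_pow, hv.2.2, map_one, mul_one, mul_inv_cancel]
  opp_shift := by
    rintro _ ⟨g, -, rfl⟩ hg _ ⟨s, hs, rfl⟩ hsP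
    have hg' : S ⊔ S.map (MulAut.conj g).toMonoidHom = ⊤ := by
      refine Subgroup.map_injective emb_injective ?_
      rw [Subgroup.map_sup, ← cj_map]
      exact hg
    rw [← map_mul, cj_map, cj_map, ← Subgroup.map_sup, h.opp_pair hg' hs fun e => hsP (mem_map_of_mem _ e)]

end Sit

end Cfsg.Agent.CharP.PushOne
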