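import Cfsg.Agent.Lib.CharP.Basic

/-!
The graph of the rank one pushing-up problem inside a finite overgroup `X`: the vertices are the conjugates of
the base group, two of them being adjacent when they share a conjugate of the base Sylow group through the
normaliser of that Sylow group. The critical distance is at most two.
-/

set_option autoImplicit false
set_option linter.unusedSectionVars false
set_option linter.style.haveILetI false

namespace Cfsg.Agent.CharP.PushOne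

open Subgroup
open scoped commutatorElement

variable {X : Type*} [Group X] [Finite X]

/-- Conjugate of a subgroup. -/
abbrev cj (x : X) (H : Subgroup X) : Subgroup X := H.map (MulAut.conj x).toMonoidHom

theorem mem_cj {x y : X} {H : Subgroup X} : y ∈ cj x H ↔ x⁻¹ * y * x ∈ H := by
  constructor
  · rintro ⟨a, ha, rfl⟩
    show x⁻¹ * (x * a * x⁻¹) * x ∈ H
    rwa [show x⁻¹ * (x * a * x⁻¹) * x = a by group]
  · exact fun h => ⟨_, h, show x * (x⁻¹ * y * x) * x⁻¹ = y by group⟩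

theorem cj_one (H : Subgroup X) : cj 1 H = H := by
  ext y; rw [mem_cj]; simp

theorem cj_mul (x y : X) (H : Subgroup X) : cj (x * y) H = cj x (cj y H) := by
  ext z
  rw [mem_cj, mem_cj, mem_cj, show (x * y)⁻¹ * z * (x * y) = y⁻¹ * (x⁻¹ * z * x) * y by group]

theorem cj_of_mem {x : X} {H : Subgroup X} (hx : x ∈ normalizer (H : Set X)) : cj x H = H :=
  mem_normalizer_iff_map_conj_eq.1 hx

theorem cj_mul_of_mem {x y : X} {H : Subgroup X} (hy : y ∈ normalizer (H : Set X)) :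
    cj (x * y) H = cj x H := by rw [cj_mul, cj_of_mem hy]

theorem cj_le {x : X} {H K : Subgroup X} : cj x H ≤ cj x K ↔ H ≤ K :=
  Subgroup.map_le_map_iff_of_injective (MulAut.conj x).injective

theorem cj_comm (x : X) (H K : Subgroup X) : cj x ⁅H, K⁆ = ⁅cj x H, cj x K⁆ :=
  map_commutator H K _

theorem cj_card (x : X) (H : Subgroup X) : Nat.card ↥(cj x H) = Nat.card H :=
  card_map_of_injective (MulAut.conj x).injective

theorem cj_centralizer {x z : X} {H : Subgroup X} :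
    z ∈ centralizer (cj x H : Set X) ↔ x⁻¹ * z * x ∈ centralizer (H : Set X) := by
  constructor
  · intro h a ha
    have := h (x * a * x⁻¹) ⟨a, ha, rfl⟩
    calc a * (x⁻¹ * z * x) = x⁻¹ * ((x * a * x⁻¹) * z) * x := by group
      _ = x⁻¹ * (z * (x * a * x⁻¹)) * x := by rw [this]
      _ = _ := by group
  · rintro h _ ⟨a, ha, rfl⟩
    show x * a * x⁻¹ * z = z * (x * a * x⁻¹)
    calc x * a * x⁻¹ * z = x * (a * (x⁻¹ * z * x)) * x⁻¹ := by group
      _ = x * (x⁻¹ * z * x * a) * x⁻¹ := by rw [h a ha]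
      _ = _ := by group

theorem cj_mono {x : X} {H K : Subgroup X} (h : H ≤ K) : cj x H ≤ cj x K := map_mono h

theorem normalizes_cj {x : X} {H K : Subgroup X} (h : H ≤ normalizer (K : Set X)) :
    cj x H ≤ normalizer (cj x K : Set X) := (map_mono h).trans (le_normalizer_map _)

theorem comm_le_left {A B : Subgroup X} (h : B ≤ normalizer (A : Set X)) : ⁅A, B⁆ ≤ A :=
  commutator_le.2 fun a ha b hb => by
    rw [show ⁅a, b⁆ = a * (b * a⁻¹ * b⁻¹) by rw [commutatorElement_def]; group]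
    exact mul_mem ha ((mem_normalizer_iff.1 (h hb) _).1 (inv_mem ha))

theorem le_normalizer_of_comm {A B : Subgroup X} (h : ⁅A, B⁆ ≤ A) : B ≤ normalizer (A : Set X) :=
  fun b hb => mem_normalizer_fintype fun a ha => by
    show b * a * b⁻¹ ∈ A
    have h1 := h (commutator_mem_commutator (inv_mem ha) hb)
    have := mul_mem ha h1
    rwa [commutatorElement_def, show a * (a⁻¹ * b * a⁻¹⁻¹ * b⁻¹) = b * a * b⁻¹ by group] at this

/-- The base data. -/
structure Host (q : ℕ) (G₀ S₀ Q₀ Z₀ : Subgroup X) : Prop where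
  SG : S₀ ≤ G₀
  QS : Q₀ ≤ S₀
  ZQ : Z₀ ≤ Q₀
  Qn : G₀ ≤ normalizer (Q₀ : Set X)
  Zn : G₀ ≤ normalizer (Z₀ : Set X)
  Zc : ∀ v ∈ Z₀, ∀ x ∈ Q₀, x * v = v * x
  fix : ∀ s ∈ S₀, s ∉ Q₀ → ∀ v ∈ Z₀, s * v = v * s → v ∈ centralizer (S₀ : Set X)
  cardS : Nat.card S₀ = q * Nat.card Q₀
  cardZ : Nat.card Z₀ = q * Nat.card ↥(Z₀ ⊓ centralizer (S₀ : Set X))
  one_lt : 1 < q
  opp : ∃ g ∈ G₀, S₀ ⊔ cj g S₀ = G₀
  noncentral : ∀ v ∈ Z₀, v ∉ centralizer (S₀ : Set X) → ∀ s ∈ S₀, s ∉ Q₀ →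
    ⁅v, s⁆ ∉ centralizer (G₀ : Set X)
  kill : ∀ U : Subgroup X, U ≤ S₀ → G₀ ≤ normalizer (U : Set X) →
    normalizer (S₀ : Set X) ≤ normalizer (U : Set X) → U = ⊥

variable {G₀ S₀ Q₀ Z₀ : Subgroup X} {q : ℕ}

/-- The steps. -/
def Step (G₀ S₀ : Subgroup X) (a c : X) : Prop :=
  ∃ g ∈ G₀, ∃ n ∈ normalizer (S₀ : Set X), c = a * g * n

/-- A path of `k` steps. -/
def IsPath (G₀ S₀ : Subgroup X) (k : ℕ) (d : ℕ → X) : Prop := ∀ i < k, Step G₀ S₀ (d i) (d (i + 1))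

/-- All pairs at distance `k` are commuting. -/
def Flat (G₀ S₀ Q₀ Z₀ : Subgroup X) (k : ℕ) : Prop :=
  ∀ d, IsPath G₀ S₀ k d → cj (d 0) Z₀ ≤ cj (d k) Q₀ ∧ cj (d k) Z₀ ≤ cj (d 0) Q₀

/-- A critical path. -/
def IsCrit (G₀ S₀ Q₀ Z₀ : Subgroup X) (k : ℕ) (d : ℕ → X) : Prop :=
  IsPath G₀ S₀ k d ∧ ¬ cj (d 0) Z₀ ≤ cj (d k) Q₀

/-- The elements of the Sylow normaliser moving `Z₀` far. -/
def Far (G₀ S₀ Z₀ : Subgroup X) (n : X) : Prop :=
  n ∈ normalizer (S₀ : Set X) ∧ ¬ G₀ ≤ normalizer (cj n Z₀ ⊔ Z₀ : Subgroup X)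

namespace Host

variable (h : Host q G₀ S₀ Q₀ Z₀)
include h

theorem Z_ne_bot : Z₀ ≠ ⊥ := fun e => by
  have h1 := h.cardZ
  rw [e, bot_inf_eq, card_bot, mul_one] at h1
  exact absurd h1 h.one_lt.ne

theorem centralizer_Z {s : X} (hs : s ∈ S₀) (hc : ∀ v ∈ Z₀, s * v = v * s) : s ∈ Q₀ := by
  by_contra hsQ
  have h1 := h.cardZ
  rw [show Z₀ ⊓ centralizer (S₀ : Set X) = Z₀ from
    inf_eq_left.2 fun v hv => h.fix s hs hsQ v hv (hc v hv)] at h1
  exact absurd (Nat.eq_of_mul_eq_mul_right Nat.card_pos (h1.symm.trans (one_mul _).symm)) h.one_lt.ne'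

theorem edge_le {a c : X} (hs : Step G₀ S₀ a c) : cj c S₀ ≤ cj a G₀ ∧ cj c Q₀ ≤ cj c S₀ := by
  obtain ⟨g, hg, n, hn, rfl⟩ := hs
  refine ⟨?_, cj_mono h.QS⟩
  rw [cj_mul_of_mem hn, cj_mul]
  exact cj_mono ((cj_mono h.SG).trans (cj_of_mem (le_normalizer hg)).le)

theorem Q_le_edge {a c : X} (hs : Step G₀ S₀ a c) : cj a Q₀ ≤ cj c S₀ := by
  obtain ⟨g, hg, n, hn, rfl⟩ := hs
  rw [cj_mul_of_mem hn, ← cj_mul_of_mem (x := a) (h.Qn hg)]
  exact cj_mono h.QS

theorem cj_Z_of_mem {a g : X} (hg : g ∈ G₀) : cj (a * g) Z₀ = cj a Z₀ := cj_mul_of_mem (h.Zn hg)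

theorem cj_Q_of_mem {a g : X} (hg : g ∈ G₀) : cj (a * g) Q₀ = cj a Q₀ := cj_mul_of_mem (h.Qn hg)

theorem cj_G_of_mem {a g : X} (hg : g ∈ G₀) : cj (a * g) G₀ = cj a G₀ := cj_mul_of_mem (le_normalizer hg)

theorem cj_comm_ZQ {a : X} {v x : X} (hv : v ∈ cj a Z₀) (hx : x ∈ cj a Q₀) : x * v = v * x := by
  have e := h.Zc _ (mem_cj.1 hv) _ (mem_cj.1 hx)
  calc x * v = a * ((a⁻¹ * x * a) * (a⁻¹ * v * a)) * a⁻¹ := by group
    _ = a * ((a⁻¹ * v * a) * (a⁻¹ * x * a)) * a⁻¹ := by rw [e]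
    _ = _ := by group

theorem cj_fix {a s v : X} (hs : s ∈ cj a S₀) (hsQ : s ∉ cj a Q₀) (hv : v ∈ cj a Z₀)
    (hc : s * v = v * s) : v ∈ centralizer (cj a S₀ : Set X) := by
  refine cj_centralizer.2 (h.fix _ (mem_cj.1 hs) (fun e => hsQ (mem_cj.2 e)) _ (mem_cj.1 hv) ?_)
  calc a⁻¹ * s * a * (a⁻¹ * v * a) = a⁻¹ * (s * v) * a := by group
    _ = a⁻¹ * (v * s) * a := by rw [hc]
    _ = _ := by group

theorem cj_centralizer_Z {a s : X} (hs : s ∈ cj a S₀) (hc : ∀ v ∈ cj a Z₀, s * v = v * s) :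
    s ∈ cj a Q₀ := by
  refine mem_cj.2 (h.centralizer_Z (mem_cj.1 hs) fun v hv => ?_)
  calc a⁻¹ * s * a * v = a⁻¹ * (s * (a * v * a⁻¹)) * a := by group
    _ = a⁻¹ * (a * v * a⁻¹ * s) * a := by rw [(show s * (a * v * a⁻¹) = a * v * a⁻¹ * s from hc _ ⟨v, hv, rfl⟩)]
    _ = _ := by group

theorem cj_cardZ (a : X) : Nat.card ↥(cj a Z₀) =
    q * Nat.card ↥(cj a Z₀ ⊓ centralizer (cj a S₀ : Set X)) := by
  have e : cj a Z₀ ⊓ centralizer (cj a S₀ : Set X) = cj a (Z₀ ⊓ centralizer (S₀ : Set X)) := by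
    ext z
    rw [mem_inf, cj_centralizer, mem_cj, mem_cj, mem_inf]
  rw [e, cj_card, cj_card, h.cardZ]

theorem flat_zero : Flat G₀ S₀ Q₀ Z₀ 0 := fun _ _ => ⟨cj_mono h.ZQ, cj_mono h.ZQ⟩

theorem exists_not_flat : ∃ k, ¬ Flat G₀ S₀ Q₀ Z₀ k := by
  by_contra hall
  push Not at hall
  set R := G₀ ⊔ normalizer (S₀ : Set X)
  have hpath : ∀ r ∈ R, ∃ k d, IsPath G₀ S₀ k d ∧ d 0 = 1 ∧ d k = r := by
    intro r hr
    have hr' : r ∈ Submonoid.closure ((G₀ : Set X) ∪ (normalizer (S₀ : Set X) : Subgroup X)) := by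
      have e : R = Subgroup.closure ((G₀ : Set X) ∪ (normalizer (S₀ : Set X) : Subgroup X)) :=
        sup_eq_closure _ _
      rw [e, ← Subgroup.mem_toSubmonoid, Subgroup.closure_toSubmonoid_of_finite] at hr
      exact hr
    induction hr' using Submonoid.closure_induction_right with
    | one => exact ⟨0, fun _ => 1, fun i hi => absurd hi (Nat.not_lt_zero i), rfl, rfl⟩
    | mul_right x hx y hy ih =>
      obtain ⟨k, d, hd, h0, hk⟩ := ih (by
        show x ∈ R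
        refine (Submonoid.closure_le (S := R.toSubmonoid)).2 ?_ hx
        exact Set.union_subset (SetLike.coe_subset_coe.2 le_sup_left) (SetLike.coe_subset_coe.2 le_sup_right))
      refine ⟨k + 1, fun i => if i ≤ k then d i else x * y, ?_, ?_, ?_⟩
      · intro i hi
        rcases Nat.lt_succ_iff_lt_or_eq.1 hi with hi' | rfl
        · simp only [hi'.le, Nat.succ_le_of_lt hi', if_true]
          exact hd i hi'
        · simp only [le_refl, if_true, show ¬ i + 1 ≤ i by omega, if_false, hk]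
          rcases hy with hy | hy
          · exact ⟨y, hy, 1, one_mem _, by group⟩
          · exact ⟨1, one_mem _, y, hy, by group⟩
      · simp [h0]
      · simp
  set D := ⨅ r : R, cj (r : X) Q₀
  have hDS : D ≤ S₀ := (iInf_le _ (⟨1, one_mem R⟩ : R)).trans (by rw [cj_one]; exact h.QS)
  have hZD : Z₀ ≤ D := le_iInf fun r => by
    obtain ⟨k, d, hd, h0, hk⟩ := hpath r r.2
    have h1 := (hall k d hd).1
    rwa [h0, hk, cj_one] at h1
  have hnorm : R ≤ normalizer (D : Set X) := fun x hx => by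
    refine mem_normalizer_fintype fun y hy => ?_
    show x * y * x⁻¹ ∈ D
    refine mem_iInf.2 fun r => mem_cj.2 ?_
    have h1 := mem_cj.1 (mem_iInf.1 hy ⟨x⁻¹ * r, mul_mem (inv_mem hx) r.2⟩)
    rwa [show (x⁻¹ * (r : X))⁻¹ * y * (x⁻¹ * r) = (r : X)⁻¹ * (x * y * x⁻¹) * r by group] at h1
  exact h.Z_ne_bot (bot_unique (hZD.trans (h.kill D hDS (le_sup_left.trans hnorm)
    (le_sup_right.trans hnorm)).le))

/-- The critical distance. -/
noncomputable def dist (_h : Host q G₀ S₀ Q₀ Z₀) : ℕ := sInf {k | ¬ Flat G₀ S₀ Q₀ Z₀ k}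

theorem flat_of_lt {k : ℕ} (hk : k < h.dist) : Flat G₀ S₀ Q₀ Z₀ k :=
  not_not.1 (Nat.notMem_of_lt_sInf hk)

theorem not_flat_dist : ¬ Flat G₀ S₀ Q₀ Z₀ h.dist :=
  Nat.sInf_mem (s := {k | ¬ Flat G₀ S₀ Q₀ Z₀ k}) h.exists_not_flat

theorem one_le_dist : 1 ≤ h.dist := by
  have h1 := h.not_flat_dist
  by_contra h0
  rw [show h.dist = 0 by omega] at h1
  exact h1 h.flat_zero

theorem flat_sub {n : ℕ} {d : ℕ → X} (hd : IsPath G₀ S₀ n d) {i j : ℕ} (hij : i ≤ j) (hj : j ≤ n)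
    (hlt : j - i < h.dist) : cj (d i) Z₀ ≤ cj (d j) Q₀ ∧ cj (d j) Z₀ ≤ cj (d i) Q₀ := by
  have := h.flat_of_lt hlt (fun t => d (i + t)) fun t ht => hd (i + t) (by omega)
  simpa [Nat.add_sub_cancel' hij] using this

theorem comm_sub {n : ℕ} {d : ℕ → X} (hd : IsPath G₀ S₀ n d) {i j : ℕ} (hij : i ≤ j) (hj : j ≤ n)
    (hlt : j - i < h.dist) : cj (d i) Z₀ ≤ centralizer (cj (d j) Z₀ : Set X) :=
  fun _ hx _ hv => (h.cj_comm_ZQ hv ((h.flat_sub hd hij hj hlt).1 hx)).symm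

/-- A pair of vertices with a shared pair of edges. -/
theorem pair {a c e₁ e₂ : X} (he₁ : cj e₁ S₀ = cj a S₀) (hQ₁ : cj e₁ Q₀ = cj a Q₀)
    (hZ₁ : cj e₁ Z₀ = cj a Z₀) (he₂ : cj e₂ S₀ = cj c S₀) (hac : cj a Z₀ ≤ cj c S₀)
    (hca : cj c Z₀ ≤ cj a S₀) (hne : ¬ cj a Z₀ ≤ cj c Q₀) :
    ¬ cj c Z₀ ≤ cj a Q₀ ∧ cj a Z₀ ⊔ cj c Q₀ = cj c S₀ ∧
      ⁅cj c Z₀, cj c S₀⁆ = ⁅cj c Z₀, cj a Z₀⁆ := by
  obtain ⟨v, hv, hvQ⟩ := Set.not_subset.1 hne
  have h1 : ¬ cj c Z₀ ≤ cj a Q₀ := fun hle =>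
    hvQ (h.cj_centralizer_Z (hac hv) fun w hw => (h.cj_comm_ZQ hv (hle hw)).symm)
  obtain ⟨w, hw, hwQ⟩ := Set.not_subset.1 h1
  have hinf : cj a Z₀ ⊓ cj c Q₀ ≤ cj a Z₀ ⊓ centralizer (cj a S₀ : Set X) := fun x hx =>
    ⟨hx.1, h.cj_fix (hca hw) hwQ hx.1 (h.cj_comm_ZQ hw hx.2).symm⟩
  have h2 : cj a Z₀ ⊔ cj c Q₀ = cj c S₀ := by
    refine eq_of_le_of_card_ge (sup_le hac (cj_mono h.QS)) ?_
    have e := CharP.card_mul_le_card_sup_mul_card_inf (cj a Z₀) (cj c Q₀)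
    refine Nat.le_of_mul_le_mul_right (c := Nat.card ↥(cj a Z₀ ⊓ centralizer (cj a S₀ : Set X))) ?_
      Nat.card_pos
    refine le_trans ?_ (e.trans (Nat.mul_le_mul_left _ (card_le_of_le hinf)))
    rw [cj_card c S₀, h.cardS, h.cj_cardZ a, cj_card c Q₀]
    exact le_of_eq (by ring)
  refine ⟨h1, h2, le_antisymm ?_ (commutator_mono le_rfl hac)⟩
  rw [commutator_le]
  intro z hz s hs
  rw [← h2] at hs
  have hn : cj a Z₀ ≤ normalizer (cj c Q₀ : Set X) :=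
    hac.trans ((cj_mono h.SG).trans (normalizes_cj h.Qn))
  rw [← SetLike.mem_coe, coe_mul_of_left_le_normalizer_right _ _ hn] at hs
  obtain ⟨y, hy, x, hx, rfl⟩ := hs
  rw [commutatorElement_mul_right_eq_mul_conj,
    (commutatorElement_eq_one_iff_mul_comm (g₁ := z) (g₂ := x)).2 (h.cj_comm_ZQ hz hx).symm]
  simp only [mul_one, mul_inv_cancel_right]
  exact commutator_mem_commutator hz hy

theorem step_reverse {a c : X} {g n : X} (hg : g ∈ G₀) (hn : n ∈ normalizer (S₀ : Set X))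
    (hc : c = a * g * n) : cj (a * g) S₀ = cj c S₀ ∧ cj (a * g) Q₀ = cj a Q₀ ∧ cj (a * g) Z₀ = cj a Z₀ :=
  ⟨by rw [hc, cj_mul_of_mem hn], h.cj_Q_of_mem hg, h.cj_Z_of_mem hg⟩

/-- The structure of a critical path. -/
theorem crit {d : ℕ → X} (hd : IsCrit G₀ S₀ Q₀ Z₀ h.dist d) :
    ¬ cj (d h.dist) Z₀ ≤ cj (d 0) Q₀ ∧ cj (d 0) Z₀ ≤ cj (d h.dist) S₀ ∧ cj (d h.dist) Z₀ ≤ cj (d 1) S₀ ∧
      cj (d 0) Z₀ ⊔ cj (d h.dist) Q₀ = cj (d h.dist) S₀ ∧
      cj (d h.dist) Z₀ ⊔ cj (d 0) Q₀ = cj (d 1) S₀ ∧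
      ⁅cj (d h.dist) Z₀, cj (d h.dist) S₀⁆ = ⁅cj (d h.dist) Z₀, cj (d 0) Z₀⁆ ∧
      ⁅cj (d 0) Z₀, cj (d 1) S₀⁆ = ⁅cj (d h.dist) Z₀, cj (d 0) Z₀⁆ := by
  obtain ⟨hp, hne⟩ := hd
  have hb := h.one_le_dist
  obtain ⟨g, hg, n, hn, h01⟩ := hp 0 (by omega)
  obtain ⟨e1, e2, e3⟩ := h.step_reverse hg hn h01
  have hlast : Step G₀ S₀ (d (h.dist - 1)) (d h.dist) := by
    have := hp (h.dist - 1) (by omega)
    rwa [Nat.sub_add_cancel hb] at this
  have hac : cj (d 0) Z₀ ≤ cj (d h.dist) S₀ :=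
    (h.flat_sub hp (Nat.zero_le _) (Nat.sub_le _ _) (by omega)).1.trans (h.Q_le_edge hlast)
  have hca : cj (d h.dist) Z₀ ≤ cj (d 1) S₀ :=
    (h.flat_sub hp hb le_rfl (by omega)).2.trans (cj_mono h.QS)
  set a := d 0 * g
  have hne' : ¬ cj a Z₀ ≤ cj (d h.dist) Q₀ := by rwa [e3]
  have hca' : cj (d h.dist) Z₀ ≤ cj a S₀ := by rwa [e1]
  have hac' : cj a Z₀ ≤ cj (d h.dist) S₀ := by rwa [e3]
  obtain ⟨h1, h2, h3⟩ := h.pair (a := a) (c := d h.dist) (e₁ := a) (e₂ := d h.dist) rfl rfl rfl rfl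
    hac' hca' hne'
  obtain ⟨-, h5, h6⟩ := h.pair (a := d h.dist) (c := a) (e₁ := d h.dist) (e₂ := a) rfl rfl rfl rfl
    hca' hac' h1
  rw [e2] at h1 h5
  rw [e1] at h5
  rw [e3] at h2 h3
  rw [e3, e1, commutator_comm (cj (d 0) Z₀) (cj (d h.dist) Z₀)] at h6
  exact ⟨h1, hac, hca, h2, h5, h3, h6⟩

theorem exists_crit : ∃ d, IsCrit G₀ S₀ Q₀ Z₀ h.dist d := by
  have h1 := h.not_flat_dist
  rw [Flat] at h1
  push Not at h1
  obtain ⟨d, hd, h2⟩ := h1
  refine ⟨d, hd, fun hle => h2 hle ?_⟩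
  -- the other inclusion follows from the first one
  by_contra hne
  have hb := h.one_le_dist
  obtain ⟨g, hg, n, hn, h01⟩ := hd 0 (by omega)
  obtain ⟨e1, e2, e3⟩ := h.step_reverse hg hn h01
  have hlast : Step G₀ S₀ (d (h.dist - 1)) (d h.dist) := by
    have := hd (h.dist - 1) (by omega)
    rwa [Nat.sub_add_cancel hb] at this
  have hac : cj (d 0) Z₀ ≤ cj (d h.dist) S₀ :=
    (h.flat_sub hd (Nat.zero_le _) (Nat.sub_le _ _) (by omega)).1.trans (h.Q_le_edge hlast)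
  have hca : cj (d h.dist) Z₀ ≤ cj (d 1) S₀ :=
    (h.flat_sub hd hb le_rfl (by omega)).2.trans (cj_mono h.QS)
  rw [← e2] at hne
  rw [← e1] at hca
  rw [← e3] at hac
  exact (h.pair (a := d h.dist) (c := d 0 * g) (e₁ := d h.dist) (e₂ := d 0 * g) rfl rfl rfl rfl
    hca hac hne).1 (e3 ▸ hle)

theorem exists_far : ∃ n, Far G₀ S₀ Z₀ n := by
  by_contra hno
  simp only [Far] at hno
  push Not at hno
  set W := ⨆ n : (normalizer (S₀ : Set X) : Subgroup X), cj (n : X) Z₀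
  have hone : Z₀ ≤ W :=
    le_trans (cj_one Z₀).ge (le_iSup (fun n : (normalizer (S₀ : Set X) : Subgroup X) => cj (n : X) Z₀) 1)
  have hWS : W ≤ S₀ := iSup_le fun n => (cj_mono (h.ZQ.trans h.QS)).trans (cj_of_mem n.2).le
  refine h.Z_ne_bot (bot_unique (hone.trans (h.kill W hWS ?_ ?_).le))
  · intro g hg
    refine mem_normalizer_iff_map_conj_eq.2 (eq_of_le_of_card_ge ?_ (cj_card g W).ge)
    show cj g W ≤ W
    simp only [W, cj, Subgroup.map_iSup]
    refine iSup_le fun n => ?_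
    have hle : cj g (cj (n : X) Z₀ ⊔ Z₀) = cj (n : X) Z₀ ⊔ Z₀ := cj_of_mem (hno n n.2 hg)
    exact ((map_mono le_sup_left).trans hle.le).trans (sup_le (le_iSup (fun n :
      (normalizer (S₀ : Set X) : Subgroup X) => cj (n : X) Z₀) n) hone)
  · intro g hg
    refine mem_normalizer_iff_map_conj_eq.2 (eq_of_le_of_card_ge ?_ (cj_card g W).ge)
    show cj g W ≤ W
    simp only [W, cj, Subgroup.map_iSup]
    refine iSup_le fun n => ?_
    show cj g (cj (n : X) Z₀) ≤ _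
    rw [← cj_mul]
    exact le_iSup (fun m : (normalizer (S₀ : Set X) : Subgroup X) => cj (m : X) Z₀)
      ⟨g * n, mul_mem hg n.2⟩

/-- The shift of a critical path. -/
theorem shift {d : ℕ → X} (hd : IsCrit G₀ S₀ Q₀ Z₀ h.dist d) {g n : X} (hg : g ∈ G₀)
    (hgo : S₀ ⊔ cj g S₀ = G₀) (hn : Far G₀ S₀ Z₀ n) :
    ¬ cj (d h.dist * g * n) Z₀ ≤ cj (d 1) Q₀ := by
  intro hle
  obtain ⟨-, -, -, -, hA, hR, hR'⟩ := h.crit hd
  obtain ⟨-, hac, -, hA', -⟩ := h.crit hd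
  set A := d h.dist
  set Y := cj (A * g * n) Z₀
  refine hn.2 ?_
  have hZ0 : cj (d 0) Z₀ ≤ normalizer (Y ⊔ cj A Z₀ : Subgroup X) := by
    refine le_normalizer_of_comm ((commutator_le).2 fun y hy z hz => ?_)
    have hgen : ⁅Y, cj (d 0) Z₀⁆ ≤ cj A Z₀ := by
      refine (commutator_comm_le _ _).trans ((commutator_mono le_rfl (hle.trans (cj_mono h.QS))).trans ?_)
      rw [hR', ← hR]
      exact comm_le_left ((cj_mono h.SG).trans (normalizes_cj h.Zn))
    have hAn : ⁅cj A Z₀, cj (d 0) Z₀⁆ ≤ cj A Z₀ := comm_le_left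
      (hac.trans ((cj_mono h.SG).trans (normalizes_cj h.Zn)))
    have hYA : Y ≤ normalizer (cj A Z₀ : Set X) := by
      refine le_trans ?_ (normalizes_cj h.Zn)
      show cj (A * g * n) Z₀ ≤ cj A G₀
      exact (cj_mono (h.ZQ.trans h.QS)).trans (h.edge_le ⟨g, hg, n, hn.1, rfl⟩).1
    rw [← SetLike.mem_coe, coe_mul_of_left_le_normalizer_right _ _ hYA] at hy
    obtain ⟨y1, hy1, a1, ha1, rfl⟩ := hy
    simp only [commutatorElement_mul_left_eq_conj_mul]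
    refine mem_sup_right (mul_mem ?_ (hgen (commutator_mem_commutator hy1 hz)))
    exact (mem_normalizer_iff.1 (hYA hy1) _).1 (hAn (commutator_mem_commutator ha1 hz))
  have hSg : cj (A * g) S₀ ≤ normalizer (Y ⊔ cj A Z₀ : Subgroup X) := by
    have h1 : cj (A * g) S₀ ≤ normalizer (Y : Set X) := by
      rw [← cj_mul_of_mem (x := A * g) hn.1]
      exact (cj_mono h.SG).trans (normalizes_cj h.Zn)
    have h2 : cj (A * g) S₀ ≤ normalizer (cj A Z₀ : Set X) := by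
      rw [← h.cj_Z_of_mem (a := A) hg]
      exact (cj_mono h.SG).trans (normalizes_cj h.Zn)
    exact (le_inf h1 h2).trans ((normalizer_inf_normalizer_le_normalizer_sup _ _))
  have hS : cj A S₀ ≤ normalizer (Y ⊔ cj A Z₀ : Subgroup X) := by
    rw [← hA']
    refine sup_le hZ0 ?_
    have hQ : cj A Q₀ ≤ cj (A * g) S₀ := by
      rw [← h.cj_Q_of_mem (a := A) hg]; exact cj_mono h.QS
    exact hQ.trans hSg
  intro x hx
  have hAx : A * g * x * (A * g)⁻¹ ∈ normalizer (Y ⊔ cj A Z₀ : Subgroup X) := by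
    have h1 : cj A G₀ ≤ normalizer (Y ⊔ cj A Z₀ : Subgroup X) := by
      rw [← hgo]
      show (S₀ ⊔ cj g S₀).map _ ≤ _
      rw [Subgroup.map_sup]
      exact sup_le hS (by rw [cj_mul] at hSg; exact hSg)
    exact h1 (by rw [← h.cj_G_of_mem (a := A) hg]; exact ⟨x, hx, rfl⟩)
  have e : cj (A * g) (cj n Z₀ ⊔ Z₀) = Y ⊔ cj A Z₀ := by
    show (cj n Z₀ ⊔ Z₀).map _ = _
    rw [Subgroup.map_sup]
    show cj (A * g) (cj n Z₀) ⊔ cj (A * g) Z₀ = _
    rw [← cj_mul, h.cj_Z_of_mem hg]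
  rw [← e] at hAx
  refine mem_normalizer_iff_map_conj_eq.2 ?_
  show cj x _ = _
  have h2 := cj_of_mem hAx
  rw [← cj_mul, show A * g * x * (A * g)⁻¹ * (A * g) = (A * g) * x by group, cj_mul] at h2
  exact Subgroup.map_injective (MulAut.conj (A * g)).injective h2

/-- Extending a critical path. -/
theorem exists_seq (k : ℕ) : ∃ d : ℕ → X, IsPath G₀ S₀ (h.dist + k) d ∧
    (∀ j ≤ k, IsCrit G₀ S₀ Q₀ Z₀ h.dist fun i => d (j + i)) ∧
    ∀ i, h.dist ≤ i → i < h.dist + k → cj (d i) S₀ ⊔ cj (d (i + 1)) S₀ = cj (d i) G₀ := by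
  induction k with
  | zero =>
    obtain ⟨d, hd⟩ := h.exists_crit
    refine ⟨d, by simpa using hd.1, fun j hj => ?_, fun i h1 h2 => absurd h2 (by omega)⟩
    obtain rfl : j = 0 := by omega
    simpa using hd
  | succ k ih =>
    obtain ⟨d, hp, hc, ho⟩ := ih
    obtain ⟨g, hg, hgo⟩ := h.opp
    obtain ⟨n, hn⟩ := h.exists_far
    set B := h.dist + k with hB
    let d' : ℕ → X := fun i => if i ≤ B then d i else d B * g * n
    have hd' : ∀ i, i ≤ B → d' i = d i := fun i hi => if_pos hi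
    have hlast : d' (B + 1) = d B * g * n := if_neg (by omega)
    refine ⟨d', fun i hi => ?_, fun j hj => ?_, fun i h1 h2 => ?_⟩
    · rcases Nat.lt_succ_iff_lt_or_eq.1 (show i < B + 1 by omega) with hi' | rfl
      · rw [hd' i hi'.le, hd' (i + 1) hi']; exact hp i hi'
      · rw [hd' _ le_rfl, hlast]; exact ⟨g, hg, n, hn.1, rfl⟩
    · rcases Nat.lt_succ_iff_lt_or_eq.1 (show j < k + 1 + 1 by omega) with hj' | rfl
      · obtain ⟨hp', hne⟩ := hc j (by omega)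
        refine ⟨fun i hi => ?_, ?_⟩
        · simp only [hd' (j + i) (by omega), hd' (j + (i + 1)) (by omega)]; exact hp' i hi
        · simp only [hd' (j + 0) (by omega), hd' (j + h.dist) (by omega)]; exact hne
      · have hb := h.one_le_dist
        refine ⟨fun i hi => ?_, ?_⟩
        · rcases Nat.lt_succ_iff_lt_or_eq.1 (show k + 1 + i < B + 1 by omega) with hi' | hi'
          · simp only [hd' _ hi'.le, hd' (k + 1 + (i + 1)) (by omega)]
            rw [show k + 1 + (i + 1) = k + 1 + i + 1 by omega]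
            exact hp _ hi'
          · simp only [← Nat.add_assoc (k + 1) i 1, hi', hd' _ le_rfl, hlast]
            exact ⟨g, hg, n, hn.1, rfl⟩
        · have h1 := h.shift (hc k le_rfl) hg hgo hn
          simp only [show k + 1 + 0 = k + 1 by omega, show k + 1 + h.dist = B + 1 by omega, hlast,
            hd' (k + 1) (by omega)]
          simp only [show k + h.dist = B by omega] at h1
          intro hle
          -- reverse the inclusion
          by_cases hb1 : cj (d B * g * n) Z₀ ≤ cj (d (k + 1)) Q₀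
          · exact h1 hb1
          set d'' : ℕ → X := fun i => d' (k + 1 + i)
          have hp'' : IsPath G₀ S₀ h.dist d'' := fun i hi => by
            show Step G₀ S₀ (d' (k + 1 + i)) (d' (k + 1 + i + 1))
            rcases Nat.lt_succ_iff_lt_or_eq.1 (show k + 1 + i < B + 1 by omega) with hi' | hi'
            · rw [hd' _ hi'.le, hd' _ hi']; exact hp _ hi'
            · rw [hi', hd' _ le_rfl, hlast]; exact ⟨g, hg, n, hn.1, rfl⟩
          obtain ⟨g1, hg1, n1, hn1, h01⟩ := hp'' 0 (by omega)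
          rw [Nat.zero_add] at h01
          obtain ⟨e1, e2, e3⟩ := h.step_reverse hg1 hn1 h01
          have hs : Step G₀ S₀ (d'' (h.dist - 1)) (d'' h.dist) := by
            have := hp'' (h.dist - 1) (by omega); rwa [Nat.sub_add_cancel hb] at this
          have hac := (h.flat_sub hp'' (Nat.zero_le (h.dist - 1)) (Nat.sub_le _ _) (by omega)).1.trans
            (h.Q_le_edge hs)
          have hca := (h.flat_sub hp'' hb le_rfl (by omega)).2.trans (cj_mono h.QS)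
          have e0 : d'' 0 = d (k + 1) := hd' (k + 1) (by omega)
          have eb : d'' h.dist = d B * g * n := by
            show d' (k + 1 + h.dist) = _
            rw [show k + 1 + h.dist = B + 1 by omega, hlast]
          rw [← e0, ← eb, ← e2] at hb1
          rw [← e1] at hca
          rw [← e3] at hac
          rw [← e0, ← eb, ← e3] at hle
          exact (h.pair (a := d'' h.dist) (c := d'' 0 * g1) (e₁ := d'' h.dist) (e₂ := d'' 0 * g1)
            rfl rfl rfl rfl hca hac hb1).1 hle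
    · rcases Nat.lt_succ_iff_lt_or_eq.1 (show i < B + 1 by omega) with hi' | rfl
      · rw [hd' i hi'.le, hd' (i + 1) hi']; exact ho i h1 hi'
      · rw [hd' _ le_rfl, hlast, cj_mul_of_mem hn.1]
        conv_rhs => rw [← hgo]
        show _ = (S₀ ⊔ cj g S₀).map _
        rw [Subgroup.map_sup]
        show _ = cj (d B) S₀ ⊔ cj (d B) (cj g S₀)
        rw [cj_mul]

/-- A critical path read backwards. -/
theorem exists_reverse {k : ℕ} {d : ℕ → X} (hd : IsPath G₀ S₀ k d) : ∃ d' : ℕ → X,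
    IsPath G₀ S₀ k d' ∧ d' 0 = d k ∧
    (∀ i ≤ k, cj (d' i) G₀ = cj (d (k - i)) G₀ ∧ cj (d' i) Z₀ = cj (d (k - i)) Z₀ ∧
      cj (d' i) Q₀ = cj (d (k - i)) Q₀ ∧ (∃ g ∈ G₀, d' i = d (k - i) * g)) ∧
    ∀ i < k, cj (d' (i + 1)) S₀ = cj (d (k - i)) S₀ := by
  classical
  choose g hg n hn hdn using hd
  let gg : ℕ → X := fun i => if hi : i < k then g i hi else 1
  have hgg : ∀ i, gg i ∈ G₀ := fun i => by
    by_cases hi : i < k
    · simp only [gg, hi, dif_pos]; exact hg i hi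
    · simp only [gg, hi, dif_neg, not_false_iff]; exact one_mem _
  refine ⟨fun i => d (k - i) * gg (k - i), fun i hi => ?_, ?_, fun i hi => ?_, fun i hi => ?_⟩
  · show Step G₀ S₀ (d (k - i) * gg (k - i)) (d (k - (i + 1)) * gg (k - (i + 1)))
    set j := k - (i + 1) with hj
    have hjk : j < k := by omega
    rw [show k - i = j + 1 by omega, show gg j = g j hjk from dif_pos hjk]
    refine ⟨(gg (j + 1))⁻¹, inv_mem (hgg _), (n j hjk)⁻¹, inv_mem (hn j hjk), ?_⟩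
    rw [hdn j hjk]; group
  · show d (k - 0) * gg (k - 0) = d k
    rw [Nat.sub_zero, show gg k = 1 from dif_neg (lt_irrefl k), mul_one]
  · exact ⟨h.cj_G_of_mem (hgg _), h.cj_Z_of_mem (hgg _), h.cj_Q_of_mem (hgg _), gg _, hgg _, rfl⟩
  · show cj (d (k - (i + 1)) * gg (k - (i + 1))) S₀ = _
    set j := k - (i + 1) with hj
    have hjk : j < k := by omega
    rw [show k - i = j + 1 by omega, show gg j = g j hjk from dif_pos hjk, hdn j hjk,
      cj_mul_of_mem (hn j hjk)]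

theorem far_value {d : ℕ → X} (hd : IsCrit G₀ S₀ Q₀ Z₀ h.dist d) (hb : 2 ≤ h.dist) {n : X}
    (hn : Far G₀ S₀ Z₀ n) :
    cj (d h.dist) ⁅cj n Z₀, S₀⁆ = ⁅cj (d 1) Z₀, cj (d 2) S₀⁆ ∧
      ⁅cj n Z₀, S₀⁆ ≤ centralizer (G₀ : Set X) := by
  obtain ⟨g, hg, hgo⟩ := h.opp
  set A := d h.dist with hA
  set D := A * g * n with hD
  have hne := h.shift hd hg hgo hn
  set d2 : ℕ → X := fun i => if i < h.dist then d (1 + i) else D with hd2
  have hd2l : d2 h.dist = D := if_neg (lt_irrefl _)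
  have hd2i : ∀ i < h.dist, d2 i = d (1 + i) := fun i hi => if_pos hi
  have hp2 : IsPath G₀ S₀ h.dist d2 := fun i hi => by
    rw [hd2i i hi]
    rcases Nat.lt_succ_iff_lt_or_eq.1 (show i + 1 < h.dist + 1 by omega) with hi' | hi'
    · rw [hd2i _ hi', show 1 + (i + 1) = 1 + i + 1 by omega]; exact hd.1 _ (by omega)
    · rw [hi', hd2l, show 1 + i = h.dist by omega]
      exact ⟨g, hg, n, hn.1, rfl⟩
  have h20 : d2 0 = d 1 := hd2i 0 (by omega)
  have h21 : d2 1 = d 2 := hd2i 1 (by omega)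
  obtain ⟨g1, hg1, n1, hn1, h01⟩ := hp2 0 (by omega)
  rw [Nat.zero_add] at h01
  obtain ⟨e1, e2, e3⟩ := h.step_reverse hg1 hn1 h01
  have hs : Step G₀ S₀ (d2 (h.dist - 1)) (d2 h.dist) := by
    have := hp2 (h.dist - 1) (by omega); rwa [Nat.sub_add_cancel h.one_le_dist] at this
  have hac := (h.flat_sub hp2 (Nat.zero_le (h.dist - 1)) (Nat.sub_le _ _) (by omega)).1.trans
    (h.Q_le_edge hs)
  have hca := (h.flat_sub hp2 h.one_le_dist le_rfl (by omega)).2.trans (cj_mono h.QS)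
  rw [← e1] at hca
  rw [← e3] at hac
  have hne2 : ¬ cj (d2 h.dist) Z₀ ≤ cj (d2 0 * g1) Q₀ := by rw [e2, hd2l, h20]; exact hne
  obtain ⟨h1, -, hR1⟩ := h.pair (a := d2 h.dist) (c := d2 0 * g1) (e₁ := d2 h.dist) (e₂ := d2 0 * g1)
    rfl rfl rfl rfl hca hac hne2
  obtain ⟨-, -, hR2⟩ := h.pair (a := d2 0 * g1) (c := d2 h.dist) (e₁ := d2 0 * g1) (e₂ := d2 h.dist)
    rfl rfl rfl rfl hac hca h1
  rw [e1, e3, hd2l, h20, h21] at hR1
  rw [e3, hd2l, h20] at hR2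
  have hkey : cj (A * g) ⁅cj n Z₀, S₀⁆ = ⁅cj (d 1) Z₀, cj (d 2) S₀⁆ := by
    rw [cj_comm, ← cj_mul, ← cj_mul_of_mem (x := A * g) hn.1, hR2, hR1, commutator_comm]
  obtain ⟨-, -, -, hA', -⟩ := h.crit hd
  -- centrality
  set R := ⁅cj (d 1) Z₀, cj (d 2) S₀⁆
  have hR1Z : R ≤ cj (d 1) Z₀ := by
    obtain ⟨g2, hg2, n2, hn2, h12⟩ := hd.1 1 (by omega)
    refine comm_le_left ?_
    rw [h12, cj_mul_of_mem hn2, ← h.cj_Z_of_mem (a := d 1) hg2]
    exact (cj_mono h.SG).trans (normalizes_cj h.Zn)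
  have hR2Z : R ≤ cj D Z₀ := by
    rw [← hkey, cj_comm, ← cj_mul, ← cj_mul_of_mem (x := A * g) hn.1]
    exact comm_le_left ((cj_mono h.SG).trans (normalizes_cj h.Zn))
  have hc0 : R ≤ centralizer (cj (d 0) Z₀ : Set X) :=
    hR1Z.trans (le_centralizer_iff.1 (h.comm_sub hd.1 (Nat.zero_le 1) (by omega) (by omega)))
  have hcS : R ≤ centralizer (cj D S₀ : Set X) := by
    intro r hr
    obtain ⟨w, hw, hwQ⟩ := Set.not_subset.1 (show ¬ cj (d 1) Z₀ ≤ cj D Q₀ by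
      intro hle; rw [e3, hd2l, h20] at h1; exact h1 hle)
    rw [e3, hd2l, h20] at hac
    refine h.cj_fix (hac hw) hwQ (hR2Z hr) ?_
    exact (h.cj_comm_ZQ (hR1Z hr) (cj_mono h.ZQ hw))
  have hcA : R ≤ centralizer (cj A G₀ : Set X) := by
    intro r hr
    have hcS' : cj A S₀ ⊔ cj D S₀ ≤ centralizer ({r} : Set X) := by
      refine sup_le ?_ fun x hx => mem_centralizer_singleton_iff.2 (hcS hr x hx)
      rw [← hA']
      refine sup_le (fun x hx => mem_centralizer_singleton_iff.2 (hc0 hr x hx)) ?_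
      intro x hx
      have hxD : x ∈ cj D S₀ := by
        rw [hD, cj_mul_of_mem hn.1, ← h.cj_Q_of_mem (a := A) hg] at *
        exact cj_mono h.QS hx
      exact mem_centralizer_singleton_iff.2 (hcS hr x hxD)
    intro x hx
    refine mem_centralizer_singleton_iff.1 (hcS' ?_)
    rw [hD, cj_mul_of_mem hn.1, cj_mul]
    show x ∈ cj A S₀ ⊔ cj A (cj g S₀)
    rw [← Subgroup.map_sup, hgo]
    exact hx
  have hcent : ⁅cj n Z₀, S₀⁆ ≤ centralizer (G₀ : Set X) := by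
    intro r hr
    have h3 : (A * g) * r * (A * g)⁻¹ ∈ centralizer (cj (A * g) G₀ : Set X) := by
      rw [h.cj_G_of_mem hg]; exact hcA (hkey ▸ ⟨r, hr, rfl⟩)
    rw [cj_centralizer, show (A * g)⁻¹ * ((A * g) * r * (A * g)⁻¹) * (A * g) = r by group] at h3
    exact h3
  refine ⟨?_, hcent⟩
  rw [← hkey, cj_mul]
  congr 1
  refine (cj_of_mem (centralizer_le_normalizer _ fun r hr => ?_)).symm
  exact (hcent hr g hg).symm

/-- The critical distance is at most two. -/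
theorem dist_le_two : h.dist ≤ 2 := by
  by_contra hlt
  set b := h.dist with hb
  obtain ⟨d, hp, hc, ho⟩ := h.exists_seq (b + 1)
  obtain ⟨n, hn⟩ := h.exists_far
  have c0 := h.crit (hc 0 (by omega))
  have cb := h.crit (hc b (by omega))
  simp only [Nat.zero_add, Nat.add_zero, ← hb] at c0 cb
  -- first value of the common commutator
  obtain ⟨v1, hcent⟩ := h.far_value (hc 1 (by omega)) (by omega) hn
  simp only [← hb] at v1
  -- second value, from the path read backwards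
  obtain ⟨hp2, hne2⟩ := hc (b + 1) le_rfl
  obtain ⟨d', hp', h0', hi', he'⟩ := h.exists_reverse hp2
  simp only [← hb] at h0' hi' he' hne2
  have hd' : IsCrit G₀ S₀ Q₀ Z₀ b d' := by
    refine ⟨hp', ?_⟩
    rw [h0', (hi' b le_rfl).2.2.1, Nat.sub_self]
    exact (h.crit (hc (b + 1) le_rfl)).1
  obtain ⟨v2, -⟩ := h.far_value hd' (by omega) hn
  simp only [← hb] at v2
  obtain ⟨g, hg, hgb⟩ := (hi' b le_rfl).2.2.2
  rw [Nat.sub_self, Nat.add_zero] at hgb
  rw [hgb, cj_mul, cj_of_mem (centralizer_le_normalizer _ fun r hr => (hcent hr g hg).symm)] at v2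
  rw [show 1 + b = b + 1 by omega] at v1
  rw [v1, (hi' 1 (by omega)).2.1, show cj (d' 2) S₀ = cj (d' (1 + 1)) S₀ from rfl, he' 1 (by omega),
    show b + 1 + (b - 1) = b + b by omega, cb.2.2.2.2.2.1, ← cb.2.2.2.2.2.2,
    show 1 + 1 = 2 from rfl, show 1 + 2 = 3 from rfl] at v2
  -- the two values
  set R := ⁅cj (d b) Z₀, cj (d (b + 1)) S₀⁆
  have hR2 : R ≤ cj (d 2) Z₀ := by
    rw [← v2]
    obtain ⟨g2, hg2, n2, hn2, h23⟩ := hp 2 (by omega)
    refine comm_le_left ?_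
    rw [h23, cj_mul_of_mem hn2, ← h.cj_Z_of_mem (a := d 2) hg2]
    exact (cj_mono h.SG).trans (normalizes_cj h.Zn)
  have hR0 : R ≤ centralizer (cj (d 0) Z₀ : Set X) :=
    hR2.trans (le_centralizer_iff.1 (h.comm_sub hp (Nat.zero_le 2) (by omega) (by omega)))
  obtain ⟨g3, hg3, n3, hn3, hb1⟩ := hp b (by omega)
  have hSb : cj (d (b + 1)) S₀ ≤ normalizer (cj (d b) Z₀ : Set X) := by
    rw [hb1, cj_mul_of_mem hn3, ← h.cj_Z_of_mem (a := d b) hg3]
    exact (cj_mono h.SG).trans (normalizes_cj h.Zn)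
  have hR2' : R ≤ centralizer (cj (d (b + 1)) S₀ : Set X) := by
    intro r hr
    have hRb : r ∈ cj (d b) Z₀ := comm_le_left hSb hr
    have hRb2 : R ≤ cj (d (b + b)) Z₀ := by
      rw [cb.2.2.2.2.2.2, ← cb.2.2.2.2.2.1]
      exact comm_le_left ((cj_mono h.SG).trans (normalizes_cj h.Zn))
    obtain ⟨g4, hg4, n4, hn4, h4⟩ := hp b (by omega)
    obtain ⟨f1, f2, f3⟩ := h.step_reverse hg4 hn4 h4
    obtain ⟨w, hw, hwQ⟩ := Set.not_subset.1 cb.1
    rw [← f2] at hwQ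
    rw [← f1]
    refine h.cj_fix (f1 ▸ cb.2.2.1 hw) hwQ (f3 ▸ hRb) ?_
    exact h.cj_comm_ZQ (hRb2 hr) (cj_mono h.ZQ hw)
  -- `R` is central at `d b`
  have hcen : R ≤ centralizer (cj (d b) G₀ : Set X) := by
    intro r hr x hx
    rw [← ho b le_rfl (by omega)] at hx
    have hle : cj (d b) S₀ ⊔ cj (d (b + 1)) S₀ ≤ centralizer ({r} : Set X) := by
      refine sup_le ?_ fun y hy => mem_centralizer_singleton_iff.2 (hR2' hr y hy)
      rw [← c0.2.2.2.1]
      refine sup_le (fun y hy => mem_centralizer_singleton_iff.2 (hR0 hr y hy)) fun y hy => ?_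
      exact mem_centralizer_singleton_iff.2 (hR2' hr y (h.Q_le_edge (hp b (by omega)) hy))
    exact mem_centralizer_singleton_iff.1 (hle hx)
  obtain ⟨g4, hg4, n4, hn4, h4⟩ := hp b (by omega)
  obtain ⟨f1, f2, f3⟩ := h.step_reverse hg4 hn4 h4
  set a := d b * g4
  obtain ⟨v, hv, hvc⟩ : ∃ v ∈ Z₀, v ∉ centralizer (S₀ : Set X) := by
    by_contra hno
    push Not at hno
    have h1 := h.cardZ
    rw [inf_eq_left.2 hno] at h1
    exact absurd (Nat.eq_of_mul_eq_mul_right Nat.card_pos (h1.symm.trans (one_mul _).symm)) h.one_lt.ne'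
  obtain ⟨s, hs, hsQ⟩ : ∃ s ∈ S₀, s ∉ Q₀ := by
    by_contra hno
    push Not at hno
    have h1 := h.cardS
    rw [le_antisymm hno h.QS] at h1
    exact absurd (Nat.eq_of_mul_eq_mul_right Nat.card_pos (h1.symm.trans (one_mul _).symm)) h.one_lt.ne'
  refine h.noncentral v hv hvc s hs hsQ ?_
  have hmem : a * ⁅v, s⁆ * a⁻¹ ∈ R := by
    show _ ∈ ⁅cj (d b) Z₀, cj (d (b + 1)) S₀⁆
    rw [← f1, ← f3, ← cj_comm]
    exact ⟨_, commutator_mem_commutator hv hs, rfl⟩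
  have h5 := hcen hmem
  rw [← h.cj_G_of_mem (a := d b) hg4, cj_centralizer,
    show a⁻¹ * (a * ⁅v, s⁆ * a⁻¹) * a = ⁅v, s⁆ by group] at h5
  exact h5

end Host

end Cfsg.Agent.CharP.PushOne
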