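import Cfsg.Agent.Lib.CharP.PushOne.Sit

/-!
Recognition of the natural module: a quadratic module without fixed points on which the Sylow group has fixed
points of index at most `q` is natural for a unique lift of the map onto `PSL(2, F)`.
-/

set_option autoImplicit false
set_option linter.unusedSectionVars false

namespace Cfsg.Agent.CharP.PushOne

open Subgroup Cfsg.Agent.Classical.GL2 Matrix
open scoped MatrixGroups

variable {G : Type*} [Group G] [Finite G] {p : ℕ} [hp : Fact p.Prime]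
  {F : Type} [Field F] [Fintype F] {S : Subgroup G} {φ : G →* PSL(2, F)}

/-- The lift of the map onto `PSL(2, F)` which is unipotent on the Sylow group. -/
def IsLift (S : Subgroup G) (φ : G →* PSL(2, F)) (ρ : G →* SL(2, F)) : Prop :=
  (∀ g, pr (ρ g) = φ g) ∧ Function.Surjective ρ ∧ ∀ s ∈ S, ∀ x, φ s = pr (uniSL x) → ρ s = uniSL x

theorem IsLift.unique (h : Sit p F S φ) {ρ₁ ρ₂ : G →* SL(2, F)} (h₁ : IsLift S φ ρ₁)
    (h₂ : IsLift S φ ρ₂) : ρ₁ = ρ₂ := by
  obtain ⟨g, -, htop⟩ := h.exists_opp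
  have heq : ∀ s ∈ S, ρ₁ s = ρ₂ s := fun s hs => by
    obtain ⟨x, hx⟩ := h.exists_x hs
    exact (h₁.2.2 s hs x hx).trans (h₂.2.2 s hs x hx).symm
  have hle : S ⊔ S.map (MulAut.conj g).toMonoidHom ≤ MonoidHom.eqLocus ρ₁ ρ₂ := by
    refine sup_le heq ?_
    rintro _ ⟨s, hs, rfl⟩
    show ρ₁ (g * s * g⁻¹) = ρ₂ (g * s * g⁻¹)
    have hz : (ρ₂ g)⁻¹ * ρ₁ g ∈ Subgroup.center SL(2, F) :=
      QuotientGroup.eq.1 (show pr (ρ₂ g) = pr (ρ₁ g) by rw [h₁.1, h₂.1])
    have hc := Subgroup.mem_center_iff.1 hz (ρ₂ s)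
    simp only [map_mul, map_inv, heq s hs]
    calc ρ₁ g * ρ₂ s * (ρ₁ g)⁻¹ = ρ₂ g * ((ρ₂ g)⁻¹ * ρ₁ g * ρ₂ s) * (ρ₁ g)⁻¹ := by group
      _ = _ := by rw [← hc]; group
  rw [htop] at hle
  exact MonoidHom.ext fun x => hle (mem_top x)

theorem Sit.natural (h : Sit p F S φ) {M : Type*} [AddCommGroup M] [Finite M] [DistribMulAction G M]
    (hQ : ∀ x ∈ Cfsg.pCore p G, ∀ m : M, x • m = m) (hnt : ∃ (g : G) (m : M), g • m ≠ m)
    (hfix : ∀ m : M, (∀ g : G, g • m = m) → m = 0)
    (hquad : ∀ s ∈ S, ∀ m : M, ∀ t ∈ S, t • (s • m - m) = s • m - m)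
    (hidx : Nat.card M ≤ Nat.card F * Nat.card {m : M // ∀ s ∈ S, s • m = m}) :
    ∃ (ρ : G →* SL(2, F)) (ψ : M ≃+ (Fin 2 → F)), IsLift S φ ρ ∧
      ∀ (g : G) (m : M), ψ (g • m) = (ρ g : Matrix (Fin 2) (Fin 2) F).mulVec (ψ m) := by
  classical
  obtain ⟨g0, hg0, htop⟩ := h.exists_opp
  let L : AddSubgroup M :=
    { carrier := {m | ∀ s ∈ S, s • m = m}
      zero_mem' := fun _ _ => smul_zero _
      add_mem' := fun {a b} ha hb s hs => by rw [smul_add, ha s hs, hb s hs]
      neg_mem' := fun {a} ha s hs => by rw [smul_neg, ha s hs] }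
  let act : G → (M →+ M) := fun g => DistribMulAction.toAddMonoidHom M g
  let L' : AddSubgroup M := L.map (act g0)
  have memL' : ∀ {m : M}, m ∈ L' ↔ g0⁻¹ • m ∈ L := fun {m} => by
    constructor
    · rintro ⟨a, ha, rfl⟩
      show g0⁻¹ • g0 • a ∈ L
      rw [inv_smul_smul]; exact ha
    · exact fun hm => ⟨_, hm, smul_inv_smul g0 m⟩
  -- transversality
  have htr : ∀ g : G, S ⊔ S.map (MulAut.conj g).toMonoidHom = ⊤ → ∀ m ∈ L, g⁻¹ • m ∈ L → m = 0 := by
    intro g hg m hm hgm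
    refine hfix m fun x => ?_
    have hle : S ⊔ S.map (MulAut.conj g).toMonoidHom ≤ MulAction.stabilizer G m := by
      refine sup_le (fun s hs => hm s hs) ?_
      rintro _ ⟨s, hs, rfl⟩
      show (g * s * g⁻¹) • m = m
      rw [mul_smul, mul_smul, hgm s hs, smul_inv_smul]
    exact hle (hg ▸ mem_top x)
  have hLL' : ∀ m ∈ L, m ∈ L' → m = 0 := fun m hm hm' => htr g0 htop m hm (memL'.1 hm')
  -- lifts
  choose u hu huφ using h.exists_u
  let l : F → G := fun y => g0 * u (-y) * g0⁻¹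
  have hlφ : ∀ y, φ (l y) = pr (lowSL y) := fun y => by
    show φ (g0 * u (-y) * g0⁻¹) = _
    rw [map_mul, map_mul, map_inv, hg0, huφ, ← map_inv, ← map_mul, ← map_mul, w_conj_uni, neg_neg]
  have hsame : ∀ s t : G, s ∈ S → t ∈ S → φ s = φ t → ∀ m : M, s • m = t • m := by
    intro s t hs ht e m
    have hk : t⁻¹ * s ∈ Cfsg.pCore p G :=
      h.kerS _ (mul_mem (inv_mem ht) hs) (by rw [map_mul, map_inv, e, inv_mul_cancel])
    conv_lhs => rw [show s = t * (t⁻¹ * s) by group, mul_smul, hQ _ hk]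
  have hS : ∀ s ∈ S, ∃ x, φ s = pr (uniSL x) ∧ ∀ m : M, s • m = u x • m := fun s hs => by
    obtain ⟨x, hx⟩ := h.exists_x hs
    exact ⟨x, hx, hsame s _ hs (hu x) (hx.trans (huφ x).symm)⟩
  have huadd : ∀ x y, ∀ m : M, u (x + y) • m = u x • u y • m := fun x y m => by
    rw [← mul_smul]
    refine hsame _ _ (hu _) (mul_mem (hu x) (hu y)) ?_ m
    rw [map_mul, huφ, huφ, huφ, ← map_mul, uniSL_mul]
  have hu0 : ∀ m : M, u 0 • m = m := fun m => by
    rw [hsame _ 1 (hu 0) (one_mem S) (by rw [huφ, uniSL_zero, map_one, map_one]), one_smul]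
  have hN : ∀ s ∈ S, ∀ m, s • m - m ∈ L := fun s hs m t ht => hquad s hs m t ht
  have hN' : ∀ y m, l y • m - m ∈ L' := fun y m => by
    rw [memL', smul_sub]
    show g0⁻¹ • (g0 * u (-y) * g0⁻¹) • m - g0⁻¹ • m ∈ L
    rw [mul_smul, mul_smul, inv_smul_smul]
    exact hN _ (hu _) _
  -- the translation parts
  let N : F → (L' →+ L) := fun x =>
    { toFun := fun v => ⟨u x • (v : M) - v, hN _ (hu x) _⟩
      map_zero' := Subtype.ext (by simp)
      map_add' := fun v w => Subtype.ext (by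
        simp only [AddSubgroup.coe_add, smul_add]; abel) }
  let N' : F → (L →+ L') := fun y =>
    { toFun := fun v => ⟨l y • (v : M) - v, hN' y _⟩
      map_zero' := Subtype.ext (by simp)
      map_add' := fun v w => Subtype.ext (by
        simp only [AddSubgroup.coe_add, smul_add]; abel) }
  have hNadd : ∀ x y v, N (x + y) v = N x v + N y v := fun x y v => Subtype.ext (by
    show u (x + y) • (v : M) - v = (u x • (v : M) - v) + (u y • (v : M) - v)
    have h1 : u x • (u y • (v : M) - v) = u y • (v : M) - v := hN _ (hu y) _ _ (hu x)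
    rw [huadd, ← sub_eq_zero]
    rw [smul_sub, sub_eq_iff_eq_add] at h1
    rw [h1]; abel)
  have hN'add : ∀ x y v, N' (x + y) v = N' x v + N' y v := fun x y v => Subtype.ext (by
    show (g0 * u (-(x + y)) * g0⁻¹) • (v : M) - v =
      ((g0 * u (-x) * g0⁻¹) • (v : M) - v) + ((g0 * u (-y) * g0⁻¹) • (v : M) - v)
    simp only [mul_smul]
    set w := g0⁻¹ • (v : M) with hw
    have hv : (v : M) = g0 • w := (smul_inv_smul _ _).symm
    have h1 : u (-x) • (u (-y) • w - w) = u (-y) • w - w := hN _ (hu _) _ _ (hu _)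
    rw [smul_sub, sub_eq_iff_eq_add] at h1
    rw [hv, neg_add, huadd, h1, ← smul_sub, ← smul_sub, ← smul_sub, ← smul_add]
    congr 1; abel)
  have hNinj : ∀ x : F, x ≠ 0 → ∀ v : L', N x v = 0 → v = 0 := by
    intro x hx v hv
    have hxQ : u x ∉ Cfsg.pCore p G := fun hm => hx (pi_uni_injective (y := 0) (by
      show pr (uniSL x) = pr (uniSL 0)
      rw [← huφ, uniSL_zero, map_one]; exact h.coreKer hm))
    have hfixv : u x • (v : M) = v := sub_eq_zero.1 (congrArg Subtype.val hv)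
    have hv' : g0⁻¹ • (v : M) ∈ L := memL'.1 v.2
    have h1 := htr _ (h.opp_shift htop (hu x) hxQ) _ hv' (by
      rw [← mul_smul, show (g0⁻¹ * u x * g0)⁻¹ * g0⁻¹ = g0⁻¹ * (u x)⁻¹ by group, mul_smul,
        show (u x)⁻¹ • (v : M) = v by rw [inv_smul_eq_iff, hfixv]]
      exact hv')
    refine Subtype.ext ?_
    show (v : M) = 0
    rw [← smul_inv_smul g0 (v : M), h1, smul_zero]
  have hcardL' : Nat.card L' = Nat.card L :=
    (Nat.card_congr (L.equivMapOfInjective (act g0) (MulAction.injective g0)).toEquiv).symm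
  have hLpos : ∃ a : L, a ≠ 0 := by
    by_contra hno
    push Not at hno
    obtain ⟨g, m, hgm⟩ := hnt
    have hfixS : ∀ m : M, m ∈ L := fun m s hs => by
      have := congrArg Subtype.val (hno ⟨_, hN s hs m⟩)
      exact sub_eq_zero.1 this
    refine hgm ?_
    have hz : ∀ m : M, m = 0 := fun m => congrArg Subtype.val (hno ⟨m, hfixS m⟩)
    rw [hz m, smul_zero]
  obtain ⟨e0, he0⟩ := hLpos
  have hinjdiff : ∀ v : L', v ≠ 0 → Function.Injective fun x => N x v := fun v hv x y e => by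
    by_contra hxy
    refine hv (hNinj (x - y) (sub_ne_zero.2 hxy) v ?_)
    have := hNadd (x - y) y v
    rw [sub_add_cancel] at this
    simp only at e
    rw [e] at this
    exact add_eq_right.1 this.symm
  have hqle : Nat.card F ≤ Nat.card L := by
    have hne : (⟨g0 • (e0 : M), ⟨e0, e0.2, rfl⟩⟩ : L') ≠ 0 := fun e => he0 (Subtype.ext (by
      have e1 : g0 • (e0 : M) = 0 := congrArg Subtype.val e
      rwa [smul_eq_zero_iff_eq] at e1))
    exact Nat.card_le_card_of_injective _ (hinjdiff _ hne)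
  let sumMap : L × L' → M := fun z => (z.1 : M) + z.2
  have hsum_inj : Function.Injective sumMap := by
    rintro ⟨a, b⟩ ⟨c, d⟩ e
    have e' : ((a - c : L) : M) = ((d - b : L') : M) := by
      simp only [AddSubgroup.coe_sub]
      simp only [sumMap] at e
      rw [sub_eq_sub_iff_add_eq_add, e]; abel
    have h0 := hLL' _ (a - c).2 (e' ▸ (d - b).2)
    rw [h0] at e'
    exact Prod.ext (sub_eq_zero.1 (Subtype.ext h0)) (sub_eq_zero.1 (Subtype.ext e'.symm)).symm
  have hcL : Nat.card L = Nat.card F ∧ Nat.card M = Nat.card (L × L') := by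
    have h1 : Nat.card (L × L') ≤ Nat.card M := Nat.card_le_card_of_injective _ hsum_inj
    have h2 : Nat.card M ≤ Nat.card F * Nat.card L := hidx
    rw [Nat.card_prod, hcardL'] at h1 ⊢
    have h3 := Nat.le_of_mul_le_mul_right (h1.trans h2) Nat.card_pos
    have e := le_antisymm h3 hqle
    exact ⟨e, le_antisymm (h2.trans (by rw [← e])) h1⟩
  obtain ⟨hcF, hcM⟩ := hcL
  have hsum : Function.Bijective sumMap :=
    (Nat.bijective_iff_injective_and_card _).2 ⟨hsum_inj, hcM.symm⟩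
  have hNbij : ∀ x : F, x ≠ 0 → Function.Bijective (N x) := fun x hx =>
    (Nat.bijective_iff_injective_and_card _).2
      ⟨(injective_iff_map_eq_zero (N x)).2 (hNinj x hx), hcardL'⟩
  -- the line through a point outside `L'` under the lower group
  have hB : ∀ (k : G) (A : SL(2, F)), φ k = pr A → A.1 1 0 = 0 → ∀ w ∈ L, k • w ∈ L := by
    intro k A hA h10 w hw
    obtain ⟨⟨a, b⟩, hab⟩ := hsum.2 (k • w)
    by_cases hb : b = 0
    · rw [← hab, hb]; simp [sumMap]
    exfalso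
    obtain ⟨z, hz⟩ := (hinjdiff b hb).bijective_of_nat_card_le (by rw [hcF]) |>.2 a
    have hkw : k • w = u z • (b : M) := by
      rw [← hab]
      show (a : M) + b = _
      rw [← hz]
      show u z • (b : M) - b + b = _
      abel
    have hd : φ (k⁻¹ * (u z * g0)) = pr (A⁻¹ * (uniSL z * wSL)) := by
      rw [map_mul, map_inv, hA, map_mul, huφ, hg0, ← map_inv, ← map_mul, ← map_mul]
    have hopp' := h.sup_conj_eq_top _ hd (by
      have hdet := A.det_coe
      rw [det_fin_two, h10] at hdet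
      simp [Matrix.SpecialLinearGroup.coe_mul, Matrix.SpecialLinearGroup.coe_inv, coe_uniSL, coe_wSL,
        Matrix.adjugate_fin_two, Matrix.mul_apply, Fin.sum_univ_two, h10]
      intro h00
      rw [h00] at hdet
      simp at hdet)
    have hdw : (k⁻¹ * (u z * g0))⁻¹ • w = g0⁻¹ • (b : M) := by
      rw [show (k⁻¹ * (u z * g0))⁻¹ = g0⁻¹ * (u z)⁻¹ * k by group, mul_smul, hkw, mul_smul, inv_smul_smul]
    have h0 := htr _ hopp' w hw (hdw ▸ memL'.1 b.2)
    rw [h0, smul_zero, eq_comm, smul_eq_zero_iff_eq] at hkw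
    exact hb (Subtype.ext hkw)
  have hkey : ∀ x : F, x ≠ 0 → ∀ v : L', N' x⁻¹ (N x v) = v := by
    intro x hx v
    set k := (l x⁻¹)⁻¹ * u x * g0 with hk
    set m := k • (g0⁻¹ • (v : M)) with hm
    have hmL : m ∈ L := by
      refine hB k ((lowSL x⁻¹)⁻¹ * uniSL x * wSL) ?_ ?_ _ (memL'.1 v.2)
      · rw [hk, map_mul, map_mul, map_inv, hlφ, huφ, hg0, ← map_inv, ← map_mul, ← map_mul]
      · rw [lowSL_inv]
        simp [Matrix.SpecialLinearGroup.coe_mul, coe_lowSL, coe_uniSL, coe_wSL, Matrix.mul_apply,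
          Fin.sum_univ_two]
        field_simp
        simp
    have e : l x⁻¹ • m = u x • (v : M) := by
      rw [hm, hk, ← mul_smul, ← mul_smul]
      congr 1; group
    have e2 : ((N x v : L) : M) + v = m + ((N' x⁻¹ ⟨m, hmL⟩ : L') : M) := by
      show u x • (v : M) - v + v = m + (l x⁻¹ • m - m)
      rw [e]; abel
    have e3 := hsum_inj (a₁ := (N x v, v)) (a₂ := (⟨m, hmL⟩, N' x⁻¹ ⟨m, hmL⟩)) e2
    rw [Prod.mk.injEq] at e3
    rw [e3.1]
    exact e3.2.symm
  -- the field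
  let N1 : L' ≃+ L := AddEquiv.ofBijective (N 1) (hNbij 1 one_ne_zero)
  let a : F →+ AddMonoid.End L := AddMonoidHom.mk' (fun x => (N x).comp N1.symm.toAddMonoidHom)
    (fun x y => AddMonoidHom.ext fun z => hNadd x y _)
  let b : F →+ AddMonoid.End L := AddMonoidHom.mk' (fun y => N1.toAddMonoidHom.comp (N' y))
    (fun x y => AddMonoidHom.ext fun z => by
      show N1 (N' (x + y) z) = N1 (N' x z) + N1 (N' y z)
      rw [hN'add, map_add])
  have hba : ∀ x : F, x ≠ 0 → b x⁻¹ * a x = 1 := fun x hx => AddMonoidHom.ext fun z => by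
    show N1 (N' x⁻¹ (N x (N1.symm z))) = z
    rw [hkey x hx, AddEquiv.apply_symm_apply]
  have hab : ∀ x : F, x ≠ 0 → a x * b x⁻¹ = 1 := fun x hx => AddMonoidHom.ext fun z => by
    show N x (N1.symm (N1 (N' x⁻¹ z))) = z
    rw [AddEquiv.symm_apply_apply]
    obtain ⟨v, rfl⟩ := (hNbij x hx).2 z
    rw [hkey x hx]
  have ha1 : a 1 = 1 := AddMonoidHom.ext fun z => N1.apply_symm_apply z
  obtain ⟨hab', hmul⟩ := hua_mul a b hab hba ha1
  have hbe : Function.Bijective fun x : F => a x e0 :=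
    (hinjdiff (N1.symm e0) (by simpa using he0)).bijective_of_nat_card_le (by rw [hcF])
  let κ : F ≃+ L := AddEquiv.ofBijective (AddMonoidHom.mk' (fun x : F => a x e0)
    (fun x y => by rw [map_add]; rfl)) hbe
  have hκ : ∀ x y, a x (κ y) = κ (x * y) := fun x y => by
    show a x (a y e0) = a (x * y) e0
    rw [hmul]; rfl
  let comb : (Fin 2 → F) →+ M :=
    AddMonoidHom.mk' (fun w => (κ (w 0) : M) + (N1.symm (κ (w 1)) : L')) (fun v w => by
      simp only [Pi.add_apply, map_add, AddSubgroup.coe_add]; abel)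
  have hcomb : Function.Bijective comb := by
    refine hsum.comp (g := sumMap) (f := fun w : Fin 2 → F => (κ (w 0), N1.symm (κ (w 1)))) ⟨?_, ?_⟩
    · intro v w e
      simp only [Prod.mk.injEq, EmbeddingLike.apply_eq_iff_eq] at e
      exact funext fun i => by fin_cases i <;> simp [e.1, e.2]
    · rintro ⟨c, d⟩
      exact ⟨![κ.symm c, κ.symm (N1 d)], by simp⟩
  let ψ : M ≃+ (Fin 2 → F) := (AddEquiv.ofBijective comb hcomb).symm
  have hψ : ∀ (g : G) (A : SL(2, F)), (∀ w, g • comb w = comb (A.1.mulVec w)) →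
      ∀ m, ψ (g • m) = A.1.mulVec (ψ m) := fun g A hA m => by
    obtain ⟨w, rfl⟩ := hcomb.2 m
    rw [hA, show ψ (comb w) = w from (AddEquiv.ofBijective comb hcomb).symm_apply_apply w,
      show ψ (comb (A.1.mulVec w)) = A.1.mulVec w from
        (AddEquiv.ofBijective comb hcomb).symm_apply_apply _]
  have hupp : ∀ x w, u x • comb w = comb ((uniSL x).1.mulVec w) := fun x w => by
    show u x • ((κ (w 0) : M) + (N1.symm (κ (w 1)) : L')) = _
    rw [smul_add, (κ (w 0)).2 _ (hu x)]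
    have e : u x • ((N1.symm (κ (w 1)) : L') : M) =
        (κ (x * w 1) : M) + (N1.symm (κ (w 1)) : L') := by
      rw [← hκ]
      exact (sub_add_cancel _ _).symm
    rw [e]
    show _ = (κ (((uniSL x).1.mulVec w) 0) : M) + (N1.symm (κ (((uniSL x).1.mulVec w) 1)) : L')
    simp [coe_uniSL, Matrix.mulVec, dotProduct, Fin.sum_univ_two]
    abel
  have hlow : ∀ y w, l y • comb w = comb ((lowSL y).1.mulVec w) := fun y w => by
    show l y • ((κ (w 0) : M) + (N1.symm (κ (w 1)) : L')) = _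
    have e1 : l y • ((N1.symm (κ (w 1)) : L') : M) = (N1.symm (κ (w 1)) : L') := by
      show (g0 * u (-y) * g0⁻¹) • _ = _
      rw [mul_smul, mul_smul, (memL'.1 (N1.symm (κ (w 1))).2) _ (hu _), smul_inv_smul]
    have e2 : l y • (κ (w 0) : M) = (κ (w 0) : M) + (N1.symm (κ (y * w 0)) : L') := by
      rw [← hκ, hab' y]
      show _ = _ + ((N1.symm (N1 (N' y (κ (w 0)))) : L') : M)
      rw [AddEquiv.symm_apply_apply]
      show _ = _ + (l y • (κ (w 0) : M) - _)
      abel
    rw [smul_add, e1, e2]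
    show _ = (κ (((lowSL y).1.mulVec w) 0) : M) + (N1.symm (κ (((lowSL y).1.mulVec w) 1)) : L')
    simp [coe_lowSL, Matrix.mulVec, dotProduct, Fin.sum_univ_two]
    abel
  let P : G → SL(2, F) → Prop := fun g A => ∀ m, ψ (g • m) = A.1.mulVec (ψ m)
  have hPu : ∀ g A B, P g A → P g B → A = B := fun g A B hA hB => Classical.Linear.eq_of_mulVec
    fun v k => by
      obtain ⟨m, rfl⟩ := ψ.surjective v
      rw [Matrix.SpecialLinearGroup.smul_def, Matrix.SpecialLinearGroup.smul_def,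
        Matrix.smul_eq_mulVec, Matrix.smul_eq_mulVec, ← hA, hB]
  have hPmul : ∀ g g' A B, P g A → P g' B → P (g * g') (A * B) := fun g g' A B hA hB m => by
    rw [mul_smul, hA, hB, Matrix.mulVec_mulVec, Matrix.SpecialLinearGroup.coe_mul]
  have hPS : ∀ s ∈ S, ∀ x, φ s = pr (uniSL x) → P s (uniSL x) := fun s hs x hx m => by
    rw [hsame s _ hs (hu x) (hx.trans (huφ x).symm)]
    exact hψ _ _ (hupp x) m
  have hPl : ∀ y, P (l y) (lowSL y) := fun y => hψ _ _ (hlow y)
  have hall : ∀ g, ∃ A, P g A := by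
    let H : Submonoid G :=
      { carrier := {g | ∃ A, P g A}
        one_mem' := ⟨1, fun m => by rw [one_smul, Matrix.SpecialLinearGroup.coe_one, Matrix.one_mulVec]⟩
        mul_mem' := fun {g g'} ⟨A, hA⟩ ⟨B, hB⟩ => ⟨A * B, hPmul g g' A B hA hB⟩ }
    have hinv : ∀ g, g ∈ H → g⁻¹ ∈ H := fun g hg => by
      obtain ⟨n, hn⟩ := (Submonoid.mem_powers_iff _ _).1
        (mem_powers_iff_mem_zpowers.2 (inv_mem (Subgroup.mem_zpowers g)))
      exact hn ▸ pow_mem hg n
    let K : Subgroup G := { H with inv_mem' := fun {g} => hinv g }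
    have hle : S ⊔ S.map (MulAut.conj g0).toMonoidHom ≤ K := by
      refine sup_le (fun s hs => ?_) fun t ht => ?_
      · obtain ⟨x, hx⟩ := h.exists_x hs
        exact ⟨_, hPS s hs x hx⟩
      · obtain ⟨s, hs, rfl⟩ := ht
        obtain ⟨x, hx, hsx⟩ := hS s hs
        refine ⟨lowSL (-x), fun m => ?_⟩
        rw [← hPl (-x) m]
        congr 1
        show (g0 * s * g0⁻¹) • m = (g0 * u (- -x) * g0⁻¹) • m
        simp only [mul_smul, neg_neg, hsx]
    intro g
    exact hle (htop ▸ mem_top g)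
  choose r hr using hall
  let ρ : G →* SL(2, F) := MonoidHom.mk' r fun g g' =>
    hPu _ _ _ (hr _) (hPmul _ _ _ _ (hr g) (hr g'))
  have hρu : ∀ s ∈ S, ∀ x, φ s = pr (uniSL x) → ρ s = uniSL x := fun s hs x hx =>
    hPu _ _ _ (hr s) (hPS s hs x hx)
  have hρl : ∀ y, ρ (l y) = lowSL y := fun y => hPu _ _ _ (hr (l y)) (hPl y)
  refine ⟨ρ, ψ, ⟨?_, ?_, hρu⟩, hr⟩
  · intro g
    have hle : S ⊔ S.map (MulAut.conj g0).toMonoidHom ≤ MonoidHom.eqLocus (pr.comp ρ) φ := by
      refine sup_le (fun s hs => ?_) fun t ht => ?_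
      · obtain ⟨x, hx⟩ := h.exists_x hs
        show pr (ρ s) = φ s
        rw [hρu s hs x hx, hx]
      · obtain ⟨s, hs, rfl⟩ := ht
        obtain ⟨x, hx⟩ := h.exists_x hs
        have hl : ρ (g0 * s * g0⁻¹) = lowSL (-x) := by
          refine hPu _ _ _ (hr _) fun m => ?_
          rw [← hPl (-x) m]
          congr 1
          obtain ⟨x', hx', hsx⟩ := hS s hs
          obtain rfl : x' = x := pi_uni_injective (hx'.symm.trans hx)
          show (g0 * s * g0⁻¹) • m = (g0 * u (- -x') * g0⁻¹) • m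
          simp only [mul_smul, neg_neg, hsx]
        show pr (ρ (g0 * s * g0⁻¹)) = φ (g0 * s * g0⁻¹)
        rw [hl, map_mul, map_mul, map_inv, hg0, hx, ← map_inv, ← map_mul, ← map_mul, w_conj_uni]
    exact hle (htop ▸ mem_top g)
  · exact MonoidHom.range_eq_top.1 (eq_top_of_uni_low (fun x => ⟨u x, hρu _ (hu x) x (huφ x)⟩)
      fun y => ⟨l y, hρl y⟩)

end Cfsg.Agent.CharP.PushOne
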