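import Cfsg.Agent.Lib.CharP.PushOne.Sit
import Cfsg.Agent.Lib.CharP.LocalJ

/-!
`Ω₁Z(O_p(G))` in the rank one pushing-up situation: the fixed points of every element outside the core are
those of the Sylow group and have index `q`.
-/

set_option autoImplicit false
set_option linter.unusedSectionVars false

namespace Cfsg.Agent.CharP.PushOne

open Subgroup Cfsg.Agent.Classical.GL2
open scoped MatrixGroups commutatorElement

variable {G : Type*} [Group G] [Finite G] {p : ℕ} [hp : Fact p.Prime]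
  {F : Type} [Field F] [Fintype F] {S : Subgroup G} {φ : G →* PSL(2, F)}

namespace Sit

variable (h : Sit p F S φ)
include h

theorem exists_outside : ∃ A ∈ PLocal.MaxAbelian.family 0 S, ¬ A ≤ Cfsg.pCore p G := by
  by_contra hno
  push Not at hno
  have hn := PushingUpZJ.jt_normal h.situation h.not_top hno
  refine h.not_normal_of_char inf_le_left ?_ ?_ hn
  · intro e
    refine h.center_not_central fun z hz g => ?_
    have hz1 : z ∈ S ⊓ centralizer (Cfsg.centerThompsonAOf S : Set G) :=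
      ⟨hz.1, centralizer_le (SetLike.coe_subset_coe.2
        ((inf_le_left.trans (map_subtype_le _)) : Cfsg.centerThompsonAOf S ≤ S)) hz.2⟩
    rw [e, mem_bot] at hz1
    rw [hz1, one_mul, mul_one]
  · intro e x hx
    refine ⟨(e x).2, ?_⟩
    rintro w ⟨hwJ, hwc⟩
    obtain ⟨w0, hw0, rfl⟩ := hwJ
    have hJ : ∀ f : ↥S ≃* ↥S, ∀ a ∈ Cfsg.thompsonSubgroupA ↥S, f a ∈ Cfsg.thompsonSubgroupA ↥S := by
      intro f a ha
      exact (CharP.LocalJ.isoInv_J (p := p) _ _ h.isPGroup f).le (mem_map_of_mem f.toMonoidHom ha)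
    have h1 : ((e.symm w0 : ↥S) : G) ∈ Cfsg.centerThompsonAOf S := by
      refine ⟨⟨_, hJ e.symm w0 hw0, rfl⟩, ?_⟩
      rintro _ ⟨a, ha, rfl⟩
      have h2 := hwc _ ⟨e a, hJ e a ha, rfl⟩
      have h3 : e a * w0 = w0 * e a := Subtype.ext h2
      have h4 := congrArg (fun t : ↥S => ((e.symm t : ↥S) : G)) h3
      simpa using h4
    have h5 : e.symm w0 * x = x * e.symm w0 := Subtype.ext (hx.2 _ h1)
    have h6 := congrArg (fun t : ↥S => ((e t : ↥S) : G)) h5
    simpa using h6

/-- The fixed points of an element outside the core, and their index. -/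
theorem fixed :
    (∀ s ∈ S, s ∉ Cfsg.pCore p G → ∀ v ∈ PushingUpCL.omegaCore p G, s * v = v * s →
      v ∈ centralizer (S : Set G)) ∧
    Nat.card (PushingUpCL.omegaCore p G) =
      Nat.card F * Nat.card ↥(PushingUpCL.omegaCore p G ⊓ centralizer (S : Set G)) ∧
    Nat.card ↥(PushingUpCL.omegaCore p G ⊓ centralizer (S : Set G)) =
      Nat.card F * Nat.card ↥(PushingUpCL.omegaCore p G ⊓ centralizer ((⊤ : Subgroup G) : Set G)) := by
  obtain ⟨A, hA, hAP⟩ := h.exists_outside
  obtain ⟨-, heq, hAPS, hqq⟩ := PushingUpZJ.offender h.situation h.not_top hA hAP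
  obtain ⟨q', hq', hb⟩ := PushingUpCL.sharp h.situation h.not_top
  set P := Cfsg.pCore p G
  set V := PushingUpCL.omegaCore p G
  set Ω := V ⊓ centralizer (S : Set G) with hΩ
  set C0 := V ⊓ centralizer ((⊤ : Subgroup G) : Set G) with hC0
  -- `|S : O_p(G)| = q`
  have hr : P.relIndex S = Nat.card F := by
    have e := PushingUpCL.card_mul_relIndex h.core_le
    rw [h.card_S, mul_comm (Nat.card F)] at e
    exact Nat.eq_of_mul_eq_mul_left Nat.card_pos e
  have hI : (V ⊓ A).relIndex V = Nat.card F := by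
    have e1 := PushingUpCL.card_mul_relIndex (inf_le_left : A ⊓ P ≤ A)
    have e2 := PushingUpCL.card_mul_relIndex (inf_le_left : V ⊓ A ≤ V)
    have e3 : P.relIndex A = Nat.card F := by rw [← hr, ← hAPS, relIndex_sup_right]
    rw [inf_relIndex_left, e3] at e1
    rw [← e1, ← e2] at heq
    refine (Nat.eq_of_mul_eq_mul_left (Nat.mul_pos (Nat.card_pos (α := ↥(A ⊓ P)))
      (Nat.card_pos (α := ↥(V ⊓ A)))) ?_).symm
    calc Nat.card ↥(A ⊓ P) * Nat.card ↥(V ⊓ A) * Nat.card F
        = Nat.card ↥(A ⊓ P) * Nat.card F * Nat.card ↥(V ⊓ A) := by ring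
      _ = _ := by rw [heq]; ring
  have hVA : V ⊓ A ≤ Ω := by
    refine fun v hv => ⟨hv.1, ?_⟩
    rw [← hAPS, CharP.centralizer_sup_eq]
    exact ⟨fun a ha => hA.2.1.1 a ha v hv.2, hv.1.2.1⟩
  have hfix : ∀ s ∈ S, s ∉ P → V ⊓ centralizer ({s} : Set G) = Ω ∧ V ⊓ A = Ω := by
    intro s hs hsP
    have h1 : Ω ≤ V ⊓ centralizer ({s} : Set G) :=
      inf_le_inf_left _ (centralizer_le (Set.singleton_subset_iff.2 hs))
    have h2 : q' ≤ (V ⊓ centralizer ({s} : Set G)).relIndex V := (hb s hs hsP).1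
    have e2 := PushingUpCL.card_mul_relIndex (inf_le_left : V ⊓ A ≤ V)
    have e3 := PushingUpCL.card_mul_relIndex (inf_le_left : V ⊓ centralizer ({s} : Set G) ≤ V)
    rw [hI] at e2
    have h3 : Nat.card ↥(V ⊓ centralizer ({s} : Set G)) ≤ Nat.card ↥(V ⊓ A) := by
      refine Nat.le_of_mul_le_mul_right ?_ (Nat.card_pos (α := F))
      rw [e2, ← e3]
      exact Nat.mul_le_mul_left _ ((hr ▸ hq').trans h2)
    have h4 := eq_of_le_of_card_ge (hVA.trans h1) h3
    exact ⟨le_antisymm (h4.symm.le.trans hVA) h1, le_antisymm hVA (h1.trans h4.symm.le)⟩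
  obtain ⟨b, hbS, hbP⟩ := Set.not_subset.1 (fun hle : S ≤ P => hAP (hA.1.trans hle))
  have hΩA := (hfix b hbS hbP).2
  have hc1 : Nat.card V = Nat.card F * Nat.card Ω := by
    rw [← hΩA, ← PushingUpCL.card_mul_relIndex (inf_le_left : V ⊓ A ≤ V), hI, mul_comm]
  refine ⟨fun s hs hsP v hv hc => ?_, hc1, ?_⟩
  · exact ((hfix s hs hsP).1.le ⟨hv, mem_centralizer_singleton_iff.2 hc.symm⟩).2
  · obtain ⟨g, -, hg⟩ := h.exists_opp
    set Ω' := Ω.map (MulAut.conj g).toMonoidHom
    have hV : V.map (MulAut.conj g).toMonoidHom = V := by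
      refine eq_of_le_of_card_ge ?_ (card_map_of_injective (MulAut.conj g).injective).ge
      rintro _ ⟨v, hv, rfl⟩
      exact Subgroup.Normal.conj_mem inferInstance v hv g
    have hΩ'V : Ω' ≤ V := hV ▸ map_mono inf_le_left
    have hinf : Ω ⊓ Ω' ≤ C0 := by
      rintro x ⟨hx, y, hy, rfl⟩
      refine ⟨hx.1, ?_⟩
      rw [← hg, CharP.centralizer_sup_eq]
      refine ⟨hx.2, ?_⟩
      rintro _ ⟨t, ht, rfl⟩
      rw [← map_mul, ← map_mul, hy.2 t ht]
    have e := CharP.card_mul_le_card_sup_mul_card_inf Ω Ω'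
    rw [card_map_of_injective (MulAut.conj g).injective] at e
    have hle := e.trans (Nat.mul_le_mul (card_le_of_le (sup_le inf_le_left hΩ'V)) (card_le_of_le hinf))
    rw [hc1] at hle
    have hle' : Nat.card Ω ≤ Nat.card F * Nat.card C0 := by
      refine Nat.le_of_mul_le_mul_left ?_ (Nat.card_pos (α := ↥Ω))
      calc Nat.card Ω * Nat.card Ω ≤ _ := hle
        _ = _ := by ring
    rw [hI] at hqq
    have e4 := PushingUpCL.card_mul_relIndex (inf_le_left : C0 ≤ V)
    refine le_antisymm hle' (Nat.le_of_mul_le_mul_left ?_ (Nat.card_pos (α := F)))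
    calc Nat.card F * (Nat.card F * Nat.card C0) = Nat.card C0 * (Nat.card F * Nat.card F) := by ring
      _ ≤ Nat.card C0 * C0.relIndex V := Nat.mul_le_mul_left _ hqq
      _ = _ := by rw [e4, hc1]

/-- The elements of order dividing `p` of `Z(S)` lie in `Ω₁Z(O_p(G))`. -/
theorem mem_omega {z : G} (hz : z ∈ S) (hc : z ∈ centralizer (S : Set G)) (hpz : z ^ p = 1) :
    z ∈ PushingUpCL.omegaCore p G :=
  ⟨(PushingUpCL.center_le_pCore h.situation).1 ⟨hz, hc⟩,
    centralizer_le (SetLike.coe_subset_coe.2 h.core_le) hc, hpz⟩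

end Sit

end Cfsg.Agent.CharP.PushOne
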