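import Cfsg.Agent.Lib.CharP.PushOne.Special
import Cfsg.Agent.Lib.CharP.PushingUpZJ

/-!
The rank one pushing-up situation: a quotient map onto `PSL(2, F)` carrying the Sylow group onto the upper
unitriangular group, and the action on `Ω₁Z(O_p(G))`.
-/

set_option autoImplicit false
set_option linter.unusedSectionVars false
set_option linter.style.haveILetI false

namespace Cfsg.Agent.CharP.PushOne

open Subgroup Cfsg.Agent.Classical.GL2
open scoped MatrixGroups commutatorElement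

variable {G : Type*} [Group G] [Finite G] {p : ℕ} [hp : Fact p.Prime]
  {F : Type} [Field F] [Fintype F] {S : Subgroup G} {φ : G →* PSL(2, F)}

/-- The projection onto `PSL(2, F)`. -/
abbrev pr : SL(2, F) →* PSL(2, F) := QuotientGroup.mk' (Subgroup.center SL(2, F))

/-- The data of the pushing-up situation. -/
structure Sit {G : Type*} [Group G] (p : ℕ) (F : Type) [Field F] [Fintype F] (S : Subgroup G)
    (φ : G →* PSL(2, F)) : Prop where
  situation : Cfsg.IsPushingUpSituation p S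
  surj : Function.Surjective φ
  upper : S.map φ = upperP F
  kerS : ∀ x ∈ S, φ x = 1 → x ∈ Cfsg.pCore p G
  coreKer : Cfsg.pCore p G ≤ φ.ker
  gen : ∀ H : Subgroup G, S ≤ H → H.map φ = ⊤ → H = ⊤
  kill : ∀ N : Subgroup G, N ≤ S → (∀ e : ↥S ≃* ↥S, ∀ x : ↥S, (x : G) ∈ N → (e x : G) ∈ N) →
    N.Normal → N = ⊥

theorem pr_uni_eq_low {x y : F} (h : pr (uniSL x) = pr (lowSL y)) : x = 0 ∧ y = 0 := by
  have h1 : (uniSL x)⁻¹ * lowSL y ∈ Subgroup.center SL(2, F) := QuotientGroup.eq.1 h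
  rw [uniSL_inv] at h1
  have h2 := congrArg (fun A : SL(2, F) => (A : Matrix (Fin 2) (Fin 2) F) 0 0)
    (Subgroup.mem_center_iff.1 h1 (uniSL 1))
  simp only [Matrix.SpecialLinearGroup.coe_mul, coe_uniSL, coe_lowSL] at h2
  simp [Matrix.mul_apply, Fin.sum_univ_two] at h2
  subst h2
  exact ⟨pi_uni_injective (h.trans (by rw [lowSL_zero, uniSL_zero])), rfl⟩

theorem upperP_ne_top : upperP F ≠ ⊤ := fun h => by
  obtain ⟨x, hx⟩ := mem_upperP.1 (h ▸ mem_top (pr (lowSL (1 : F))))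
  exact one_ne_zero (pr_uni_eq_low hx).2

theorem card_le_field {T : Subgroup PSL(2, F)} (hT : IsPGroup p T) {n : ℕ} (hn : 1 ≤ n)
    (hF : Fintype.card F = p ^ n) : Nat.card T ≤ Nat.card F := by
  obtain ⟨j, hj⟩ := IsPGroup.iff_card.1 hT
  have h2 : p ^ j ∣ Nat.card SL(2, F) :=
    (hj ▸ card_subgroup_dvd_card T).trans (card_quotient_dvd_card _)
  have hsq : (p ^ n) ^ 2 - 1 = (p ^ n - 1) * (p ^ n + 1) := by
    have h := Nat.sq_sub_sq (p ^ n) 1
    rw [one_pow] at h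
    rw [h, mul_comm]
  rw [natCard_SL_two, hF, ← hsq] at h2
  rw [hj, Nat.card_eq_fintype_card, hF]
  refine Nat.le_of_dvd (pow_pos hp.out.pos n) (Nat.Coprime.dvd_of_dvd_mul_right ?_ h2)
  refine Nat.Coprime.pow_left _ (hp.out.coprime_iff_not_dvd.mpr fun h => ?_)
  have h3 := Nat.dvd_sub (dvd_pow (dvd_pow_self p (by omega : n ≠ 0)) two_ne_zero) h
  rw [Nat.sub_sub_self (Nat.one_le_pow _ _ (pow_pos hp.out.pos n))] at h3
  exact hp.out.not_dvd_one h3

/-- The pushing-up hypotheses give a situation. -/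
theorem exists_sit {P : Sylow p G} (hE₁ : centralizer (Cfsg.pCore p G : Set G) ≤ Cfsg.pCore p G)
    (hE₂ : ∃! M : Subgroup G, IsCoatom M ∧ (P : Subgroup G) ≤ M) (K : Subgroup G) [K.Normal]
    (F : Type) [Field F] [Fintype F] (n : ℕ) (hn : 1 ≤ n) (hF : Fintype.card F = p ^ n)
    (hE₃ : Nonempty (G ⧸ K ≃* PSL(2, F)))
    (hd : ∀ T : Subgroup ↥(P : Subgroup G), T ≠ ⊥ → T.Characteristic →
      ¬ (T.map (P : Subgroup G).subtype).Normal) :
    ∃ φ : G →* PSL(2, F), Sit p F (P : Subgroup G) φ := by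
  have hE := PushingUpZJ.isPushingUp hE₁ hE₂ K F hn hF hE₃
  obtain ⟨e⟩ := hE₃
  set φ0 : G →* PSL(2, F) := e.toMonoidHom.comp (QuotientGroup.mk' K) with hφ0
  have hs0 : Function.Surjective φ0 := e.surjective.comp (QuotientGroup.mk'_surjective K)
  have hU : IsPGroup p (upperP F) :=
    IsPGroup.of_card (n := n) (by rw [natCard_upperP, Nat.card_eq_fintype_card, hF])
  obtain ⟨T, hT⟩ := hU.exists_le_sylow
  have hTU : (T : Subgroup PSL(2, F)) = upperP F :=
    (eq_of_le_of_card_ge hT ((card_le_field T.isPGroup' hn hF).trans natCard_upperP.ge)).symm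
  obtain ⟨y, hy⟩ := MulAction.exists_smul_eq PSL(2, F) (P.mapSurjective hs0) T
  have hyU : ((P : Subgroup G).map φ0).map (MulAut.conj y).toMonoidHom = upperP F := by
    rw [← hTU, ← hy, Sylow.coe_subgroup_smul, Sylow.coe_mapSurjective]
    rfl
  set φ := (MulAut.conj y).toMonoidHom.comp φ0 with hφ
  have hφs : Function.Surjective φ := (MulAut.conj y).surjective.comp hs0
  have hup : (P : Subgroup G).map φ = upperP F := by rw [hφ, ← Subgroup.map_map]; exact hyU
  have hker : ∀ x, φ x = 1 ↔ x ∈ K := fun x => by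
    rw [hφ, MonoidHom.comp_apply, MulEquiv.toMonoidHom_eq_coe, MonoidHom.coe_coe,
      MulEquiv.map_eq_one_iff, hφ0, MonoidHom.comp_apply, MulEquiv.toMonoidHom_eq_coe,
      MonoidHom.coe_coe, MulEquiv.map_eq_one_iff]
    exact QuotientGroup.eq_one_iff x
  have hKP : K ⊔ (P : Subgroup G) ≠ ⊤ := fun h => upperP_ne_top (F := F) (by
    have h1 := congrArg (Subgroup.map φ) h
    rw [Subgroup.map_sup, hup, map_top_of_surjective _ hφs,
      show K.map φ = ⊥ from (Subgroup.map_eq_bot_iff _).2 fun x hx => (hker x).2 hx, bot_sup_eq] at h1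
    exact h1)
  refine ⟨φ, hE, hφs, hup, fun x hx h =>
    PushingUpCL.inf_le_pCore hE K hKP ⟨(hker x).1 h, hx⟩, ?_, ?_, ?_⟩
  · intro x hx
    have hPS := (PushingUpCL.center_le_pCore hE).2
    haveI : ((Cfsg.pCore p G).map φ).Normal := Normal.map inferInstance φ hφs
    have h1 : φ x ∈ (Cfsg.pCore p G).map φ := mem_map_of_mem φ hx
    have h2 := ‹((Cfsg.pCore p G).map φ).Normal›.conj_mem _ h1 (pr (wSL : SL(2, F)))
    obtain ⟨a, ha⟩ := mem_upperP.1 (hup ▸ map_mono hPS h1)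
    obtain ⟨b, hb⟩ := mem_upperP.1 (hup ▸ map_mono hPS h2)
    rw [← ha, ← map_inv, ← map_mul, ← map_mul, w_conj_uni] at hb
    have h3 := (pr_uni_eq_low hb).2
    rw [MonoidHom.mem_ker, ← ha, neg_eq_zero.1 h3, uniSL_zero, map_one]
  · intro H hPH hH
    by_contra hne
    obtain ⟨M, ⟨hMc, hPM⟩, huniq⟩ := hE₂
    have hle : ∀ X : Subgroup G, (P : Subgroup G) ≤ X → X ≠ ⊤ → X ≤ M := fun X hX hX' => by
      obtain ⟨M', hM', hXM⟩ := (eq_top_or_exists_le_coatom X).resolve_left hX'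
      exact hXM.trans (huniq M' ⟨hM', hX.trans hXM⟩).le
    refine hMc.1 (eq_top_iff.2 fun g _ => ?_)
    obtain ⟨h, hh, he⟩ := hH.ge (mem_top (φ g))
    have hk : h⁻¹ * g ∈ K := (hker _).1 (by rw [map_mul, map_inv, he, inv_mul_cancel])
    rw [show g = h * (h⁻¹ * g) by group]
    exact mul_mem (hle H hPH hne hh) (hle _ le_sup_right hKP (mem_sup_left hk))
  · intro N hNP hchar hN
    by_contra hne
    refine hd (N.subgroupOf (P : Subgroup G)) ?_ ?_ ?_
    · intro h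
      rw [subgroupOf_eq_bot] at h
      exact hne (bot_unique ((le_inf le_rfl hNP).trans h.le_bot))
    · refine characteristic_iff_map_le.2 fun e => ?_
      rintro _ ⟨x, hx, rfl⟩
      exact mem_subgroupOf.2 (hchar e x (mem_subgroupOf.1 hx))
    · rw [map_subgroupOf_eq_of_le hNP]; exact hN

namespace Sit

variable (h : Sit p F S φ)
include h

theorem core_le : Cfsg.pCore p G ≤ S := (PushingUpCL.center_le_pCore h.situation).2

theorem charP : centralizer (Cfsg.pCore p G : Set G) ≤ Cfsg.pCore p G := h.situation.2.2.1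

theorem isPGroup : IsPGroup p S := by
  obtain ⟨P, hP⟩ := h.situation.2.1
  exact hP ▸ P.isPGroup'

theorem exists_u (x : F) : ∃ s ∈ S, φ s = pr (uniSL x) := by
  have : pr (uniSL x) ∈ S.map φ := h.upper.symm ▸ mem_upperP.2 ⟨x, rfl⟩
  obtain ⟨s, hs, e⟩ := this
  exact ⟨s, hs, e⟩

theorem exists_x {s : G} (hs : s ∈ S) : ∃ x : F, φ s = pr (uniSL x) := by
  obtain ⟨x, hx⟩ := mem_upperP.1 (h.upper ▸ mem_map_of_mem φ hs)
  exact ⟨x, hx.symm⟩

theorem card_S : Nat.card S = Nat.card F * Nat.card (Cfsg.pCore p G) := by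
  have e := (φ.comp S.subtype).ker.card_eq_card_quotient_mul_card_subgroup
  rw [Nat.card_congr (QuotientGroup.quotientKerEquivRange (φ.comp S.subtype)).toEquiv,
    MonoidHom.range_comp, range_subtype, h.upper, natCard_upperP] at e
  rw [e]
  congr 1
  have hk : (φ.comp S.subtype).ker = (Cfsg.pCore p G).subgroupOf S := by
    ext x
    exact ⟨fun hx => h.kerS x x.2 hx, fun hx => h.coreKer hx⟩
  rw [hk]
  exact Nat.card_congr (subgroupOfEquivOfLe h.core_le).toEquiv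

theorem S_ne_bot : S ≠ ⊥ := fun e => by
  have h1 := h.card_S
  rw [e, card_bot] at h1
  have := Finite.one_lt_card (α := F)
  have h2 := Nat.eq_one_of_mul_eq_one_right h1.symm
  omega

theorem conj_upper_ne {g : G} (hg : S ⊔ S.map (MulAut.conj g).toMonoidHom = ⊤) (A : SL(2, F))
    (hA : φ g = pr A) : (A : Matrix (Fin 2) (Fin 2) F) 1 0 ≠ 0 := by
  intro h0
  refine upperP_ne_top (F := F) (eq_top_iff.2 ?_)
  rw [← map_top_of_surjective _ h.surj, ← hg, Subgroup.map_sup, h.upper]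
  refine sup_le le_rfl ?_
  rintro _ ⟨_, ⟨s, hs, rfl⟩, rfl⟩
  obtain ⟨x, hx⟩ := h.exists_x hs
  show φ (g * s * g⁻¹) ∈ _
  rw [map_mul, map_mul, map_inv, hx, hA, ← map_inv, ← map_mul, ← map_mul, conj_uni_upper A h0]
  exact mem_upperP.2 ⟨_, rfl⟩

theorem sup_conj_eq_top {g : G} (A : SL(2, F)) (hA : φ g = pr A)
    (hc : (A : Matrix (Fin 2) (Fin 2) F) 1 0 ≠ 0) : S ⊔ S.map (MulAut.conj g).toMonoidHom = ⊤ := by
  refine h.gen _ le_sup_left ?_
  set H := (S ⊔ S.map (MulAut.conj g).toMonoidHom).map φ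
  have hu : ∀ x, pr (uniSL x) ∈ H := fun x => by
    obtain ⟨s, hs, e⟩ := h.exists_u x
    exact ⟨s, mem_sup_left hs, e⟩
  have hcj : ∀ x, pr (A * uniSL x * A⁻¹) ∈ H := fun x => by
    obtain ⟨s, hs, e⟩ := h.exists_u x
    refine ⟨g * s * g⁻¹, mem_sup_right ⟨s, hs, rfl⟩, ?_⟩
    rw [map_mul, map_mul, map_inv, hA, e, ← map_inv, ← map_mul, ← map_mul]
  have htop : H.comap (QuotientGroup.mk' (Subgroup.center SL(2, F))) = ⊤ := by
    refine eq_top_of_uni_low hu fun y => ?_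
    set c := (A : Matrix (Fin 2) (Fin 2) F) 1 0
    rw [show lowSL y = lowSL (-(c * c * (-(y / (c * c))))) by congr 1; field_simp,
      ← conj_uni_lower A rfl rfl hc]
    rw [mem_comap, map_mul, map_mul]
    exact mul_mem (mul_mem (hu _) (hcj _)) (hu _)
  rw [eq_top_iff]
  intro z _
  obtain ⟨B, rfl⟩ := QuotientGroup.mk'_surjective (Subgroup.center SL(2, F)) z
  exact htop.ge (mem_top B)

theorem exists_opp : ∃ g : G, φ g = pr (wSL : SL(2, F)) ∧
    S ⊔ S.map (MulAut.conj g).toMonoidHom = ⊤ := by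
  obtain ⟨g, hg⟩ := h.surj (pr (wSL : SL(2, F)))
  exact ⟨g, hg, h.sup_conj_eq_top wSL hg (by simp [coe_wSL])⟩

theorem opp_shift {g s : G} (hg : S ⊔ S.map (MulAut.conj g).toMonoidHom = ⊤) (hs : s ∈ S)
    (hsQ : s ∉ Cfsg.pCore p G) : S ⊔ S.map (MulAut.conj (g⁻¹ * s * g)).toMonoidHom = ⊤ := by
  obtain ⟨A, hA⟩ := QuotientGroup.mk'_surjective (Subgroup.center SL(2, F)) (φ g)
  have hc := h.conj_upper_ne hg A hA.symm
  obtain ⟨x, hx⟩ := h.exists_x hs
  have hx0 : x ≠ 0 := fun e => hsQ (h.kerS s hs (by rw [hx, e, uniSL_zero, map_one]))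
  refine h.sup_conj_eq_top (A⁻¹ * uniSL x * A) ?_ ?_
  · rw [map_mul, map_mul, map_inv, hx, ← hA, ← map_inv, ← map_mul, ← map_mul]
  · obtain ⟨c, hc'⟩ : ∃ c, (A : Matrix (Fin 2) (Fin 2) F) 1 0 = c := ⟨_, rfl⟩
    simp [Matrix.SpecialLinearGroup.coe_mul, Matrix.SpecialLinearGroup.coe_inv, coe_uniSL,
      Matrix.adjugate_fin_two, Matrix.mul_apply, Fin.sum_univ_two, hc']
    rw [hc'] at hc
    ring_nf
    simp [hc, hx0]

theorem normalClosure_eq_top (N : Subgroup G) [N.Normal] (hN : S ≤ N) : N = ⊤ := by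
  obtain ⟨g, -, hg⟩ := h.exists_opp
  rw [eq_top_iff, ← hg]
  refine sup_le hN ?_
  rintro _ ⟨s, hs, rfl⟩
  exact ‹N.Normal›.conj_mem s (hN hs) g

theorem not_normal_of_char {N : Subgroup G} (hNS : N ≤ S) (hne : N ≠ ⊥)
    (hchar : ∀ e : ↥S ≃* ↥S, ∀ x : ↥S, (x : G) ∈ N → (e x : G) ∈ N) : ¬ N.Normal :=
  fun hN => hne (h.kill N hNS hchar hN)

theorem center_not_central : ¬ ∀ z ∈ S ⊓ centralizer (S : Set G), ∀ g : G, g * z = z * g := by
  intro hc
  haveI : Nontrivial ↥S := nontrivial_iff_ne_bot _ |>.2 h.S_ne_bot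
  haveI := h.isPGroup.center_nontrivial
  refine h.not_normal_of_char inf_le_left ?_ ?_ (PushingUpZJ.normal_of_central hc)
  · intro e
    obtain ⟨z, hz⟩ := exists_ne (1 : center ↥S)
    refine hz (Subtype.ext (Subtype.ext ?_))
    exact mem_bot.1 (e ▸ (⟨z.1.2, fun y hy =>
      congrArg Subtype.val (mem_center_iff.1 z.2 ⟨y, hy⟩)⟩ : ((z : ↥S) : G) ∈ S ⊓ centralizer (S : Set G)))
  · intro e x hx
    refine ⟨(e x).2, fun y hy => ?_⟩
    have h1 := congrArg (fun w : ↥S => ((e w : ↥S) : G))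
      (Subtype.ext (hx.2 _ (e.symm ⟨y, hy⟩).2) : e.symm ⟨y, hy⟩ * x = x * e.symm ⟨y, hy⟩)
    simpa using h1

theorem not_top : centralizer (PushingUpCL.omegaCore p G : Set G) ⊔ S ≠ ⊤ := fun e =>
  h.center_not_central (PushingUpCL.central_of_sup h.situation e)

end Sit

end Cfsg.Agent.CharP.PushOne
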