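import Cfsg.Agent.Lib.Classical.GL2

/-!
Elementary facts on `SL(2, F)` and its central quotient, and Hua's identity for a pair of additive maps
into a ring which are inverse to each other on reciprocal arguments.
-/

set_option autoImplicit false
set_option linter.unusedSectionVars false
set_option linter.unusedSimpArgs false

namespace Cfsg.Agent.CharP.PushOne

open Matrix Cfsg.Agent.Classical.GL2
open scoped MatrixGroups

variable {F : Type*} [Field F]

/-- The Weyl element. -/
def wSL : SL(2, F) := ⟨!![0, 1; -1, 0], by simp [det_fin_two]⟩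

theorem coe_wSL : ((wSL : SL(2, F)) : Matrix (Fin 2) (Fin 2) F) = !![0, 1; -1, 0] := rfl

/-- The diagonal element. -/
def dSL (a : Fˣ) : SL(2, F) := ⟨!![(a : F), 0; 0, ((a⁻¹ : Fˣ) : F)], by simp [det_fin_two]⟩

theorem coe_dSL (a : Fˣ) :
    ((dSL a : SL(2, F)) : Matrix (Fin 2) (Fin 2) F) = !![(a : F), 0; 0, ((a⁻¹ : Fˣ) : F)] := rfl

theorem lowSL_mul (a b : F) : lowSL a * lowSL b = lowSL (a + b) := by
  refine sl_ext ?_
  rw [Matrix.SpecialLinearGroup.coe_mul, coe_lowSL, coe_lowSL, coe_lowSL]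
  simp [add_comm]

theorem lowSL_zero : lowSL (0 : F) = 1 := by
  refine sl_ext ?_
  rw [coe_lowSL, Matrix.SpecialLinearGroup.coe_one, one_fin_two]

theorem lowSL_inv (a : F) : (lowSL a)⁻¹ = lowSL (-a) :=
  inv_eq_of_mul_eq_one_right (by rw [lowSL_mul, add_neg_cancel, lowSL_zero])

theorem w_conj_uni (x : F) : wSL * uniSL x * wSL⁻¹ = lowSL (-x) := by
  rw [mul_inv_eq_iff_eq_mul]
  refine sl_ext ?_
  simp only [Matrix.SpecialLinearGroup.coe_mul, coe_wSL, coe_uniSL, coe_lowSL]
  ext i j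
  fin_cases i <;> fin_cases j <;> simp [Matrix.mul_apply, Fin.sum_univ_two]

theorem d_conj_uni (a : Fˣ) (x : F) : dSL a * uniSL x * (dSL a)⁻¹ = uniSL ((a : F) * a * x) := by
  rw [mul_inv_eq_iff_eq_mul]
  refine sl_ext ?_
  simp only [Matrix.SpecialLinearGroup.coe_mul, coe_dSL, coe_uniSL]
  ext i j
  fin_cases i <;> fin_cases j <;> simp [Matrix.mul_apply, Fin.sum_univ_two] <;> field_simp

theorem eq_top_of_uni_low {H : Subgroup SL(2, F)} (hu : ∀ x, uniSL x ∈ H) (hl : ∀ x, lowSL x ∈ H) :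
    H = ⊤ := by
  refine Classical.Linear.eq_top_of_transvection_mem H fun i j hij c => ?_
  fin_cases i <;> fin_cases j
  · exact absurd rfl hij
  · convert hu c
    refine sl_ext ?_
    ext i j
    fin_cases i <;> fin_cases j <;>
      simp [Matrix.SpecialLinearGroup.transvection_coe, Matrix.transvection, coe_uniSL, Matrix.add_apply]
  · convert hl c
    refine sl_ext ?_
    ext i j
    fin_cases i <;> fin_cases j <;>
      simp [Matrix.SpecialLinearGroup.transvection_coe, Matrix.transvection, coe_lowSL, Matrix.add_apply]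
  · exact absurd rfl hij

theorem conj_uni_upper (g : SL(2, F)) (h : (g : Matrix (Fin 2) (Fin 2) F) 1 0 = 0) (x : F) :
    g * uniSL x * g⁻¹ =
      uniSL ((g : Matrix (Fin 2) (Fin 2) F) 0 0 * (g : Matrix (Fin 2) (Fin 2) F) 0 0 * x) := by
  rw [mul_inv_eq_iff_eq_mul]
  have hd := g.det_coe
  rw [det_fin_two, h] at hd
  refine sl_ext ?_
  simp only [Matrix.SpecialLinearGroup.coe_mul, coe_uniSL]
  ext i j
  fin_cases i <;> fin_cases j <;> simp [Matrix.mul_apply, Fin.sum_univ_two, h]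
  linear_combination -((g : Matrix (Fin 2) (Fin 2) F) 0 0 * x) * hd

theorem conj_uni_lower (g : SL(2, F)) {c a : F} (hc : (g : Matrix (Fin 2) (Fin 2) F) 1 0 = c)
    (ha : (g : Matrix (Fin 2) (Fin 2) F) 0 0 = a) (hc0 : c ≠ 0) (x : F) :
    uniSL (-(a / c)) * (g * uniSL x * g⁻¹) * uniSL (a / c) = lowSL (-(c * c * x)) := by
  obtain ⟨b, hb⟩ : ∃ b, (g : Matrix (Fin 2) (Fin 2) F) 0 1 = b := ⟨_, rfl⟩
  obtain ⟨d, hd'⟩ : ∃ d, (g : Matrix (Fin 2) (Fin 2) F) 1 1 = d := ⟨_, rfl⟩
  have hg : (g : Matrix (Fin 2) (Fin 2) F) = !![a, b; c, d] := by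
    ext i j
    fin_cases i <;> fin_cases j <;> assumption
  have hd := g.det_coe
  rw [hg, det_fin_two_of] at hd
  refine sl_ext ?_
  simp only [Matrix.SpecialLinearGroup.coe_mul, coe_uniSL, coe_lowSL, Matrix.SpecialLinearGroup.coe_inv,
    hg, Matrix.adjugate_fin_two_of]
  ext i j
  fin_cases i <;> fin_cases j <;>
    simp [Matrix.mul_apply, Fin.sum_univ_two] <;> field_simp <;> grind

/-- The upper unitriangular group in the central quotient. -/
def upperP (F : Type*) [Field F] : Subgroup PSL(2, F) :=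
  ((QuotientGroup.mk' (Subgroup.center SL(2, F))).comp (uniHom F)).range

theorem mem_upperP {y : PSL(2, F)} :
    y ∈ upperP F ↔ ∃ x, (QuotientGroup.mk' (Subgroup.center SL(2, F))) (uniSL x) = y := by
  constructor
  · rintro ⟨x, rfl⟩
    exact ⟨x.toAdd, rfl⟩
  · rintro ⟨x, rfl⟩
    exact ⟨Multiplicative.ofAdd x, rfl⟩

theorem pi_uni_injective {x y : F}
    (h : (QuotientGroup.mk' (Subgroup.center SL(2, F))) (uniSL x) =
      (QuotientGroup.mk' (Subgroup.center SL(2, F))) (uniSL y)) : x = y := by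
  have h1 : (uniSL x)⁻¹ * uniSL y ∈ Subgroup.center SL(2, F) := QuotientGroup.eq.1 h
  rw [uniSL_inv, uniSL_mul] at h1
  have h2 := congrArg (fun A : SL(2, F) => (A : Matrix (Fin 2) (Fin 2) F) 0 0)
    (Subgroup.mem_center_iff.1 h1 (lowSL 1))
  simp only [Matrix.SpecialLinearGroup.coe_mul, coe_uniSL, coe_lowSL] at h2
  simp [Matrix.mul_apply, Fin.sum_univ_two] at h2
  linear_combination -h2

theorem pi_low_injective {x y : F}
    (h : (QuotientGroup.mk' (Subgroup.center SL(2, F))) (lowSL x) =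
      (QuotientGroup.mk' (Subgroup.center SL(2, F))) (lowSL y)) : x = y := by
  have e : ∀ z : F, lowSL z = wSL * uniSL (-z) * wSL⁻¹ := fun z => by rw [w_conj_uni, neg_neg]
  rw [e, e, map_mul, map_mul, map_mul (QuotientGroup.mk' _) (wSL * _), map_mul] at h
  exact neg_injective (pi_uni_injective (mul_left_cancel (mul_right_cancel h)))

theorem natCard_upperP : Nat.card (upperP F) = Nat.card F := by
  refine (Nat.card_congr (MonoidHom.ofInjective (f := (QuotientGroup.mk' (Subgroup.center SL(2, F))).comp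
    (uniHom F)) fun x y h => ?_).toEquiv).symm.trans (Nat.card_congr Multiplicative.toAdd)
  exact pi_uni_injective (x := x.toAdd) (y := y.toAdd) h

/-- Hua's identity. -/
theorem hua {R : Type*} [Ring R] (a b : F →+ R) (hab : ∀ x : F, x ≠ 0 → a x * b x⁻¹ = 1)
    (hba : ∀ x : F, x ≠ 0 → b x⁻¹ * a x = 1) (x y : F) :
    a (x * x * y) = a x * b y * a x := by
  rcases eq_or_ne x 0 with rfl | hx
  · simp
  rcases eq_or_ne y 0 with rfl | hy
  · simp
  by_cases hxy : x * y = 1
  · have e : y = x⁻¹ := by field_simp; linear_combination hxy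
    rw [show x * x * y = x by linear_combination x * hxy, e, hab x hx, one_mul]
  -- `z = x - x² y`
  have hz : (1 : F) - x * y ≠ 0 := sub_ne_zero.2 fun h => hxy h.symm
  have hd : y⁻¹ - x ≠ 0 := fun h => hxy (by
    rw [sub_eq_zero] at h; rw [← h, inv_mul_cancel₀ hy])
  have hzz : (x - x * x * y)⁻¹ = x⁻¹ + (y⁻¹ - x)⁻¹ := by
    have : x - x * x * y ≠ 0 := by
      rw [show x - x * x * y = x * (1 - x * y) by ring]; exact mul_ne_zero hx hz
    field_simp
    ring
  have hz0 : x - x * x * y ≠ 0 := by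
    rw [show x - x * x * y = x * (1 - x * y) by ring]; exact mul_ne_zero hx hz
  have h1 := hab _ hz0
  rw [hzz, map_add, map_sub] at h1
  have hD := hba _ hd
  rw [map_sub] at hD
  have hY : a y⁻¹ * b y = 1 := by simpa using hab y⁻¹ (inv_ne_zero hy)
  have key : (b x⁻¹ + b (y⁻¹ - x)⁻¹) * (a x - a x * b y * a x) = 1 := by
    have h2 : b (y⁻¹ - x)⁻¹ * (1 - a x * b y) = b y := by
      calc b (y⁻¹ - x)⁻¹ * (1 - a x * b y) = b (y⁻¹ - x)⁻¹ * (a y⁻¹ - a x) * b y := by
            rw [mul_assoc, sub_mul, hY]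
        _ = b y := by rw [hD, one_mul]
    calc (b x⁻¹ + b (y⁻¹ - x)⁻¹) * (a x - a x * b y * a x)
        = b x⁻¹ * a x - (b x⁻¹ * a x) * (b y * a x) +
            b (y⁻¹ - x)⁻¹ * (1 - a x * b y) * a x := by noncomm_ring
      _ = 1 := by rw [hba x hx, h2, one_mul]; abel
  have h3 : a x - a x * b y * a x = a (x - x * x * y) := by
    have hl : a (x - x * x * y) * (b x⁻¹ + b (y⁻¹ - x)⁻¹) = 1 := by
      rw [map_sub]; exact h1
    exact (left_inv_eq_right_inv hl key).symm
  rw [map_sub] at h3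
  exact (sub_right_injective h3).symm

/-- The maps in Hua's identity are a multiplicative map. -/
theorem hua_mul [Finite F] {R : Type*} [Ring R] (a b : F →+ R)
    (hab : ∀ x : F, x ≠ 0 → a x * b x⁻¹ = 1) (hba : ∀ x : F, x ≠ 0 → b x⁻¹ * a x = 1) (h1 : a 1 = 1) :
    (∀ y, a y = b y) ∧ ∀ x y : F, a (x * y) = a x * a y := by
  have hb1 : b 1 = 1 := by simpa [h1] using hab 1 one_ne_zero
  have hab' : ∀ y, a y = b y := fun y => by simpa [h1] using hua a b hab hba 1 y
  refine ⟨hab', fun x y => ?_⟩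
  obtain ⟨t, ht⟩ := IsCyclic.exists_generator (α := Fˣ)
  have hpow : ∀ k : ℕ, a ((t : F) ^ k) = a t ^ k := by
    intro k
    induction k using Nat.strong_induction_on with
    | _ k ih =>
      match k with
      | 0 => simpa using h1
      | 1 => simp
      | m + 2 =>
        rw [show (t : F) ^ (m + 2) = (t : F) * t * (t : F) ^ m by ring, hua a b hab hba, ← hab',
          ih m (by omega), mul_assoc, ← pow_succ, ← pow_succ']
  rcases eq_or_ne x 0 with rfl | hx
  · simp
  rcases eq_or_ne y 0 with rfl | hy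
  · simp
  obtain ⟨i, hi⟩ := (Submonoid.mem_powers_iff _ _).1 (mem_powers_iff_mem_zpowers.2 (ht (Units.mk0 x hx)))
  obtain ⟨j, hj⟩ := (Submonoid.mem_powers_iff _ _).1 (mem_powers_iff_mem_zpowers.2 (ht (Units.mk0 y hy)))
  have hi' : (t : F) ^ i = x := by simpa using congrArg (fun u : Fˣ => (u : F)) hi
  have hj' : (t : F) ^ j = y := by simpa using congrArg (fun u : Fˣ => (u : F)) hj
  rw [← hi', ← hj', ← pow_add, hpow, hpow, hpow, pow_add]

end Cfsg.Agent.CharP.PushOne
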