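import Cfsg.Agent.Lib.CharP.PushOne.Common
import Cfsg.Agent.Lib.CharP.PushOne.Embed
import Cfsg.Agent.Lib.PGroups.ClassThree

/-!
Commutator bookkeeping for the two configurations, and the natural factor in `Ω₁Z(O_p(G))`.
-/

set_option autoImplicit false
set_option linter.unusedSectionVars false

namespace Cfsg.Agent.CharP.PushOne

open Subgroup
open scoped MatrixGroups commutatorElement

variable {G : Type*} [Group G] [Finite G] {p : ℕ} [hp : Fact p.Prime]
  {F : Type} [Field F] [Fintype F] {S : Subgroup G} {φ : G →* PSL(2, F)}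

theorem exists_mul {A B : Subgroup G} (hn : A ≤ normalizer (B : Set G)) {x : G} (hx : x ∈ A ⊔ B) :
    ∃ a ∈ A, ∃ b ∈ B, x = a * b := by
  rw [← SetLike.mem_coe, coe_mul_of_left_le_normalizer_right _ _ hn] at hx
  obtain ⟨a, ha, b, hb, rfl⟩ := hx
  exact ⟨a, ha, b, hb, rfl⟩

theorem le_nz {H : Subgroup G} (N : Subgroup G) [N.Normal] : H ≤ normalizer (N : Set G) := by
  rw [normalizer_eq_top]; exact le_top

theorem comm_sup_le {A B C N : Subgroup G} (hA : ⁅A, C⁆ ≤ N) (hB : ⁅B, C⁆ ≤ N)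
    (hn : A ⊔ B ≤ normalizer (N : Set G)) : ⁅A ⊔ B, C⁆ ≤ N := by
  let H : Subgroup G :=
    { carrier := {x | x ∈ normalizer (N : Set G) ∧ ∀ c ∈ C, ⁅x, c⁆ ∈ N}
      one_mem' := ⟨one_mem _, fun c _ => by simp⟩
      mul_mem' := fun {a b} ha hb => ⟨mul_mem ha.1 hb.1, fun c hc => by
        rw [commutatorElement_mul_left_eq_conj_mul]
        exact mul_mem ((mem_normalizer_iff.1 ha.1 _).1 (hb.2 c hc)) (ha.2 c hc)⟩
      inv_mem' := fun {a} ha => ⟨inv_mem ha.1, fun c hc => by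
        rw [show ⁅a⁻¹, c⁆ = a⁻¹ * ⁅a, c⁆⁻¹ * a⁻¹⁻¹ by simp only [commutatorElement_def]; group]
        exact (mem_normalizer_iff.1 (inv_mem ha.1) _).1 (inv_mem (ha.2 c hc))⟩ }
  have hle : A ⊔ B ≤ H := sup_le
    (fun a ha => ⟨hn (mem_sup_left ha), fun c hc => hA (commutator_mem_commutator ha hc)⟩)
    (fun b hb => ⟨hn (mem_sup_right hb), fun c hc => hB (commutator_mem_commutator hb hc)⟩)
  exact commutator_le.2 fun x hx c hc => (hle hx).2 c hc

theorem sup_comm_le {A B C N : Subgroup G} (hA : ⁅C, A⁆ ≤ N) (hB : ⁅C, B⁆ ≤ N)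
    (hn : A ⊔ B ≤ normalizer (N : Set G)) : ⁅C, A ⊔ B⁆ ≤ N := by
  rw [commutator_comm]
  exact comm_sup_le ((commutator_comm_le _ _).trans hA) ((commutator_comm_le _ _).trans hB) hn

theorem lcs_one (S : Subgroup G) : S.lowerCentralSeries 1 = ⁅S, S⁆ := by
  rw [Subgroup.lowerCentralSeries_succ, Subgroup.lowerCentralSeries_zero]

theorem comm_eq_bot {A B : Subgroup G} (h : ∀ a ∈ A, ∀ b ∈ B, a * b = b * a) : ⁅A, B⁆ = ⊥ :=
  commutator_eq_bot_iff_le_centralizer.2 fun a ha b hb => (h a ha b hb).symm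

namespace Sit

variable (h : Sit p F S φ)
include h

theorem comm_top_le {A N : Subgroup G} [A.Normal] [N.Normal] (hS : ⁅A, S⁆ ≤ N) :
    ⁅A, (⊤ : Subgroup G)⁆ ≤ N := by
  obtain ⟨g, -, hg⟩ := h.exists_opp
  rw [← hg]
  refine sup_comm_le hS ?_ (le_nz N)
  have e : A = A.map (MulAut.conj g).toMonoidHom :=
    (mem_normalizer_iff_map_conj_eq.1 (by rw [normalizer_eq_top]; exact mem_top g)).symm
  rw [e, ← map_commutator]
  rintro _ ⟨x, hx, rfl⟩
  exact conj_mem (hS hx) g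

theorem lcs_char (k : ℕ) (e : ↥S ≃* ↥S) (x : ↥S) (hx : (x : G) ∈ S.lowerCentralSeries k) :
    (e x : G) ∈ S.lowerCentralSeries k := by
  have hS : S.lowerCentralSeries k = ((⊤ : Subgroup ↥S).lowerCentralSeries k).map S.subtype := by
    rw [Subgroup.map_lowerCentralSeries, ← MonoidHom.range_eq_map, range_subtype]
  rw [hS] at hx ⊢
  obtain ⟨y, hy, hyx⟩ := hx
  obtain rfl : y = x := Subtype.ext hyx
  refine ⟨e y, ?_, rfl⟩
  have h1 : ((⊤ : Subgroup ↥S).lowerCentralSeries k).map e.toMonoidHom =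
      (⊤ : Subgroup ↥S).lowerCentralSeries k := by
    rw [Subgroup.map_lowerCentralSeries, map_top_of_surjective _ e.surjective]
  exact h1.le (mem_map_of_mem _ hy)

theorem lcs_le (k : ℕ) : S.lowerCentralSeries k ≤ S := by
  induction k with
  | zero => exact le_of_eq (Subgroup.lowerCentralSeries_zero S)
  | succ k ih =>
    rw [Subgroup.lowerCentralSeries_succ]
    exact (commutator_mono ih le_rfl).trans (commutator_le.2 fun a ha b hb => by
      rw [commutatorElement_def]; exact mul_mem (mul_mem (mul_mem ha hb) (inv_mem ha)) (inv_mem hb))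

/-- An invariant subgroup whose powers are powers of a normal subgroup inside it has exponent dividing `n`. -/
theorem pow_eq_one {n : ℕ} {A B : Subgroup G} [B.Normal] (hAS : A ≤ S)
    (hchar : ∀ e : ↥S ≃* ↥S, ∀ x : ↥S, (x : G) ∈ A → (e x : G) ∈ A) (hBA : B ≤ A)
    (hex : ∀ a ∈ A, ∃ b ∈ B, a ^ n = b ^ n) : ∀ a ∈ A, a ^ n = 1 := by
  set N : Subgroup G := closure ((· ^ n) '' (A : Set G)) with hN
  have hNA : N ≤ A := (closure_le _).2 (by rintro _ ⟨a, ha, rfl⟩; exact pow_mem ha n)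
  have hbot : N = ⊥ := by
    refine h.kill N (hNA.trans hAS) (fun e x hx => ?_) ⟨fun x hx g => ?_⟩
    · have hmap : N ≤ ((N.comap S.subtype).comap e.toMonoidHom).map S.subtype := by
        refine (closure_le _).2 ?_
        rintro _ ⟨a, ha, rfl⟩
        refine ⟨⟨a, hAS ha⟩ ^ n, ?_, rfl⟩
        show ((e (⟨a, hAS ha⟩ ^ n) : ↥S) : G) ∈ N
        rw [map_pow, coe_pow]
        exact subset_closure ⟨_, hchar e _ ha, rfl⟩
      obtain ⟨y, hy, hyx⟩ := hmap hx
      obtain rfl : y = x := Subtype.ext hyx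
      exact hy
    · have hle : N ≤ N.comap (MulAut.conj g).toMonoidHom := by
        refine (closure_le _).2 ?_
        rintro _ ⟨a, ha, rfl⟩
        obtain ⟨b, hb, e⟩ := hex a ha
        show g * a ^ n * g⁻¹ ∈ N
        rw [e, ← conj_pow]
        exact subset_closure ⟨_, hBA (conj_mem hb g), rfl⟩
      exact hle hx
  intro a ha
  exact mem_bot.1 (hbot ▸ subset_closure ⟨a, ha, rfl⟩)

theorem exponent_dvd {n : ℕ} {B : Subgroup G} [B.Normal] (hBS : B ≤ S)
    (hex : ∀ a ∈ S, ∃ b ∈ B, a ^ n = b ^ n) : Monoid.exponent ↥S ∣ n :=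
  Monoid.exponent_dvd_of_forall_pow_eq_one fun a => Subtype.ext
    (h.pow_eq_one le_rfl (fun e x _ => (e x).2) hBS hex a a.2)

/-- The natural factor in `Ω₁Z(O_p(G))`. -/
theorem facV (hquad : ⁅PushingUpCL.omegaCore p G, S⁆ ≤ centralizer (S : Set G)) :
    ∃ ρ : G →* SL(2, F), IsLift S φ ρ ∧ Fac ρ (PushingUpCL.omegaCore p G)
      (PushingUpCL.omegaCore p G ⊓ centralizer ((⊤ : Subgroup G) : Set G)) := by
  set V := PushingUpCL.omegaCore p G
  obtain ⟨-, hc1, -⟩ := h.fixed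
  have hzero : ∀ (A : Subgroup G) (C : Subgroup G), ⁅A, C⁆ = ⊥ → ∀ N : Subgroup G, ⁅A, C⁆ ≤ N :=
    fun A C e N => e ▸ bot_le
  haveI : (V ⊓ centralizer ((⊤ : Subgroup G) : Set G)).Normal := ⟨fun z hz g => by
    rwa [hz.2 g (mem_top g), mul_inv_cancel_right]⟩
  obtain ⟨s, hs, hsP⟩ : ∃ s ∈ S, s ∉ Cfsg.pCore p G := by
    by_contra hno
    push Not at hno
    have h1 := h.card_S
    rw [le_antisymm hno h.core_le] at h1
    exact (Finite.one_lt_card (α := F)).ne'
      (Nat.eq_of_mul_eq_mul_right Nat.card_pos (h1.symm.trans (one_mul _).symm))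
  refine h.exists_fac (L := V ⊓ centralizer (S : Set G)) inf_le_left
    (hzero V V (comm_eq_bot fun a (ha : a ∈ V) b (hb : b ∈ V) => hb.2.1 a ha.1) _)
    (hzero V (Cfsg.pCore p G) (comm_eq_bot fun a (ha : a ∈ V) b hb => (ha.2.1 b hb).symm) _) (fun hle => ?_) (fun u hu hg => ?_)
    inf_le_left (inf_le_inf_left V (centralizer_le (Set.subset_univ _ |>.trans_eq coe_top.symm))) ?_
    (hzero (V ⊓ centralizer (S : Set G)) S
      (comm_eq_bot fun a (ha : a ∈ V ⊓ centralizer (S : Set G)) b hb => (ha.2 b hb).symm) _) ?_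
  · have hVS : V ≤ centralizer (S : Set G) := fun v hv => by
      by_contra hvc
      exact h.noncentral hv hvc hs hsP (hle (commutator_mem_commutator hv (mem_top s))).2
    rw [inf_eq_left.2 hVS] at hc1
    exact (Finite.one_lt_card (α := F)).ne'
      (Nat.eq_of_mul_eq_mul_right Nat.card_pos (hc1.symm.trans (one_mul _).symm))
  · have hin : ∀ w ∈ V, (∀ g : G, g * w * g⁻¹ * w⁻¹ ∈ V ⊓ centralizer ((⊤ : Subgroup G) : Set G)) →
        w ∈ centralizer (S : Set G) := fun w hw hwg => by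
      by_contra hwc
      refine h.noncentral hw hwc hs hsP ?_
      rw [← commutatorElement_inv s w, commutatorElement_def]
      exact inv_mem (hwg s).2
    refine ⟨hu, ?_⟩
    obtain ⟨g, -, hg'⟩ := h.exists_opp
    rw [← hg', CharP.centralizer_sup_eq]
    refine ⟨hin u hu hg, ?_⟩
    rintro _ ⟨t, ht, rfl⟩
    have hu' : g⁻¹ * u * g ∈ V := by simpa using conj_mem hu g⁻¹
    have h1 := hin _ hu' (fun x => by
      have := conj_mem (N := V ⊓ centralizer ((⊤ : Subgroup G) : Set G)) (hg (g * x * g⁻¹)) g⁻¹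
      rwa [show g⁻¹ * (g * x * g⁻¹ * u * (g * x * g⁻¹)⁻¹ * u⁻¹) * g⁻¹⁻¹ =
        x * (g⁻¹ * u * g) * x⁻¹ * (g⁻¹ * u * g)⁻¹ by group] at this) t ht
    show g * t * g⁻¹ * u = u * (g * t * g⁻¹)
    calc g * t * g⁻¹ * u = g * (t * (g⁻¹ * u * g)) * g⁻¹ := by group
      _ = g * (g⁻¹ * u * g * t) * g⁻¹ := by rw [h1]
      _ = _ := by group
  · exact le_inf (commutator_le_left V S) hquad
  · have e := PushingUpCL.card_mul_relIndex (inf_le_left : V ⊓ centralizer (S : Set G) ≤ V)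
    rw [hc1, mul_comm (Nat.card F)] at e
    exact (Nat.eq_of_mul_eq_mul_left Nat.card_pos e).le

end Sit

end Cfsg.Agent.CharP.PushOne
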