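import Cfsg.Agent.Lib.CharP.PushOne.Tools

/-!
The configuration at critical distance two, inside `G`.
-/

set_option autoImplicit false
set_option linter.unusedSectionVars false

namespace Cfsg.Agent.CharP.PushOne

open Subgroup
open scoped MatrixGroups commutatorElement

variable {G : Type*} [Group G] [Finite G] {p : ℕ} [hp : Fact p.Prime]
  {F : Type} [Field F] [Fintype F] {S : Subgroup G} {φ : G →* PSL(2, F)}

/-- The data at critical distance two. -/
structure TwoData (p : ℕ) (S : Subgroup G) (g : G) (Zy Zz Qz Zw : Subgroup G) : Prop where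
  opp : S ⊔ S.map (MulAut.conj g).toMonoidHom = ⊤
  yQ : Zy ≤ Cfsg.pCore p G
  zQ : Zz ≤ Cfsg.pCore p G
  zS : Qz ≤ S
  Vz : PushingUpCL.omegaCore p G ≤ Qz
  wz : Zw ≤ Qz
  supY : Zy ⊔ Qz = S
  supW : Zw ⊔ Cfsg.pCore p G = S
  yR : ∀ t ∈ Zy, ∀ x ∈ S.map (MulAut.conj g).toMonoidHom, ⁅t, x⁆ ∈ centralizer ((⊤ : Subgroup G) : Set G)
  wR : ∀ w ∈ Zw, ∀ a ∈ Qz, ⁅w, a⁆ ∈ centralizer (S : Set G)
  nz : S ≤ normalizer (Qz : Set G)
  cardQz : Nat.card Qz = Nat.card (Cfsg.pCore p G)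
  csz : ∀ x ∈ S, (∀ z ∈ Zz, x * z = z * x) → x ∈ Qz
  commY : ∀ t ∈ Zy, ∀ z ∈ Zz, t * (g * z * g⁻¹) = g * z * g⁻¹ * t
  yel : ∀ a ∈ Zy, a ^ p = 1 ∧ ∀ b ∈ Zy, a * b = b * a
  wel : ∀ a ∈ Zw, a ^ p = 1 ∧ ∀ b ∈ Zw, a * b = b * a
  cnc : ∀ c ∈ Qz, ∀ s ∈ Zw, s ∉ Cfsg.pCore p G → ⁅c, s⁆ ≠ 1 →
    ⁅c, s⁆ ∉ centralizer ((⊤ : Subgroup G) : Set G)
  cs : ∀ t ∈ Zy, t ∉ Qz → ∀ s ∈ Zw, s ∉ Cfsg.pCore p G → ⁅⁅t, s⁆, t⁆ ≠ 1 ∧ ⁅⁅t, s⁆, s⁆ ≠ 1

namespace Sit

variable (h : Sit p F S φ)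
include h

theorem exists_two_data (hd : h.host.dist = 2) :
    ∃ (g : G) (Zy Zz Qz Zw : Subgroup G), TwoData p S g Zy Zz Qz Zw := by
  obtain ⟨d, hc, hw, hcs⟩ := h.host.cs hd h.hostExtra
  obtain ⟨⟨f1, f2, f3, f4⟩, ⟨e1, -, e3, -⟩, ⟨k1, -, -, -, -⟩, hR⟩ := h.host.facts hd hc
  obtain ⟨g, -, hg⟩ := hc.mid
  set V := PushingUpCL.omegaCore p G
  set Q := Cfsg.pCore p G
  have back : ∀ {A : Subgroup (Equiv.Perm G)}, A ≤ S.map (emb G) →
      (A.comap (emb G)).map (emb G) = A ∧ A.comap (emb G) ≤ S := fun hle =>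
    ⟨map_comap_eq_self (hle.trans (map_le_range _ _)),
      (comap_mono hle).trans (comap_map_eq_self_of_injective emb_injective S).le⟩
  have hS1 : cj (d 2) (S.map (emb G)) = (S.map (MulAut.conj g).toMonoidHom).map (emb G) := by
    rw [← hg, cj_map]
  have hbQ : ∀ {A : Subgroup (Equiv.Perm G)}, A ≤ Q.map (emb G) → A.comap (emb G) ≤ Q := fun hle =>
    (comap_mono hle).trans (comap_map_eq_self_of_injective emb_injective Q).le
  have hy := f1.trans (map_mono h.core_le)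
  have hwS := f4.trans k1
  have el : ∀ i, ∀ a : G, emb G a ∈ cj (d i) (V.map (emb G)) →
      a ^ p = 1 ∧ ∀ b : G, emb G b ∈ cj (d i) (V.map (emb G)) → a * b = b * a := fun i a ha => by
    refine ⟨?_, fun b hb => emb_injective ?_⟩
    · obtain ⟨_, ⟨w, hw', rfl⟩, e⟩ := ha
      refine emb_injective ?_
      rw [map_pow, map_one, ← e]
      show (d i * emb G w * (d i)⁻¹) ^ p = 1
      rw [conj_pow, ← map_pow, hw'.2.2, map_one, mul_one, mul_inv_cancel]
    · rw [map_mul, map_mul]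
      exact h.host.cj_comm_ZQ hb (cj_mono h.host.ZQ ha)
  refine ⟨g, (cj (d 1) (V.map (emb G))).comap (emb G), (cj (d 3) (V.map (emb G))).comap (emb G),
    (cj (d 3) (Q.map (emb G))).comap (emb G), (cj (d 4) (V.map (emb G))).comap (emb G),
    ?_, hbQ f1, hbQ f2, (back k1).2, (le_comap_map _ V).trans (comap_mono f3), comap_mono f4,
    ?_, ?_, fun t ht x hx => ?_, fun w hw' a ha => ?_, fun s hs => ?_, ?_, fun x hx hxz => ?_,
    fun t ht z hz => ?_, fun a ha => ⟨(el 1 a ha).1, fun b hb => (el 1 a ha).2 b hb⟩,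
    fun a ha => ⟨(el 4 a ha).1, fun b hb => (el 4 a ha).2 b hb⟩, fun c hc' s hs hsQ hne hz => ?_,
    fun t ht htz s hs hsQ => ?_⟩
  · refine Subgroup.map_injective emb_injective ?_
    rw [Subgroup.map_sup, ← hS1]
    exact hc.opp
  · refine Subgroup.map_injective emb_injective ?_
    rw [Subgroup.map_sup, (back hy).1, (back k1).1, e1]
  · refine Subgroup.map_injective emb_injective ?_
    rw [Subgroup.map_sup, (back hwS).1, e3]
  · refine (map_mem_centralizer emb_injective).1 ?_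
    rw [map_commutatorElement]
    exact hR (commutator_mem_commutator ht (hS1 ▸ mem_map_of_mem _ hx))
  · refine (map_mem_centralizer emb_injective).1 ?_
    rw [map_commutatorElement]
    have h1 : S.map (emb G) ≤ cj (d 3) ((⊤ : Subgroup G).map (emb G)) :=
      (cj_of_mem hc.next).ge.trans (cj_mono h.host.SG)
    exact centralizer_le h1 (hw _ hw' _ ha)
  · refine mem_normalizer_fintype fun a ha => ?_
    rw [SetLike.mem_coe, mem_comap, map_mul, map_mul, map_inv]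
    have h1 : S.map (emb G) ≤ normalizer (cj (d 3) (Q.map (emb G)) : Set (Equiv.Perm G)) :=
      (cj_of_mem hc.next).ge.trans ((cj_mono h.host.SG).trans (normalizes_cj h.host.Qn))
    exact (mem_normalizer_iff.1 (h1 (mem_map_of_mem _ hs)) _).1 ha
  · rw [← card_map_of_injective (f := emb G) emb_injective, (back k1).1, cj_card,
      card_map_of_injective emb_injective]
  · refine h.host.cj_centralizer_Z ?_ fun z hz => ?_
    · rw [cj_of_mem hc.next]; exact mem_map_of_mem _ hx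
    · obtain ⟨y, -, rfl⟩ := (f2.trans (map_le_range _ _)) hz
      rw [← map_mul, ← map_mul, hxz y hz]
  · refine emb_injective ?_
    rw [map_mul (emb G) t, map_mul (emb G) (g * z * g⁻¹) t]
    refine h.host.commY hd hc (g := d 2) rfl _ ht _ ⟨emb G z, hz, ?_⟩
    rw [← hg]; simp [map_mul, map_inv]
  · refine h.host.cnc hd hc _ hc' _ hs (fun e => hsQ ((mem_map_iff_mem emb_injective).1 e))
      (fun e => hne (emb_injective (by rw [map_commutatorElement, e, map_one]))) ?_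
    rw [← map_commutatorElement]
    exact (map_mem_centralizer emb_injective).2 hz
  · have h1 := hcs _ ht htz _ hs (fun e => hsQ ((mem_map_iff_mem emb_injective).1 e))
    simp only [← map_commutatorElement] at h1
    exact ⟨fun e => h1.1 (by rw [e, map_one]), fun e => h1.2 (by rw [e, map_one])⟩

end Sit

end Cfsg.Agent.CharP.PushOne
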