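import Cfsg.Agent.Lib.CharP.PushOne.TwoData

/-!
The two natural layers at critical distance two.
-/

set_option autoImplicit false
set_option linter.unusedSectionVars false

namespace Cfsg.Agent.CharP.PushOne

open Subgroup
open scoped MatrixGroups commutatorElement

variable {G : Type*} [Group G] [Finite G] {p : ℕ} [hp : Fact p.Prime]
  {F : Type} [Field F] [Fintype F] {S : Subgroup G} {φ : G →* PSL(2, F)}
  {g : G} {Zy Zz Qz Zw : Subgroup G}

/-- The fixed points of the Sylow group in `Ω₁Z(O_p(G))`. -/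
abbrev omS (p : ℕ) (S : Subgroup G) : Subgroup G :=
  PushingUpCL.omegaCore p G ⊓ centralizer (S : Set G)

/-- The fixed points of `G` in `Ω₁Z(O_p(G))`. -/
abbrev omG (p : ℕ) (G : Type*) [Group G] : Subgroup G :=
  PushingUpCL.omegaCore p G ⊓ centralizer ((⊤ : Subgroup G) : Set G)

instance omG_normal : (omG p G).Normal := ⟨fun z hz g => by
  rwa [hz.2 g (mem_top g), mul_inv_cancel_right]⟩

theorem pow_conj_of_comm {w a : G} (hc : Commute ⁅w, a⁆ w) :
    ∀ n : ℕ, w ^ n * a * (w ^ n)⁻¹ = ⁅w, a⁆ ^ n * a := by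
  intro n
  induction n with
  | zero => simp
  | succ n ih =>
    calc w ^ (n + 1) * a * (w ^ (n + 1))⁻¹ = w * (w ^ n * a * (w ^ n)⁻¹) * w⁻¹ := by rw [pow_succ']; group
      _ = (w * ⁅w, a⁆ ^ n) * (a * w⁻¹) := by rw [ih]; group
      _ = (⁅w, a⁆ ^ n * w) * (a * w⁻¹) := by rw [(hc.symm.pow_right n).eq]
      _ = ⁅w, a⁆ ^ n * (⁅w, a⁆ * a) := by rw [commutatorElement_def]; group
      _ = _ := by rw [pow_succ]; group

theorem comm_pow_eq_one {w a : G} (hw : w ^ p = 1) (hc : Commute ⁅w, a⁆ w) : ⁅w, a⁆ ^ p = 1 := by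
  have h1 := pow_conj_of_comm hc p
  rw [hw, one_mul, inv_one, mul_one] at h1
  exact right_eq_mul.1 h1

/-- The layers. -/
structure Layers (p : ℕ) (S : Subgroup G) (Zy Qz Zw : Subgroup G) (φ : G →* PSL(2, F))
    (ρ : G →* SL(2, F)) (U L K : Subgroup G) : Prop where
  Un : U.Normal
  Kn : K.Normal
  yU : Zy ≤ U
  UQ : U ≤ Cfsg.pCore p G
  VK : PushingUpCL.omegaCore p G ≤ K
  KL : K ≤ L
  LU : L ≤ U
  Leq : L = U ⊓ Qz
  nL : S ≤ normalizer (L : Set G)
  UQc : ⁅U, Cfsg.pCore p G⁆ ≤ omG p G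
  Upow : ∀ u ∈ U, u ^ p ∈ PushingUpCL.omegaCore p G
  QU : ∃ k, Cfsg.iterCommutator (Cfsg.pCore p G) ⊤ k ≤ U
  KV : ⁅K, (⊤ : Subgroup G)⁆ ≤ PushingUpCL.omegaCore p G
  US : ⁅U, S⁆ ≤ L
  LS : ⁅L, S⁆ ≤ omS p S
  DW : ⁅Cfsg.pCore p G ⊓ Qz, Zw⁆ ≤ omS p S
  supQ : Cfsg.pCore p G ≤ Zy ⊔ (Cfsg.pCore p G ⊓ Qz)
  idx : L.relIndex U ≤ Nat.card F
  lift : IsLift S φ ρ
  facV : Fac ρ (PushingUpCL.omegaCore p G) (omG p G)
  facU : Fac ρ U K
  ker : ρ.ker = Cfsg.pCore p G

namespace Sit

variable (h : Sit p F S φ)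
include h

theorem layers (d : TwoData p S g Zy Zz Qz Zw) :
    ∃ (ρ : G →* SL(2, F)) (U L K : Subgroup G), Layers p S Zy Qz Zw φ ρ U L K := by
  set V := PushingUpCL.omegaCore p G with hVd
  set Q := Cfsg.pCore p G with hQd
  set C0 := omG p G with hC0
  set Ω := omS p S with hΩ
  set S1 := S.map (MulAut.conj g).toMonoidHom with hS1
  have hQS : Q ≤ S := h.core_le
  have hVQ : V ≤ Q := fun v hv => hv.1
  have hC0Ω : C0 ≤ Ω := inf_le_inf_left V (centralizer_le (Set.subset_univ _ |>.trans_eq coe_top.symm))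
  have hgQ : ∀ x, x ∈ Q → g⁻¹ * x * g ∈ Q := fun x hx => by simpa using conj_mem hx g⁻¹
  have hQS1 : Q ≤ S1 := fun x hx => ⟨g⁻¹ * x * g, hQS (hgQ x hx), by simp [mul_assoc]⟩
  have hΩn : S ≤ normalizer (Ω : Set G) := fun s hs => centralizer_le_normalizer _ fun z hz =>
    (hz.2 s hs).symm
  -- commutators with the middle neighbour
  have hyC : ⁅Zy, S1⁆ ≤ C0 := commutator_le.2 fun t ht x hx => by
    have hr := d.yR t ht x hx
    refine ⟨h.mem_omega ?_ (centralizer_le (Set.subset_univ _ |>.trans_eq coe_top.symm) hr)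
      (comm_pow_eq_one (d.yel t ht).1 (hr t (mem_top t)).symm), hr⟩
    have h1 : t * (x * t * x⁻¹)⁻¹ ∈ Q := mul_mem (d.yQ ht) (inv_mem (conj_mem (d.yQ ht) x))
    rw [show ⁅t, x⁆ = t * (x * t * x⁻¹)⁻¹ by rw [commutatorElement_def]; group]
    exact hQS h1
  have hwS : Zw ≤ S := d.wz.trans d.zS
  have hwΩ : ⁅Zw, Qz⁆ ≤ Ω := commutator_le.2 fun w hw a ha => by
    have hr := d.wR w hw a ha
    refine ⟨h.mem_omega ?_ hr (comm_pow_eq_one (d.wel w hw).1 (hr w (hwS hw)).symm), hr⟩
    rw [commutatorElement_def]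
    exact mul_mem (mul_mem (mul_mem (hwS hw) (d.zS ha)) (inv_mem (hwS hw))) (inv_mem (d.zS ha))
  have hDW : ⁅Q ⊓ Qz, Zw⁆ ≤ Ω :=
    ((commutator_mono inf_le_right le_rfl).trans (commutator_comm_le _ _)).trans hwΩ
  -- `U`
  set U : Subgroup G := normalClosure (Zy : Set G) ⊔ V with hU
  haveI hUn : U.Normal := inferInstance
  have hyU : Zy ≤ U := le_sup_of_le_left le_normalClosure
  have hUQ : U ≤ Q := sup_le (normalClosure_le_normal d.yQ) hVQ
  have hVU : V ≤ U := le_sup_right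
  have hUQc : ⁅U, Q⁆ ≤ C0 := by
    let H : Subgroup G :=
      { carrier := {x | ∀ y ∈ Q, ⁅x, y⁆ ∈ C0}
        one_mem' := fun y _ => by simp
        mul_mem' := fun {a b} ha hb y hy => by
          rw [commutatorElement_mul_left_eq_conj_mul]
          exact mul_mem (conj_mem (hb y hy) a) (ha y hy)
        inv_mem' := fun {a} ha y hy => by
          rw [show ⁅a⁻¹, y⁆ = a⁻¹ * ⁅a, y⁆⁻¹ * a⁻¹⁻¹ by simp only [commutatorElement_def]; group]
          exact conj_mem (inv_mem (ha y hy)) a⁻¹ }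
    haveI : H.Normal := ⟨fun x hx k y hy => by
      have h1 : k⁻¹ * y * k ∈ Q := by simpa using conj_mem hy k⁻¹
      have := conj_mem (hx _ h1) k
      rwa [show k * ⁅x, k⁻¹ * y * k⁆ * k⁻¹ = ⁅k * x * k⁻¹, y⁆ by
        simp only [commutatorElement_def]; group] at this⟩
    have hle : U ≤ H := sup_le
      (normalClosure_le_normal fun t ht y hy => hyC (commutator_mem_commutator ht (hQS1 hy)))
      (fun v hv y hy => by
        show ⁅v, y⁆ ∈ C0
        rw [commutatorElement_eq_one_iff_mul_comm.2 (hv.2.1 y hy).symm]; exact one_mem _)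
    exact commutator_le.2 fun x hx y hy => hle hx y hy
  have hUpow : ∀ u ∈ U, u ^ p ∈ V := by
    let H : Subgroup G :=
      { carrier := {x | x ∈ U ∧ x ^ p ∈ V}
        one_mem' := ⟨one_mem _, by simp⟩
        mul_mem' := fun {a b} ha hb => ⟨mul_mem ha.1 hb.1, by
          set c := b⁻¹ * a⁻¹ * b * a with hc
          have hcC : c ∈ C0 := by
            have := hUQc (commutator_mem_commutator (inv_mem hb.1) (inv_mem (hUQ ha.1)))
            simpa [commutatorElement_def, hc] using this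
          rw [PGroups.ClassThree.mul_pow_formula (x := a) (y := b) (a := c) (b := 1) (e := 1)
            (by rw [hc]; group) (by rw [mul_one, mul_assoc, ← hcC.2 a (mem_top a)]; group)
            (by rw [mul_one, mul_assoc, ← hcC.2 b (mem_top b)]; group) (fun z => Commute.one_left z)
            (fun z => Commute.one_left z) p]
          simp only [one_pow, mul_one]
          exact mul_mem (mul_mem ha.2 hb.2) (pow_mem hcC.1 _)⟩
        inv_mem' := fun {a} ha => ⟨inv_mem ha.1, by rw [inv_pow]; exact inv_mem ha.2⟩ }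
    haveI : H.Normal := ⟨fun x hx k => ⟨conj_mem hx.1 k, by rw [conj_pow]; exact conj_mem hx.2 k⟩⟩
    have hle : U ≤ H := sup_le
      (normalClosure_le_normal fun t ht => ⟨hyU ht, by rw [(d.yel t ht).1]; exact one_mem _⟩)
      (fun v hv => ⟨hVU hv, pow_mem hv p⟩)
    exact fun u hu => (hle hu).2
  -- `Q` and its decomposition
  have hsupQ : Q ≤ Zy ⊔ (Q ⊓ Qz) := fun x hx => by
    have hx' : x ∈ Zy ⊔ Qz := d.supY.symm ▸ hQS hx
    obtain ⟨t, ht, z, hz, rfl⟩ := exists_mul ((d.yQ.trans hQS).trans d.nz) hx'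
    exact mul_mem (mem_sup_left ht) (mem_sup_right ⟨by simpa using mul_mem (inv_mem (d.yQ ht)) hx, hz⟩)
  have hΩU : Ω ≤ U := inf_le_left.trans hVU
  have hQW : ⁅Q, Zw⁆ ≤ U := (commutator_mono hsupQ le_rfl).trans
    (comm_sup_le ((commutator_mono hyU le_rfl).trans (commutator_le_left _ _)) (hDW.trans hΩU) (le_nz U))
  have hQU : ∃ k, Cfsg.iterCommutator Q ⊤ k ≤ U := by
    have hn : ∀ k, (Q.lowerCentralSeries k).Normal := fun k => by
      induction k with
      | zero => rw [Subgroup.lowerCentralSeries_zero]; infer_instance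
      | succ k ih => rw [Subgroup.lowerCentralSeries_succ]; infer_instance
    have hlQ : ∀ k, Q.lowerCentralSeries k ≤ Q := fun k => by
      induction k with
      | zero => exact (Subgroup.lowerCentralSeries_zero Q).le
      | succ k ih =>
        rw [Subgroup.lowerCentralSeries_succ]
        exact (commutator_mono ih le_rfl).trans (commutator_le_left _ _)
    have hk : ∀ k, Cfsg.iterCommutator Q ⊤ k ≤ Q.lowerCentralSeries k ⊔ U := by
      intro k
      induction k with
      | zero => rw [Subgroup.lowerCentralSeries_zero]; exact le_sup_left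
      | succ k ih =>
        haveI := hn k
        haveI := hn (k + 1)
        refine (commutator_mono ih le_rfl).trans (h.comm_top_le ?_)
        refine (commutator_mono le_rfl d.supW.ge).trans (sup_comm_le ?_ ?_ (le_nz _))
        · exact ((commutator_mono (sup_le (hlQ k) hUQ) le_rfl).trans hQW).trans le_sup_right
        · refine comm_sup_le ?_ ((commutator_le_left U Q).trans le_sup_right) (le_nz _)
          rw [← Subgroup.lowerCentralSeries_succ]; exact le_sup_left
    haveI : Group.IsNilpotent ↥Q := (h.isPGroup.to_le hQS).isNilpotent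
    obtain ⟨k, hk'⟩ := Subgroup.nilpotent_iff_lowerCentralSeries.1 ‹Group.IsNilpotent ↥Q›
    refine ⟨k, (hk k).trans (sup_le ?_ le_rfl)⟩
    have e : Q.lowerCentralSeries k = ((⊤ : Subgroup ↥Q).lowerCentralSeries k).map Q.subtype := by
      rw [Subgroup.map_lowerCentralSeries, ← MonoidHom.range_eq_map, range_subtype]
    rw [e, hk', Subgroup.map_bot]; exact bot_le
  -- `L`
  set L : Subgroup G := U ⊓ Qz with hL
  have hnL : S ≤ normalizer (L : Set G) := (le_inf (le_nz U) d.nz).trans inf_normalizer_le_normalizer_inf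
  have hSS : ⁅S, S⁆ ≤ Qz := by
    have hnn : Zy ⊔ Qz ≤ normalizer (Qz : Set G) := d.supY.le.trans d.nz
    have hyy : ⁅Zy, Qz⁆ ≤ Qz :=
      (commutator_comm_le _ _).trans (comm_le_left (le_sup_left.trans hnn))
    refine (commutator_mono d.supY.ge d.supY.ge).trans
      (comm_sup_le (sup_comm_le ?_ hyy hnn) (sup_comm_le ?_ (comm_le_left le_normalizer) hnn) hnn)
    · rw [comm_eq_bot fun a ha b hb => (d.yel a ha).2 b hb]; exact bot_le
    · exact comm_le_left (le_sup_left.trans hnn)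
  have hUS : ⁅U, S⁆ ≤ L :=
    le_inf (commutator_le_left _ _) ((commutator_mono (hUQ.trans hQS) le_rfl).trans hSS)
  have hVL : V ≤ L := le_inf hVU d.Vz
  have hLD : L ≤ Q ⊓ Qz := inf_le_inf_right _ hUQ
  have hLS : ⁅L, S⁆ ≤ Ω := (commutator_mono le_rfl d.supW.ge).trans
    (sup_comm_le ((commutator_mono hLD le_rfl).trans hDW)
      (((commutator_mono inf_le_left le_rfl).trans hUQc).trans hC0Ω) (d.supW.le.trans hΩn))
  have hidx : L.relIndex U ≤ Nat.card F := by
    rw [inf_relIndex_left]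
    refine le_trans (relIndex_le_of_le_right (hUQ.trans hQS) (PushingUpCL.relIndex_pos' _ _).ne') (le_of_eq ?_)
    · have e := PushingUpCL.card_mul_relIndex d.zS
      rw [d.cardQz, h.card_S, mul_comm (Nat.card F)] at e
      exact Nat.eq_of_mul_eq_mul_left Nat.card_pos e
  -- `K`
  set K : Subgroup G := L ⊓ L.map (MulAut.conj g).toMonoidHom with hK
  have hKV : ⁅K, (⊤ : Subgroup G)⁆ ≤ V := by
    rw [← d.opp]
    refine sup_comm_le (((commutator_mono inf_le_left le_rfl).trans hLS).trans inf_le_left) ?_ (le_nz V)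
    refine (commutator_mono inf_le_right le_rfl).trans ?_
    rw [← map_commutator]
    rintro _ ⟨x, hx, rfl⟩
    exact conj_mem (hLS hx).1 g
  have hVK : V ≤ K := le_inf hVL fun v hv =>
    ⟨g⁻¹ * v * g, hVL (by simpa using conj_mem hv g⁻¹), by simp [mul_assoc]⟩
  haveI hKn : K.Normal := normalizer_eq_top_iff.1
    (top_unique (le_normalizer_of_comm (hKV.trans hVK)))
  have hKL : K ≤ L := inf_le_left
  have hyL : ∀ t ∈ Zy, g⁻¹ * t * g ∈ L := fun t ht => by
    refine ⟨by simpa using conj_mem (hyU ht) g⁻¹, d.csz _ (hQS (hgQ t (d.yQ ht))) fun z hz => ?_⟩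
    calc g⁻¹ * t * g * z = g⁻¹ * (t * (g * z * g⁻¹)) * g := by group
      _ = g⁻¹ * (g * z * g⁻¹ * t) * g := by rw [d.commY t ht z hz]
      _ = _ := by group
  have hyfix : ∀ t ∈ Zy, (∀ x : G, x * t * x⁻¹ * t⁻¹ ∈ K) → t ∈ L := fun t ht hx => by
    have h1 := hKL (hx g⁻¹)
    have h2 := mul_mem (inv_mem h1) (hyL t ht)
    rwa [show (g⁻¹ * t * g⁻¹⁻¹ * t⁻¹)⁻¹ * (g⁻¹ * t * g) = t by group] at h2
  have hnt : ¬ ⁅U, (⊤ : Subgroup G)⁆ ≤ K := fun hle => by
    have hyz : Zy ≤ Qz := fun t ht => (hyfix t ht fun x => by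
      have := inv_mem (hle (commutator_mem_commutator (hyU ht) (mem_top x)))
      rwa [commutatorElement_inv, commutatorElement_def] at this).2
    have h1 := h.card_S
    rw [← d.supY, sup_eq_right.2 hyz, d.cardQz] at h1
    exact (Finite.one_lt_card (α := F)).ne'
      (Nat.eq_of_mul_eq_mul_right Nat.card_pos (h1.symm.trans (one_mul _).symm))
  have hfixU : ∀ u ∈ U, (∀ x : G, x * u * x⁻¹ * u⁻¹ ∈ K) → u ∈ K := fun u hu hfix => by
    have hu' : u ∈ Zy ⊔ Qz := d.supY.symm ▸ hQS (hUQ hu)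
    obtain ⟨t, ht, l, hl, rfl⟩ := exists_mul ((d.yQ.trans hQS).trans d.nz) hu'
    have hlU : l ∈ U := by simpa using mul_mem (inv_mem (hyU ht)) hu
    have hlL : l ∈ L := ⟨hlU, hl⟩
    have htL : t ∈ L := hyfix t ht fun x => by
      have hle : ⁅zpowers t, (⊤ : Subgroup G)⁆ ≤ K := by
        rw [← d.opp]
        refine sup_comm_le ?_ ?_ (le_nz K)
        · rw [commutator_le]
          intro a ha s hs
          obtain ⟨i, rfl⟩ := mem_zpowers_iff.1 ha
          let H : Subgroup G :=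
            { carrier := {a | ⁅a, s⁆ ∈ K}
              one_mem' := by simp
              mul_mem' := fun {a b} ha hb => by
                show ⁅a * b, s⁆ ∈ K
                rw [commutatorElement_mul_left_eq_conj_mul]; exact mul_mem (conj_mem hb a) ha
              inv_mem' := fun {a} ha => by
                show ⁅a⁻¹, s⁆ ∈ K
                rw [show ⁅a⁻¹, s⁆ = a⁻¹ * ⁅a, s⁆⁻¹ * a⁻¹⁻¹ by simp only [commutatorElement_def]; group]
                exact conj_mem (inv_mem ha) a⁻¹ }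
          refine H.zpow_mem ?_ i
          show ⁅t, s⁆ ∈ K
          have h1 : ⁅t * l, s⁆ ∈ K := by
            rw [← commutatorElement_inv, commutatorElement_def]; exact inv_mem (hfix s)
          have h2 : t * ⁅l, s⁆ * t⁻¹ ∈ K :=
            conj_mem (hVK (hLS (commutator_mem_commutator hlL hs)).1) t
          rw [commutatorElement_mul_left_eq_conj_mul] at h1
          have h3 := mul_mem (inv_mem h2) h1
          rwa [← mul_assoc, inv_mul_cancel, one_mul] at h3
        · exact (commutator_mono (zpowers_le.2 ht) le_rfl).trans (hyC.trans (inf_le_left.trans hVK))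
      have := inv_mem (hle (commutator_mem_commutator (mem_zpowers t) (mem_top x)))
      rwa [commutatorElement_inv, commutatorElement_def] at this
    refine ⟨mul_mem htL hlL, ⟨g⁻¹ * (t * l) * g, ?_, by simp [mul_assoc]⟩⟩
    have h1 := mul_mem (hKL (hfix g⁻¹)) (mul_mem htL hlL)
    rwa [show g⁻¹ * (t * l) * g⁻¹⁻¹ * (t * l)⁻¹ * (t * l) = g⁻¹ * (t * l) * g by group] at h1
  obtain ⟨ρ, hρ, hfU⟩ := h.exists_fac (W := K) (L := L) (hKL.trans inf_le_left)
    (((commutator_mono le_rfl hUQ).trans hUQc).trans (inf_le_left.trans hVK))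
    (hUQc.trans (inf_le_left.trans hVK)) hnt hfixU inf_le_left hKL hUS
    (hLS.trans (inf_le_left.trans hVK)) hidx
  have hVS : ⁅V, S⁆ ≤ centralizer (S : Set G) :=
    ((commutator_mono hVL le_rfl).trans hLS).trans inf_le_right
  obtain ⟨ρ', hρ', hfV⟩ := h.facV hVS
  obtain rfl := IsLift.unique h hρ' hρ
  refine ⟨ρ', U, L, K, ⟨hUn, hKn, hyU, hUQ, hVK, hKL, inf_le_left, rfl, hnL, hUQc, hUpow, hQU, hKV,
    hUS, hLS, hDW, hsupQ, hidx, hρ, hfV, hfU, h.ker_eq hρ fun x hx hco => ?_⟩⟩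
  have hP : IsPGroup p Q := h.isPGroup.to_le hQS
  have h0 : ∀ a ∈ C0, x * a = a * x := fun a ha => ha.2 x (mem_top x)
  have h1 := centralizes_fac hfV (hP.to_le hVQ) inf_le_left hco hx h0
  have h2 := centralizes_iter (A := K) (B := V) (k := 1) (hP.to_le ((hKL.trans inf_le_left).trans hUQ)) hco h1 hKV
  have h3 := centralizes_fac hfU (hP.to_le hUQ) (hKL.trans inf_le_left) hco hx h2
  obtain ⟨k, hk⟩ := hQU
  exact centralizes_iter hP hco h3 hk

end Sit

end Cfsg.Agent.CharP.PushOne
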