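import Cfsg.Agent.Lib.CharP.PushOne.TwoLayers

/-!
The weights of the diagonal element force characteristic three at critical distance two.
-/

set_option autoImplicit false
set_option linter.unusedSectionVars false

namespace Cfsg.Agent.CharP.PushOne

open Subgroup Cfsg.Agent.Classical.GL2 Matrix
open scoped MatrixGroups commutatorElement

variable {G : Type*} [Group G] [Finite G] {p : ℕ} [hp : Fact p.Prime]
  {F : Type} [Field F] [Fintype F] {S : Subgroup G} {φ : G →* PSL(2, F)}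
  {g : G} {Zy Zz Qz Zw : Subgroup G} {ρ : G →* SL(2, F)} {U L K : Subgroup G}

namespace Sit

variable (h : Sit p F S φ)
include h

theorem cast_eq_zero : (p : F) = 0 := by
  obtain ⟨s, hs, e⟩ := h.exists_u (1 : F)
  obtain ⟨k, hk⟩ := h.isPGroup ⟨s, hs⟩
  have hk' : s ^ p ^ k = 1 := congrArg Subtype.val hk
  have hu : ∀ n : ℕ, (uniSL (1 : F)) ^ n = uniSL (n : F) := fun n => by
    induction n with
    | zero => simp [uniSL_zero]
    | succ n ih => rw [pow_succ, ih, uniSL_mul, Nat.cast_succ]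
  have h1 := congrArg φ hk'
  rw [map_pow, e, ← map_pow, hu, map_one] at h1
  have h2 : ((p ^ k : ℕ) : F) = 0 := pi_uni_injective (h1.trans (by rw [uniSL_zero, map_one]))
  rw [Nat.cast_pow] at h2
  exact eq_zero_of_pow_eq_zero h2

theorem ringChar_eq : ringChar F = p := by
  have h1 := (ringChar.spec F p).1 h.cast_eq_zero
  rcases (Nat.dvd_prime hp.out).1 h1 with e | e
  · exact absurd e CharP.ringChar_ne_one
  · exact e

theorem uni_pow (hρ : IsLift S φ ρ) {s : G} {x : F} (hs : ρ s = uniSL x) (n : ℕ) :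
    ρ (s ^ n) = uniSL ((n : F) * x) := by
  induction n with
  | zero => simp [uniSL_zero]
  | succ n ih => rw [pow_succ, map_mul, ih, hs, uniSL_mul]; push_cast; ring_nf

theorem eq_three (d : TwoData p S g Zy Zz Qz Zw) (ly : Layers p S Zy Qz Zw φ ρ U L K) : p = 3 := by
  classical
  set V := PushingUpCL.omegaCore p G with hVd
  set Q := Cfsg.pCore p G with hQd
  haveI := ly.Un
  haveI := ly.Kn
  have hQS : Q ≤ S := h.core_le
  have hUS' : U ≤ S := ly.UQ.trans hQS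
  have hLS' : L ≤ S := ly.LU.trans hUS'
  have hwS : Zw ≤ S := d.wz.trans d.zS
  -- a pair
  obtain ⟨t, ht, htz⟩ : ∃ t ∈ Zy, t ∉ Qz := by
    by_contra hno
    push Not at hno
    have h1 := h.card_S
    rw [← d.supY, sup_eq_right.2 hno, d.cardQz] at h1
    exact (Finite.one_lt_card (α := F)).ne'
      (Nat.eq_of_mul_eq_mul_right Nat.card_pos (h1.symm.trans (one_mul _).symm))
  obtain ⟨s, hs, hsQ⟩ : ∃ s ∈ Zw, s ∉ Q := by
    by_contra hno
    push Not at hno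
    have h1 := h.card_S
    rw [← d.supW, sup_eq_right.2 hno] at h1
    exact (Finite.one_lt_card (α := F)).ne'
      (Nat.eq_of_mul_eq_mul_right Nat.card_pos (h1.symm.trans (one_mul _).symm))
  obtain ⟨hct, hcs⟩ := d.cs t ht htz s hs hsQ
  have hsS := hwS hs
  have htU := ly.yU ht
  set c := ⁅t, s⁆ with hc
  have hcL : c ∈ L := ly.US (commutator_mem_commutator htU hsS)
  have hcz : c ∈ Qz := (ly.Leq.le hcL).2
  have hr : ⁅c, s⁆ ∈ omS p S := ly.LS (commutator_mem_commutator hcL hsS)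
  have hrC : ⁅c, s⁆ ∉ centralizer ((⊤ : Subgroup G) : Set G) := d.cnc c hcz s hs hsQ hcs
  by_cases hp2 : p = 2
  · subst hp2
    exfalso
    have ht2 : t * t = 1 := by rw [← pow_two]; exact (d.yel t ht).1
    have hs2 : s * s = 1 := by rw [← pow_two]; exact (d.wel s hs).1
    have hti : t⁻¹ = t := inv_eq_of_mul_eq_one_right ht2
    have hsi : s⁻¹ = s := inv_eq_of_mul_eq_one_right hs2
    have e : ⁅c, t⁆ = ⁅c, s⁆ := by
      rw [hc]
      simp only [commutatorElement_def, _root_.mul_inv_rev, inv_inv, hti, hsi]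
      have hs3 : ∀ x, s * (s * x) = x := fun x => by rw [← mul_assoc, hs2, one_mul]
      simp only [mul_assoc, ht2, hs3, mul_one]
    refine hrC (e ▸ ?_)
    rw [← commutatorElement_inv t c]
    exact inv_mem (ly.UQc (commutator_mem_commutator htU (ly.UQ (ly.LU hcL)))).2
  obtain ⟨fV, hfVs, hfVk, hfV⟩ := ly.facV
  obtain ⟨fU, hfUs, hfUk, hfU⟩ := ly.facU
  let χ : G → F := fun x => if hx : x ∈ V then (fV ⟨x, hx⟩).toAdd 0 else 0
  have χV : ∀ x (hx : x ∈ V), χ x = (fV ⟨x, hx⟩).toAdd 0 := fun x hx => dif_pos hx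
  have χmul : ∀ x y, x ∈ V → y ∈ V → χ (x * y) = χ x + χ y := fun x y hx hy => by
    rw [χV x hx, χV y hy, χV (x * y) (mul_mem hx hy),
      show (⟨x * y, mul_mem hx hy⟩ : ↥V) = ⟨x, hx⟩ * ⟨y, hy⟩ from rfl, map_mul, toAdd_mul]
    rfl
  have χC : ∀ x ∈ omG p G, χ x = 0 := fun x hx => by
    rw [χV x hx.1, (hfVk ⟨x, hx.1⟩).2 hx]; rfl
  have χone : χ 1 = 0 := χC 1 (one_mem _)
  -- the first commutator map
  have hΩV : ∀ {x}, x ∈ omS p S → x ∈ V := fun hx => hx.1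
  have hΩc : ∀ {x}, x ∈ omS p S → ∀ b ∈ S, ⁅x, b⁆ = 1 := fun hx b hb =>
    commutatorElement_eq_one_iff_mul_comm.2 (hx.2 b hb).symm
  have hL1 : ∀ l ∈ L, ∀ b ∈ S, ⁅l, b⁆ ∈ omS p S := fun l hl b hb =>
    ly.LS (commutator_mem_commutator hl hb)
  have addl : ∀ l ∈ L, ∀ l' ∈ L, ∀ b ∈ S, χ ⁅l * l', b⁆ = χ ⁅l, b⁆ + χ ⁅l', b⁆ := by
    intro l hl l' hl' b hb
    rw [commutatorElement_mul_left_eq_conj_mul,
      show l * ⁅l', b⁆ * l⁻¹ = ⁅l', b⁆ by rw [(hL1 l' hl' b hb).2 l (hLS' hl), mul_inv_cancel_right],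
      χmul _ _ (hΩV (hL1 l' hl' b hb)) (hΩV (hL1 l hl b hb)), add_comm]
  have addb : ∀ l ∈ L, ∀ a ∈ S, ∀ b ∈ S, χ ⁅l, a * b⁆ = χ ⁅l, a⁆ + χ ⁅l, b⁆ := by
    intro l hl a ha b hb
    rw [commutatorElement_mul_right_eq_mul_conj,
      show ⁅l, a⁆ * a * ⁅l, b⁆ * a⁻¹ = ⁅l, a⁆ * (a * ⁅l, b⁆ * a⁻¹) by group,
      show a * ⁅l, b⁆ * a⁻¹ = ⁅l, b⁆ by rw [(hL1 l hl b hb).2 a ha, mul_inv_cancel_right],
      χmul _ _ (hΩV (hL1 l hl a ha)) (hΩV (hL1 l hl b hb))]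
  -- the second one
  let T : G → G → G → F := fun u a b => χ ⁅⁅u, a⁆, b⁆
  have hU1 : ∀ u ∈ U, ∀ a ∈ S, ⁅u, a⁆ ∈ L := fun u hu a ha => ly.US (commutator_mem_commutator hu ha)
  have hΩL : ∀ {x}, x ∈ omS p S → x ∈ L := fun hx => ly.KL (ly.VK hx.1)
  have hcj : ∀ a ∈ S, ∀ l ∈ L, ∀ b ∈ S, χ ⁅a * l * a⁻¹, b⁆ = χ ⁅l, b⁆ := by
    intro a ha l hl b hb
    have h1 : ⁅a, l⁆ ∈ omS p S := by
      rw [← commutatorElement_inv l a]; exact inv_mem (hL1 l hl a ha)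
    rw [show a * l * a⁻¹ = ⁅a, l⁆ * l by rw [commutatorElement_def]; group,
      addl _ (hΩL h1) l hl b hb, hΩc h1 b hb, χone, zero_add]
  have Tu : ∀ u ∈ U, ∀ u' ∈ U, ∀ a ∈ S, ∀ b ∈ S, T (u * u') a b = T u a b + T u' a b := by
    intro u hu u' hu' a ha b hb
    show χ ⁅⁅u * u', a⁆, b⁆ = _
    rw [commutatorElement_mul_left_eq_conj_mul,
      addl _ ((mem_normalizer_iff.1 (ly.nL (hUS' hu)) _).1 (hU1 u' hu' a ha)) _ (hU1 u hu a ha) b hb,
      hcj u (hUS' hu) _ (hU1 u' hu' a ha) b hb, add_comm]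
  have Ta : ∀ u ∈ U, ∀ a ∈ S, ∀ a' ∈ S, ∀ b ∈ S, T u (a * a') b = T u a b + T u a' b := by
    intro u hu a ha a' ha' b hb
    show χ ⁅⁅u, a * a'⁆, b⁆ = _
    rw [commutatorElement_mul_right_eq_mul_conj,
      show ⁅u, a⁆ * a * ⁅u, a'⁆ * a⁻¹ = ⁅u, a⁆ * (a * ⁅u, a'⁆ * a⁻¹) by group,
      addl _ (hU1 u hu a ha) _ ((mem_normalizer_iff.1 (ly.nL ha) _).1 (hU1 u hu a' ha')) b hb,
      hcj a ha _ (hU1 u hu a' ha') b hb]
  have Tb : ∀ u ∈ U, ∀ a ∈ S, ∀ b ∈ S, ∀ b' ∈ S, T u a (b * b') = T u a b + T u a b' :=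
    fun u hu a ha b hb b' hb' => addb _ (hU1 u hu a ha) b hb b' hb'
  have TL : ∀ l ∈ L, ∀ a ∈ S, ∀ b ∈ S, T l a b = 0 := fun l hl a ha b hb => by
    show χ ⁅⁅l, a⁆, b⁆ = 0
    rw [hΩc (hL1 l hl a ha) b hb, χone]
  have TQa : ∀ u ∈ U, ∀ q ∈ Q, ∀ b ∈ S, T u q b = 0 := fun u hu q hq b hb => by
    show χ ⁅⁅u, q⁆, b⁆ = 0
    rw [commutatorElement_eq_one_iff_mul_comm.2
      ((ly.UQc (commutator_mem_commutator hu hq)).2 b (mem_top b)).symm, χone]
  have TQb : ∀ u ∈ U, ∀ a ∈ S, ∀ q ∈ Q, T u a q = 0 := fun u hu a ha q hq =>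
    χC _ (ly.UQc (commutator_mem_commutator (ly.LU (hU1 u hu a ha)) hq))
  have Tupow : ∀ u ∈ U, ∀ a ∈ S, ∀ b ∈ S, ∀ n : ℕ, T (u ^ n) a b = (n : F) * T u a b := by
    intro u hu a ha b hb n
    induction n with
    | zero => rw [pow_zero, TL 1 (one_mem L) a ha b hb]; simp
    | succ n ih => rw [pow_succ, Tu _ (pow_mem hu n) u hu a ha b hb, ih]; push_cast; ring
  have Tapow : ∀ u ∈ U, ∀ a ∈ S, ∀ b ∈ S, ∀ n : ℕ, T u (a ^ n) b = (n : F) * T u a b := by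
    intro u hu a ha b hb n
    induction n with
    | zero => rw [pow_zero, TQa u hu 1 (one_mem Q) b hb]; simp
    | succ n ih => rw [pow_succ, Ta u hu _ (pow_mem ha n) a ha b hb, ih]; push_cast; ring
  have Tbpow : ∀ u ∈ U, ∀ a ∈ S, ∀ b ∈ S, ∀ n : ℕ, T u a (b ^ n) = (n : F) * T u a b := by
    intro u hu a ha b hb n
    induction n with
    | zero => rw [pow_zero, TQb u hu a ha 1 (one_mem Q)]; simp
    | succ n ih => rw [pow_succ, Tb u hu a ha _ (pow_mem hb n) b hb, ih]; push_cast; ring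
  -- second coordinates
  obtain ⟨u1, hu1, hu1φ⟩ := h.exists_u (1 : F)
  have hρu1 : ρ u1 = uniSL 1 := ly.lift.2.2 u1 hu1 1 hu1φ
  have hrV := hΩV hr
  have hr1 : (fV ⟨_, hrV⟩).toAdd 1 = 0 := by
    have h1 := hfV u1 ⟨_, hrV⟩ ⟨_, hrV⟩ (by
      show ⁅c, s⁆ = u1 * ⁅c, s⁆ * u1⁻¹
      rw [hr.2 u1 hu1, mul_inv_cancel_right])
    rw [hρu1] at h1
    simpa [coe_uniSL, Matrix.mulVec, dotProduct, Fin.sum_univ_two] using congrFun h1 0
  have hTne : T t s s ≠ 0 := by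
    show χ ⁅c, s⁆ ≠ 0
    rw [χV _ hrV]
    intro e
    refine hrC ((hfVk ⟨_, hrV⟩).1 (Multiplicative.toAdd.injective ?_)).2
    funext i
    fin_cases i
    · simpa using e
    · simpa using hr1
  have hmemL : ∀ w : ↥U, (fU w).toAdd 1 = 0 → (w : G) ∈ L := by
    let f1 : ↥U →* Multiplicative F :=
      (AddMonoidHom.toMultiplicative (Pi.evalAddMonoidHom (fun _ : Fin 2 => F) 1)).comp fU
    have hf1 : Function.Surjective f1 := fun x => by
      obtain ⟨u, hu⟩ := hfUs (Multiplicative.ofAdd ![0, x.toAdd])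
      exact ⟨u, by show Multiplicative.ofAdd ((fU u).toAdd 1) = x; rw [hu]; simp⟩
    have hLf : L.subgroupOf U ≤ f1.ker := fun l hl => by
      rw [mem_subgroupOf] at hl
      show Multiplicative.ofAdd ((fU l).toAdd 1) = 1
      rw [ofAdd_eq_one]
      have h1 := hfU u1 l ⟨u1 * l * u1⁻¹, conj_mem l.2 u1⟩ rfl
      have hk : u1 * (l : G) * u1⁻¹ * (l : G)⁻¹ ∈ K := by
        have := inv_mem (hL1 _ hl u1 hu1)
        rw [commutatorElement_inv, commutatorElement_def] at this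
        exact ly.VK this.1
      have h2 := (hfUk (⟨u1 * l * u1⁻¹, conj_mem l.2 u1⟩ * l⁻¹)).2 hk
      rw [map_mul, map_inv, mul_inv_eq_one] at h2
      rw [h2, hρu1] at h1
      simpa [coe_uniSL, Matrix.mulVec, dotProduct, Fin.sum_univ_two] using congrFun h1 0
    have hk : f1.ker.index = Nat.card F := by
      rw [Subgroup.index_ker, MonoidHom.range_eq_top.2 hf1, card_top]
      exact Nat.card_congr Multiplicative.toAdd
    have he : L.subgroupOf U = f1.ker := by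
      refine eq_of_le_of_card_ge hLf ?_
      have e1 := (L.subgroupOf U).card_mul_index
      have e2 := f1.ker.card_mul_index
      rw [hk] at e2
      have e3 : (L.subgroupOf U).index ≤ Nat.card F := ly.idx
      refine Nat.le_of_mul_le_mul_right ?_ (Nat.card_pos (α := F))
      rw [e2, ← e1]
      exact Nat.mul_le_mul_left _ e3
    intro w hw
    have hw' : w ∈ f1.ker := by show Multiplicative.ofAdd ((fU w).toAdd 1) = 1; rw [hw, ofAdd_zero]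
    rw [← he] at hw'
    exact mem_subgroupOf.1 hw'
  -- the diagonal element
  have hodd : Odd p := hp.out.odd_of_ne_two hp2
  have h2 : (2 : F) ≠ 0 := fun e => hp2 (by
    have h3 : ringChar F ∣ 2 := (ringChar.spec F 2).1 (by exact_mod_cast e)
    rw [h.ringChar_eq] at h3
    exact (Nat.prime_dvd_prime_iff_eq hp.out Nat.prime_two).1 h3)
  obtain ⟨j, hj⟩ : ∃ j : ℕ, 2 * j = p + 1 := ⟨(p + 1) / 2, by obtain ⟨k, hk⟩ := hodd; omega⟩
  have hj2 : (2 : F) * (j : F) = 1 := by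
    have h1 := congrArg (fun n : ℕ => (n : F)) hj
    push_cast [h.cast_eq_zero] at h1
    rw [h1, zero_add]
  obtain ⟨k, hk⟩ := ly.lift.2.1 (dSL (Units.mk0 2 h2))
  have hkS : ∀ x ∈ S, k * x * k⁻¹ ∈ S ∧ ∀ y : F, ρ x = uniSL y → ρ (k * x * k⁻¹) = uniSL (2 * 2 * y) := by
    intro x hx
    obtain ⟨y0, hy0⟩ := h.exists_x hx
    have hy := ly.lift.2.2 x hx y0 hy0
    have e : ∀ y : F, ρ x = uniSL y → ρ (k * x * k⁻¹) = uniSL (2 * 2 * y) := fun y hy => by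
      rw [map_mul, map_mul, map_inv, hk, hy, d_conj_uni, Units.val_mk0]
    refine ⟨?_, e⟩
    obtain ⟨x', hx', hx'φ⟩ := h.exists_u (2 * 2 * y0)
    have h1 : x'⁻¹ * (k * x * k⁻¹) ∈ ρ.ker := by
      rw [MonoidHom.mem_ker, map_mul, map_inv, ly.lift.2.2 x' hx' _ hx'φ, e y0 hy, inv_mul_cancel]
    rw [ly.ker] at h1
    simpa using mul_mem hx' (hQS h1)
  obtain ⟨x0, hx0⟩ := h.exists_x hsS
  have hρs := ly.lift.2.2 s hsS x0 hx0
  obtain ⟨hksS, hksρ⟩ := hkS s hsS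
  set q := (s ^ 4)⁻¹ * (k * s * k⁻¹) with hq
  have hqQ : q ∈ Q := by
    rw [hQd, ← ly.ker, MonoidHom.mem_ker, hq, map_mul, map_inv, h.uni_pow ly.lift hρs 4, hksρ x0 hρs]
    rw [show ((4 : ℕ) : F) * x0 = 2 * 2 * x0 by push_cast; ring, inv_mul_cancel]
  have hksd : k * s * k⁻¹ = s ^ 4 * q := by rw [hq, mul_inv_cancel_left]
  set w := k * t * k⁻¹ * (t ^ j)⁻¹ with hw
  have hktU : k * t * k⁻¹ ∈ U := conj_mem htU k
  have hwL : w ∈ L := by
    refine hmemL ⟨w, mul_mem hktU (inv_mem (pow_mem htU j))⟩ ?_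
    have e : (⟨w, mul_mem hktU (inv_mem (pow_mem htU j))⟩ : ↥U) =
        ⟨k * t * k⁻¹, hktU⟩ * (⟨t, htU⟩ ^ j)⁻¹ := Subtype.ext (by simp [hw])
    rw [e, map_mul, map_inv, map_pow, toAdd_mul, toAdd_inv, toAdd_pow,
      hfU k ⟨t, htU⟩ ⟨_, hktU⟩ rfl, hk]
    simp [coe_dSL, Matrix.mulVec, dotProduct, Fin.sum_univ_two]
    rw [inv_eq_of_mul_eq_one_right hj2]
    ring
  have hktd : k * t * k⁻¹ = w * t ^ j := by rw [hw, inv_mul_cancel_right]
  have htj := pow_mem htU j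
  have hs4 := pow_mem hsS 4
  have hqS := hQS hqQ
  have e1 : T (k * t * k⁻¹) (k * s * k⁻¹) (k * s * k⁻¹) = (j : F) * 4 * 4 * T t s s := by
    rw [hktd, hksd, Tu w (ly.LU hwL) _ htj _ (mul_mem hs4 hqS) _ (mul_mem hs4 hqS),
      TL w hwL _ (mul_mem hs4 hqS) _ (mul_mem hs4 hqS), zero_add,
      Ta _ htj _ hs4 q hqS _ (mul_mem hs4 hqS), TQa _ htj q hqQ _ (mul_mem hs4 hqS), add_zero,
      Tb _ htj _ hs4 _ hs4 q hqS, TQb _ htj _ hs4 q hqQ, add_zero,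
      Tupow t htU _ hs4 _ hs4 j, Tapow t htU s hsS _ hs4 4, Tbpow t htU s hsS s hsS 4]
    push_cast; ring
  have e2 : T (k * t * k⁻¹) (k * s * k⁻¹) (k * s * k⁻¹) = 2 * T t s s := by
    show χ ⁅⁅k * t * k⁻¹, k * s * k⁻¹⁆, k * s * k⁻¹⁆ = 2 * χ ⁅⁅t, s⁆, s⁆
    rw [show ⁅⁅k * t * k⁻¹, k * s * k⁻¹⁆, k * s * k⁻¹⁆ = k * ⁅c, s⁆ * k⁻¹ by
      rw [hc]; simp only [commutatorElement_def]; group]
    rw [χV _ (conj_mem hrV k), χV _ hrV, hfV k ⟨_, hrV⟩ ⟨_, conj_mem hrV k⟩ rfl, hk]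
    simp [coe_dSL, Matrix.mulVec, dotProduct, Fin.sum_univ_two]
  have h12 : ((12 : ℕ) : F) = 0 := by
    have e3 := e1.symm.trans e2
    have e4 : ((j : F) * 4 * 4 - 2) * T t s s = 0 := by rw [sub_mul, e3, sub_self]
    have e5 := (mul_eq_zero.1 e4).resolve_right hTne
    push_cast
    linear_combination 2 * e5 - 16 * hj2
  have hdvd : p ∣ 12 := h.ringChar_eq ▸ (ringChar.spec F 12).1 h12
  rw [show (12 : ℕ) = 2 * 2 * 3 by norm_num] at hdvd
  rcases (Nat.Prime.dvd_mul hp.out).1 hdvd with h4 | h4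
  · rcases (Nat.Prime.dvd_mul hp.out).1 h4 with h5 | h5 <;>
      exact absurd ((Nat.prime_dvd_prime_iff_eq hp.out Nat.prime_two).1 h5) hp2
  · exact (Nat.prime_dvd_prime_iff_eq hp.out Nat.prime_three).1 h4

end Sit

end Cfsg.Agent.CharP.PushOne
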